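import Cfsg.Agent.Lib.PiHomog3258.Local74.Rank

/-!
# Automorphisms of odd order of a 2-group of type `U₃(4)` fixing the centre
-/

set_option autoImplicit false
set_option linter.unusedSectionVars false
set_option linter.style.haveILetI false

namespace Cfsg.Agent.Lib.PiHomog3258.Local74

open Subgroup

universe u

variable {T : Type u} [Group T] [Finite T]

/-- The elements with a given square. -/
abbrev Fib (z : T) : Type u := {x : T // x * x = z}

theorem card_fib (D : Sixty4 T)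
    (htr : ∀ z ∈ center T, z ≠ 1 → ∀ z' ∈ center T, z' ≠ 1 → ∃ α : MulAut T, α z = z')
    {z : T} (hz : z ∈ center T) (hz1 : z ≠ 1) : Nat.card (Fib z) = 20 := by
  classical
  letI := Fintype.ofFinite T
  letI := Fintype.ofFinite ↥(center T)
  let sq : T → ↥(center T) := fun x => ⟨x * x, D.sq x⟩
  have hf : ∀ c : ↥(center T), (Finset.univ.filter fun x => sq x = c).card = Nat.card (Fib (c : T)) := by
    intro c
    rw [Nat.card_eq_fintype_card, Fintype.card_subtype]
    congr 1
    ext x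
    simp [sq, Subtype.ext_iff]
  have hone : (Finset.univ.filter fun x => sq x = 1).card = 4 := by
    rw [hf, ← D.card_center]
    exact Nat.card_congr (Equiv.subtypeEquivRight fun x =>
      ⟨fun h => D.invol x h, fun h => D.center_sq x h⟩)
  have heq : ∀ c ∈ (Finset.univ : Finset ↥(center T)).erase 1,
      (Finset.univ.filter fun x => sq x = c).card = Nat.card (Fib z) := by
    intro c hc
    obtain ⟨α, hα⟩ := htr z hz hz1 c c.2 fun h => (Finset.mem_erase.1 hc).1 (Subtype.ext h)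
    rw [hf]
    refine (Nat.card_congr (α.toEquiv.subtypeEquiv fun x => ?_)).symm
    show x * x = z ↔ α x * α x = c
    rw [← hα, ← map_mul, α.apply_eq_iff_eq]
  have hsum := Finset.card_eq_sum_card_fiberwise (f := sq) (s := Finset.univ) (t := Finset.univ)
    fun _ _ => Finset.mem_univ _
  rw [Finset.card_univ, ← Nat.card_eq_fintype_card, D.card,
    ← Finset.add_sum_erase _ _ (Finset.mem_univ (1 : ↥(center T))), hone,
    Finset.sum_congr rfl heq, Finset.sum_const, Finset.card_erase_of_mem (Finset.mem_univ _),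
    Finset.card_univ, ← Nat.card_eq_fintype_card, D.card_center, smul_eq_mul] at hsum
  omega

/-- The fixed points of an automorphism. -/
def fixSub (τ : MulAut T) : Subgroup T := τ.toMonoidHom.eqLocus (MonoidHom.id T)

theorem mem_fixSub {τ : MulAut T} {x : T} : x ∈ fixSub τ ↔ τ x = x := Iff.rfl

/-- The fixed points in a fibre. -/
abbrev FixFib (τ : MulAut T) (z : T) : Type u := {x : T // x * x = z ∧ τ x = x}

theorem four_dvd_fixFib (D : Sixty4 T) {τ : MulAut T} (hτ : ∀ z ∈ center T, τ z = z)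
    (z : T) : 4 ∣ Nat.card (FixFib τ z) := by
  let A : Set T := {x | x * x = z ∧ τ x = x}
  have hA : QuotientGroup.mk (s := center T) ⁻¹' (QuotientGroup.mk '' A) = A := by
    refine Set.Subset.antisymm ?_ (Set.subset_preimage_image _ _)
    rintro x ⟨y, ⟨hy, hτy⟩, hxy⟩
    rw [QuotientGroup.eq] at hxy
    obtain ⟨c, hc, rfl⟩ : ∃ c ∈ center T, x = y * c :=
      ⟨y⁻¹ * x, hxy, (mul_inv_cancel_left y x).symm⟩
    refine ⟨?_, by rw [map_mul, hτy, hτ c hc]⟩
    calc y * c * (y * c) = y * (c * y) * c := by group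
      _ = y * (y * c) * c := by rw [(mem_center_iff.1 hc y).symm]
      _ = (y * y) * (c * c) := by group
      _ = z := by rw [hy, D.center_sq c hc, mul_one]
  show 4 ∣ Nat.card A
  rw [← hA, Nat.card_congr (QuotientGroup.preimageMkEquivSubgroupProdSet (center T) _),
    Nat.card_prod, D.card_center]
  exact dvd_mul_right 4 _

/-- Fixed points of an automorphism of order dividing `p` in a fibre. -/
theorem fixFib_modEq (D : Sixty4 T) {p : ℕ} [hp : Fact p.Prime]
    (htr : ∀ z ∈ center T, z ≠ 1 → ∀ z' ∈ center T, z' ≠ 1 → ∃ α : MulAut T, α z = z')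
    {τ : MulAut T} (hp1 : τ ^ p = 1) (hτ : ∀ z ∈ center T, τ z = z) {z : T} (hz : z ∈ center T)
    (hz1 : z ≠ 1) :
    20 % p = Nat.card (FixFib τ z) % p ∧ Nat.card (FixFib τ z) ≤ 20 := by
  have hP : IsPGroup p ↥(zpowers τ) := by
    obtain ⟨k, -, hk⟩ := (Nat.dvd_prime_pow hp.out).1
      (show orderOf τ ∣ p ^ 1 by rw [pow_one]; exact orderOf_dvd_of_pow_eq_one hp1)
    exact IsPGroup.of_card (n := k) (by rw [Nat.card_zpowers, hk])
  have hpres : ∀ (β : ↥(zpowers τ)) (x : Fib z),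
      (β : MulAut T) x.1 * (β : MulAut T) x.1 = z := by
    rintro ⟨_, i, rfl⟩ ⟨x, hx⟩
    show (τ ^ i) x * (τ ^ i) x = z
    rw [← map_mul, hx]
    have h2 : τ ∈ MulAction.stabilizer (MulAut T) z := hτ z hz
    exact zpow_mem h2 i
  letI : MulAction ↥(zpowers τ) (Fib z) :=
    { smul := fun β x => ⟨(β : MulAut T) x.1, hpres β x⟩
      one_smul := fun x => Subtype.ext rfl
      mul_smul := fun β γ x => Subtype.ext rfl }
  have e : MulAction.fixedPoints ↥(zpowers τ) (Fib z) ≃ FixFib τ z :=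
    { toFun := fun x => ⟨x.1.1, x.1.2, congrArg Subtype.val (x.2 ⟨τ, mem_zpowers τ⟩)⟩
      invFun := fun x => ⟨⟨x.1, x.2.1⟩, fun β => by
        obtain ⟨_, i, rfl⟩ := β
        refine Subtype.ext ?_
        have h2 : τ ∈ MulAction.stabilizer (MulAut T) x.1 := x.2.2
        exact zpow_mem h2 i⟩
      left_inv := fun _ => rfl
      right_inv := fun _ => rfl }
  have h := hP.card_modEq_card_fixedPoints (Fib z)
  rw [card_fib D htr hz hz1, Nat.card_congr e] at h
  refine ⟨h, ?_⟩
  rw [← card_fib D htr hz hz1]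
  exact Nat.card_le_card_of_injective (fun x : FixFib τ z => (⟨x.1, x.2.1⟩ : Fib z))
    fun x y hxy => Subtype.ext (congrArg (fun v : Fib z => v.1) hxy)

theorem arith_fix {p f₁ f₂ f₃ : ℕ} (hp : p.Prime) (hp2 : p ≠ 2) (h₁ : 20 % p = f₁ % p)
    (h₂ : 20 % p = f₂ % p) (h₃ : 20 % p = f₃ % p) (d₁ : 4 ∣ f₁) (d₂ : 4 ∣ f₂) (d₃ : 4 ∣ f₃)
    (b₁ : f₁ ≤ 20) (b₂ : f₂ ≤ 20) (b₃ : f₃ ≤ 20) (hpos : f₁ ≠ 0) : 19 ≤ 4 + f₁ + f₂ + f₃ := by
  obtain ⟨c₁, rfl⟩ := d₁
  obtain ⟨c₂, rfl⟩ := d₂
  obtain ⟨c₃, rfl⟩ := d₃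
  rcases le_or_gt p 20 with h | h
  · have := hp.two_le
    interval_cases p <;> first | omega | exact absurd hp (by norm_num)
  · have : ∀ c, 4 * c ≤ 20 → (4 * c) % p = 4 * c := fun c hc => Nat.mod_eq_of_lt (by omega)
    rw [this c₁ b₁, Nat.mod_eq_of_lt h] at h₁
    omega

/-- An automorphism of odd prime order fixing the centre and an element outside it is trivial. -/
theorem eq_one_of_fixed (D : Sixty4 T) {p : ℕ} [hp : Fact p.Prime] (hp2 : p ≠ 2)
    (htr : ∀ z ∈ center T, z ≠ 1 → ∀ z' ∈ center T, z' ≠ 1 → ∃ α : MulAut T, α z = z')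
    {τ : MulAut T} (hp1 : τ ^ p = 1) (hτ : ∀ z ∈ center T, τ z = z) {x : T} (hx : x ∉ center T)
    (hfix : τ x = x) : τ = 1 := by
  classical
  have hcF : center T ≤ fixSub τ := fun z hz => hτ z hz
  set z₁ := x * x with hz₁
  have hz1 : z₁ ≠ 1 := fun h => hx (D.invol x h)
  obtain ⟨⟨z₂, hz2c⟩, hz2⟩ := not_forall.1 fun h : ∀ c : ↥(center T), (c : T) = 1 ∨ (c : T) = z₁ => by
    have hle : Nat.card ↥(center T) ≤ 2 := by
      letI := Fintype.ofFinite ↥(center T)
      rw [Nat.card_eq_fintype_card]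
      refine le_trans (Finset.card_le_card
        (t := {1, ⟨z₁, D.sq x⟩}) fun c _ => ?_) Finset.card_le_two
      rcases h c with hc | hc <;> simp [Subtype.ext_iff, hc]
    rw [D.card_center] at hle
    omega
  push Not at hz2
  obtain ⟨hz21, hz22⟩ := hz2
  have hz3c : z₁ * z₂ ∈ center T := mul_mem (D.sq x) hz2c
  have hz31 : z₁ * z₂ ≠ 1 := fun h => hz22 (by
    rw [eq_comm]; exact mul_left_cancel ((D.center_sq z₁ (D.sq x)).trans h.symm))
  have hz1c : z₁ ∈ center T := D.sq x
  obtain ⟨m₁, b₁⟩ := fixFib_modEq (p := p) D htr hp1 hτ hz1c hz1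
  obtain ⟨m₂, b₂⟩ := fixFib_modEq (p := p) D htr hp1 hτ hz2c hz21
  obtain ⟨m₃, b₃⟩ := fixFib_modEq (p := p) D htr hp1 hτ hz3c hz31
  have hpos : Nat.card (FixFib τ z₁) ≠ 0 := by
    haveI : Nonempty (FixFib τ z₁) := ⟨⟨x, rfl, hfix⟩⟩
    exact Nat.card_pos.ne'
  have h19 := arith_fix hp.out hp2 m₁ m₂ m₃ (four_dvd_fixFib D hτ _) (four_dvd_fixFib D hτ _)
    (four_dvd_fixFib D hτ _) b₁ b₂ b₃ hpos
  have hsum : 4 + Nat.card (FixFib τ z₁) + Nat.card (FixFib τ z₂) + Nat.card (FixFib τ (z₁ * z₂)) ≤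
      Nat.card ↥(fixSub τ) := by
    rw [← D.card_center, ← Nat.card_sum, ← Nat.card_sum, ← Nat.card_sum]
    let F : ((↥(center T) ⊕ FixFib τ z₁) ⊕ FixFib τ z₂) ⊕ FixFib τ (z₁ * z₂) → ↥(fixSub τ) :=
      Sum.elim (Sum.elim (Sum.elim (fun c => ⟨c, hcF c.2⟩) fun y => ⟨y.1, y.2.2⟩)
        fun y => ⟨y.1, y.2.2⟩) fun y => ⟨y.1, y.2.2⟩
    let sqf : ((↥(center T) ⊕ FixFib τ z₁) ⊕ FixFib τ z₂) ⊕ FixFib τ (z₁ * z₂) → T :=
      Sum.elim (Sum.elim (Sum.elim (fun _ => 1) fun _ => z₁) fun _ => z₂) fun _ => z₁ * z₂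
    have hsq : ∀ u, (F u : T) * F u = sqf u := by
      rintro (((c | y) | y) | y)
      · exact D.center_sq c c.2
      all_goals exact y.2.1
    refine Nat.card_le_card_of_injective F fun u v huv => ?_
    have h1 : sqf u = sqf v := by rw [← hsq, ← hsq, huv]
    have e1 : z₁ * z₂ ≠ z₁ := fun h => hz21 (mul_eq_left.1 h)
    have e2 : z₁ * z₂ ≠ z₂ := fun h => hz1 (mul_eq_right.1 h)
    have h2 := congrArg Subtype.val huv
    rcases u with (((c | y) | y) | y) <;> rcases v with (((d | w) | w) | w) <;>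
      simp only [sqf, F, Sum.elim_inl, Sum.elim_inr] at h1 h2 <;>
      first
        | exact congrArg (fun e => Sum.inl (Sum.inl (Sum.inl e))) (Subtype.ext h2)
        | exact congrArg (fun e => Sum.inl (Sum.inl (Sum.inr e))) (Subtype.ext h2)
        | exact congrArg (fun e => Sum.inl (Sum.inr e)) (Subtype.ext h2)
        | exact congrArg Sum.inr (Subtype.ext h2)
        | exact absurd h1 hz1
        | exact absurd h1.symm hz1
        | exact absurd h1 hz21
        | exact absurd h1.symm hz21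
        | exact absurd h1 hz22
        | exact absurd h1.symm hz22
        | exact absurd h1 hz31
        | exact absurd h1.symm hz31
        | exact absurd h1 e1
        | exact absurd h1.symm e1
        | exact absurd h1 e2
        | exact absurd h1.symm e2
  have hidx : fixSub τ = ⊤ ∨ (fixSub τ).index = 2 := by
    have h := (fixSub τ).card_mul_index
    rw [D.card] at h
    obtain ⟨k, -, hk⟩ := (Nat.dvd_prime_pow Nat.prime_two).1
      (show (fixSub τ).index ∣ 2 ^ 6 from ⟨Nat.card ↥(fixSub τ), by rw [mul_comm]; omega⟩)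
    rw [hk] at h ⊢
    rcases Nat.lt_or_ge k 2 with hk2 | hk2
    · interval_cases k
      · left
        exact eq_top_of_card_eq _ (by rw [D.card]; omega)
      · right; rfl
    · exfalso
      have h4 : 4 ≤ 2 ^ k := by
        calc 4 = 2 ^ 2 := by norm_num
          _ ≤ _ := Nat.pow_le_pow_right (by norm_num) hk2
      have : Nat.card ↥(fixSub τ) * 4 ≤ 64 := h ▸ Nat.mul_le_mul_left _ h4
      omega
  rcases hidx with htop | hidx
  · exact MulEquiv.ext fun y => mem_fixSub.1 (htop.ge (mem_top y))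
  exfalso
  obtain ⟨y, hy⟩ := not_forall.1 fun h : ∀ y, y ∈ fixSub τ => by
    rw [(eq_top_iff.2 fun y _ => h y : fixSub τ = ⊤), index_top] at hidx
    omega
  set u := τ y * y⁻¹ with hu
  have huc : u ∉ center T := by
    intro huc
    -- then `τ` has order dividing `2` on `⟨y⟩ Z`
    have hpow : ∀ k : ℕ, (τ ^ k) y = u ^ k * y := by
      intro k
      induction k with
      | zero => simp
      | succ k ih =>
        rw [pow_succ', MulAut.mul_apply, ih, map_mul, map_pow, hτ u huc, pow_succ, mul_assoc]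
        congr 1
        rw [hu, inv_mul_cancel_right]
    have h1 := hpow p
    rw [hp1, MulAut.one_apply, eq_comm, mul_eq_right] at h1
    have h2 : u ^ 2 = 1 := by rw [pow_two]; exact D.center_sq u huc
    have h3 := orderOf_eq_one_iff.1 (Nat.eq_one_of_dvd_coprimes
      ((Nat.coprime_primes hp.out Nat.prime_two).2 hp2) (orderOf_dvd_of_pow_eq_one h1)
      (orderOf_dvd_of_pow_eq_one h2))
    exact hy (mem_fixSub.2 (mul_inv_eq_one.1 h3))
  have hcomm : ∀ w ∈ fixSub τ, u * w * u⁻¹ * w⁻¹ = 1 := by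
    intro w hw
    have h1 : w * τ y * w⁻¹ * (τ y)⁻¹ = w * y * w⁻¹ * y⁻¹ := by
      have h2 := hτ _ (cm_mem D w y)
      simpa only [map_mul, map_inv, mem_fixSub.1 hw] using h2
    rw [show τ y = u * y by rw [hu, inv_mul_cancel_right], cm_mul_right D, mul_eq_right] at h1
    have h3 := congrArg (fun e => e⁻¹) h1
    simpa [mul_assoc] using h3
  obtain ⟨⟨z, hzc⟩, hzne⟩ := not_forall.1
    fun h : ∀ c : ↥(center T), (c : T) = 1 ∨ (c : T) = u * y * u⁻¹ * y⁻¹ => by
    have hle : Nat.card ↥(center T) ≤ 2 := by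
      letI := Fintype.ofFinite ↥(center T)
      rw [Nat.card_eq_fintype_card]
      refine le_trans (Finset.card_le_card
        (t := {1, ⟨_, cm_mem D u y⟩}) fun c _ => ?_) Finset.card_le_two
      rcases h c with hc | hc <;> simp [Subtype.ext_iff, hc]
    rw [D.card_center] at hle
    omega
  push Not at hzne
  obtain ⟨t, ht⟩ := D.nd u huc z hzc
  by_cases htF : t ∈ fixSub τ
  · exact hzne.1 (ht.symm.trans (hcomm t htF))
  · have hw : t * y⁻¹ ∈ fixSub τ :=
      (mul_mem_iff_of_index_two hidx).2 (iff_of_false htF fun h => hy (inv_mem_iff.1 h))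
    refine hzne.2 (ht.symm.trans ?_)
    conv_lhs => rw [show t = t * y⁻¹ * y from (inv_mul_cancel_right t y).symm]
    rw [cm_mul_right D, hcomm _ hw, one_mul]

/-- An automorphism of odd prime order fixing the centre and fixing a coset of the centre other
than the centre is trivial. -/
theorem eq_one_of_fixed_mod (D : Sixty4 T) {p : ℕ} [hp : Fact p.Prime] (hp2 : p ≠ 2)
    (htr : ∀ z ∈ center T, z ≠ 1 → ∀ z' ∈ center T, z' ≠ 1 → ∃ α : MulAut T, α z = z')
    {τ : MulAut T} (hp1 : τ ^ p = 1) (hτ : ∀ z ∈ center T, τ z = z) {x : T} (hx : x ∉ center T)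
    (hfix : τ x * x⁻¹ ∈ center T) : τ = 1 := by
  refine eq_one_of_fixed D hp2 htr hp1 hτ hx ?_
  set u := τ x * x⁻¹ with hu
  have hpow : ∀ k : ℕ, (τ ^ k) x = u ^ k * x := by
    intro k
    induction k with
    | zero => simp
    | succ k ih =>
      rw [pow_succ', MulAut.mul_apply, ih, map_mul, map_pow, hτ u hfix, pow_succ, mul_assoc]
      congr 1
      rw [hu, inv_mul_cancel_right]
  have h1 := hpow p
  rw [hp1, MulAut.one_apply, eq_comm, mul_eq_right] at h1
  have h2 : u ^ 2 = 1 := by rw [pow_two]; exact D.center_sq u hfix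
  exact mul_inv_eq_one.1 (orderOf_eq_one_iff.1 (Nat.eq_one_of_dvd_coprimes
    ((Nat.coprime_primes hp.out Nat.prime_two).2 hp2) (orderOf_dvd_of_pow_eq_one h1)
    (orderOf_dvd_of_pow_eq_one h2)))

/-- A group of automorphisms of odd order fixing the centre has order one or five. -/
theorem card_eq_five (D : Sixty4 T)
    (htr : ∀ z ∈ center T, z ≠ 1 → ∀ z' ∈ center T, z' ≠ 1 → ∃ α : MulAut T, α z = z')
    {R : Subgroup (MulAut T)} (hR : Odd (Nat.card ↥R)) (hfix : ∀ τ ∈ R, ∀ z ∈ center T, τ z = z) :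
    Nat.card ↥R = 1 ∨ Nat.card ↥R = 5 := by
  classical
  obtain ⟨z, hz, hz1⟩ : ∃ z ∈ center T, z ≠ 1 :=
    (Subgroup.bot_or_exists_ne_one _).resolve_left fun h => by
      have := D.card_center
      rw [h, card_bot] at this
      omega
  have h20 := card_fib D htr hz hz1
  obtain ⟨⟨x, hx⟩⟩ : Nonempty (Fib z) := by
    refine (Nat.card_pos_iff.1 ?_).1
    omega
  have hxc : x ∉ center T := fun h => hz1 (hx ▸ D.center_sq x h)
  have hfree : ∀ τ ∈ R, τ x * x⁻¹ ∈ center T → τ = 1 := by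
    intro τ hτ hfixx
    by_contra hne
    obtain ⟨q, hq, hqd⟩ := Nat.exists_prime_and_dvd (fun h => hne (orderOf_eq_one_iff.1 h))
    haveI := Fact.mk hq
    have hq2 : q ≠ 2 := fun h => by
      subst h
      exact (Nat.not_even_iff_odd.2 hR) (even_iff_two_dvd.2 (hqd.trans (R.orderOf_dvd_natCard hτ)))
    have hpow : ∀ i : ℕ, (τ ^ i) x * x⁻¹ ∈ center T := by
      intro i
      induction i with
      | zero => simp
      | succ i ih =>
        rw [pow_succ', MulAut.mul_apply]
        have h1 : τ ((τ ^ i) x * x⁻¹) = (τ ^ i) x * x⁻¹ := hfix τ hτ _ ih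
        rw [map_mul, map_inv, mul_inv_eq_iff_eq_mul] at h1
        rw [h1, mul_assoc ((τ ^ i) x * x⁻¹)]
        exact mul_mem ih hfixx
    have hord := orderOf_pow_orderOf_div (orderOf_pos τ).ne' hqd
    have h1 : τ ^ (orderOf τ / q) = 1 :=
      eq_one_of_fixed_mod (p := q) D hq2 htr
        (by have := pow_orderOf_eq_one (τ ^ (orderOf τ / q)); rwa [hord] at this)
        (fun w hw => hfix _ (pow_mem hτ _) w hw) hxc (hpow _)
    rw [h1, orderOf_one] at hord
    exact hq.ne_one hord.symm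
  -- the fibre modulo the centre has five points
  set A : Set T := {y | y * y = z} with hA
  have hApre : QuotientGroup.mk (s := center T) ⁻¹' (QuotientGroup.mk '' A) = A := by
    refine Set.Subset.antisymm ?_ (Set.subset_preimage_image _ _)
    rintro w ⟨y, hy, hwy⟩
    rw [QuotientGroup.eq] at hwy
    obtain ⟨c, hc, rfl⟩ : ∃ c ∈ center T, w = y * c :=
      ⟨y⁻¹ * w, hwy, (mul_inv_cancel_left y w).symm⟩
    show y * c * (y * c) = z
    calc y * c * (y * c) = y * (c * y) * c := by group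
      _ = y * (y * c) * c := by rw [(mem_center_iff.1 hc y).symm]
      _ = (y * y) * (c * c) := by group
      _ = z := by rw [show y * y = z from hy, D.center_sq c hc, mul_one]
  have hAcard : Nat.card ↥A = 4 * Nat.card ↥(QuotientGroup.mk (s := center T) '' A) := by
    conv_lhs => rw [← hApre]
    rw [Nat.card_congr (QuotientGroup.preimageMkEquivSubgroupProdSet (center T) _), Nat.card_prod,
      D.card_center]
  have hA20 : Nat.card ↥A = 20 := h20
  have hle : Nat.card ↥R ≤ Nat.card ↥(QuotientGroup.mk (s := center T) '' A) := by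
    have hmem : ∀ τ : ↥R, (τ : MulAut T) x ∈ A := fun τ => by
      show (τ : MulAut T) x * (τ : MulAut T) x = z
      rw [← map_mul, hx, hfix τ τ.2 z hz]
    let F : ↥R → ↥(QuotientGroup.mk (s := center T) '' A) := fun τ =>
      ⟨QuotientGroup.mk ((τ : MulAut T) x), Set.mem_image_of_mem _ (hmem τ)⟩
    refine Nat.card_le_card_of_injective F fun τ σ h => ?_
    have h1 := QuotientGroup.eq.1 (congrArg (fun v : ↥(QuotientGroup.mk (s := center T) '' A) => v.1) h)
    have h2 := hfix _ (inv_mem τ.2) _ h1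
    have h3 : ((τ : MulAut T)⁻¹ * σ) x * x⁻¹ ∈ center T := by
      rw [map_mul, map_inv, MulAut.inv_apply_self] at h2
      have h4 : x⁻¹ * ((τ : MulAut T)⁻¹ * σ) x ∈ center T := by
        rw [MulAut.mul_apply]
        exact h2 ▸ h1
      have h5 := mem_center_iff.1 h4 x
      rw [mul_inv_cancel_left] at h5
      rwa [show ((τ : MulAut T)⁻¹ * σ) x * x⁻¹ = x⁻¹ * ((τ : MulAut T)⁻¹ * σ) x by
        conv_lhs => rw [h5, mul_inv_cancel_right]]
    exact Subtype.ext (inv_mul_eq_one.1 (hfree _ (mul_mem (inv_mem τ.2) σ.2) h3))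
  rcases Nat.lt_or_ge (Nat.card ↥R) 2 with h | h
  · left; have := Nat.card_pos (α := ↥R); omega
  right
  by_contra h5
  have h3 : Nat.card ↥R = 3 := by
    obtain ⟨k, hk⟩ := hR
    omega
  haveI : Fact (Nat.Prime 3) := ⟨Nat.prime_three⟩
  obtain ⟨τ, hτ1⟩ : ∃ τ : ↥R, τ ≠ 1 := by
    haveI := Finite.one_lt_card_iff_nontrivial.1 (show 1 < Nat.card ↥R by omega)
    exact exists_ne 1
  have hτ3 : (τ : MulAut T) ^ 3 = 1 := by
    have h1 := pow_card_eq_one' (x := τ)
    rw [h3] at h1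
    exact_mod_cast congrArg Subtype.val h1
  obtain ⟨hm, -⟩ := fixFib_modEq (p := 3) D htr hτ3 (hfix τ τ.2) hz hz1
  obtain ⟨⟨y, hy, hyτ⟩⟩ : Nonempty (FixFib (τ : MulAut T) z) := by
    refine (Nat.card_pos_iff.1 ?_).1
    omega
  exact hτ1 (Subtype.ext (eq_one_of_fixed (p := 3) D (by norm_num) htr hτ3 (hfix τ τ.2)
    (fun h => hz1 (hy ▸ D.center_sq y h)) hyτ))

end Cfsg.Agent.Lib.PiHomog3258.Local74
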