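import Cfsg.Agent.Lib.PiHomog3258.Local74.Type64
import Cfsg.Agent.Lib.OddLocal.CoprimeFix
import Cfsg.Agent.Lib.Coprime.Commutator
import Cfsg.Prelude.Def_Transfer

/-!
# Rank lemma

A 2-group of type `U₃(4)` acting on a `q`-group (`q` odd) with non-trivial action of its centre
needs an elementary abelian subgroup of order `q³`.
-/

set_option autoImplicit false
set_option linter.unusedSectionVars false
set_option linter.style.haveILetI false
open scoped commutatorElement

namespace Cfsg.Agent.Lib.PiHomog3258.Local74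

open Subgroup

universe u v

variable {T : Type u} [Group T] [Finite T]

theorem cm_mem (D : Sixty4 T) (x t : T) : x * t * x⁻¹ * t⁻¹ ∈ center T := by
  rw [← D.comm, commutator_def]
  exact commutator_mem_commutator (mem_top x) (mem_top t)

theorem cm_mul_right (D : Sixty4 T) (x s t : T) :
    x * (s * t) * x⁻¹ * (s * t)⁻¹ = (x * s * x⁻¹ * s⁻¹) * (x * t * x⁻¹ * t⁻¹) := by
  calc x * (s * t) * x⁻¹ * (s * t)⁻¹
      = (x * s * x⁻¹) * (x * t * x⁻¹ * t⁻¹) * s⁻¹ := by group
    _ = (x * s * x⁻¹) * ((x * t * x⁻¹ * t⁻¹) * s⁻¹) := by rw [mul_assoc]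
    _ = (x * s * x⁻¹) * (s⁻¹ * (x * t * x⁻¹ * t⁻¹)) := by
        rw [mem_center_iff.1 (cm_mem D x t) s⁻¹]
    _ = _ := by simp only [mul_assoc]

/-- The elements whose commutator with `x` lies in `U`. -/
def cmSub (D : Sixty4 T) (x : T) (U : Subgroup T) : Subgroup T where
  carrier := {s | x * s * x⁻¹ * s⁻¹ ∈ U}
  mul_mem' {s t} hs ht := by
    show x * (s * t) * x⁻¹ * (s * t)⁻¹ ∈ U
    rw [cm_mul_right D]
    exact mul_mem hs ht
  one_mem' := by simp
  inv_mem' {s} hs := by
    show x * s⁻¹ * x⁻¹ * s⁻¹⁻¹ ∈ U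
    have h := cm_mul_right D x s s⁻¹
    rw [mul_inv_cancel, mul_one, mul_inv_cancel, inv_one, mul_one, eq_comm,
      mul_eq_one_iff_inv_eq] at h
    exact h ▸ inv_mem hs

theorem index_cmSub_dvd (D : Sixty4 T) (x : T) {U : Subgroup T} (hU : U ≤ center T)
    (hU2 : Nat.card ↥U = 2) : cmSub D x U = ⊤ ∨ (cmSub D x U).index = 2 := by
  refine or_iff_not_imp_left.2 fun htop => ?_
  obtain ⟨a, ha⟩ := not_forall.1 fun h : ∀ a, a ∈ cmSub D x U => htop (eq_top_iff.2 fun y _ => h y)
  refine index_eq_two_iff.2 ⟨a, fun b => ?_⟩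
  set U' := U.subgroupOf (center T)
  have hidx : U'.index = 2 := by
    have h := U'.card_mul_index
    rw [D.card_center, show Nat.card ↥U' = 2 by
      rw [Nat.card_congr (subgroupOfEquivOfLe hU).toEquiv, hU2]] at h
    omega
  have h1 := mul_mem_iff_of_index_two hidx (a := ⟨_, cm_mem D x b⟩) (b := ⟨_, cm_mem D x a⟩)
  rw [mem_subgroupOf, mem_subgroupOf, mem_subgroupOf] at h1
  change x * b * x⁻¹ * b⁻¹ * (x * a * x⁻¹ * a⁻¹) ∈ U ↔ _ at h1
  rw [← cm_mul_right D] at h1
  have h2 : ¬ (x * a * x⁻¹ * a⁻¹ ∈ U) := ha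
  show Xor' (x * (b * a) * x⁻¹ * (b * a)⁻¹ ∈ U) (x * b * x⁻¹ * b⁻¹ ∈ U)
  rw [h1]
  by_cases hb : x * b * x⁻¹ * b⁻¹ ∈ U <;> simp [Xor', hb, h2]

/-- The centraliser of a non-central element modulo a central subgroup of order two is not abelian
modulo it. -/
theorem false_of_abelian_mod (D : Sixty4 T) {U : Subgroup T} (hU : U ≤ center T)
    (hU2 : Nat.card ↥U = 2) {x : T} (hx : x ∉ center T)
    (hab : ∀ s ∈ cmSub D x U, ∀ t ∈ cmSub D x U, s * t * s⁻¹ * t⁻¹ ∈ U) : False := by
  have hnd : ∀ w, w ∉ center T → cmSub D w U ≠ ⊤ := by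
    intro w hw htop
    obtain ⟨z, hz, hzU⟩ : ∃ z ∈ center T, z ∉ U := by
      by_contra h
      push Not at h
      have := card_le_of_le (H := center T) (K := U) h
      rw [D.card_center, hU2] at this
      omega
    obtain ⟨t, ht⟩ := D.nd w hw z hz
    exact hzU (ht ▸ (htop ▸ mem_top t : t ∈ cmSub D w U))
  have hi := (index_cmSub_dvd D x hU hU2).resolve_left (hnd x hx)
  obtain ⟨y, hy⟩ := not_forall.1 fun h : ∀ y, y ∈ cmSub D x U =>
    hnd x hx (eq_top_iff.2 fun w _ => h w)
  -- an element of both centralisers outside the centre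
  obtain ⟨w, hw, hwy, hwc⟩ : ∃ w, w ∈ cmSub D x U ∧ w ∈ cmSub D y U ∧ w ∉ center T := by
    by_contra h
    push Not at h
    have h1 : Nat.card ↥(cmSub D x U ⊓ cmSub D y U) ≤ 4 := by
      rw [← D.card_center]
      exact card_le_of_le fun w hw => h w hw.1 hw.2
    have h2 := index_inf_le (H := cmSub D x U) (K := cmSub D y U)
    have h3 : (cmSub D y U).index ≤ 2 := by
      rcases index_cmSub_dvd D y hU hU2 with h | h
      · rw [h, index_top]; omega
      · exact h.le
    have h4 := (cmSub D x U ⊓ cmSub D y U).card_mul_index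
    rw [D.card] at h4
    rw [hi] at h2
    have h5 : (cmSub D x U ⊓ cmSub D y U).index ≤ 4 := by omega
    have := Nat.mul_le_mul h1 h5
    omega
  refine hnd w hwc (eq_top_iff.2 fun s _ => ?_)
  have hCw : ∀ s ∈ cmSub D x U, s ∈ cmSub D w U := fun s hs => hab w hw s hs
  by_cases hs : s ∈ cmSub D x U
  · exact hCw s hs
  have hyw : y ∈ cmSub D w U := by
    show w * y * w⁻¹ * y⁻¹ ∈ U
    have h1 : (y * w * y⁻¹ * w⁻¹)⁻¹ ∈ U := inv_mem hwy
    rwa [show (y * w * y⁻¹ * w⁻¹)⁻¹ = w * y * w⁻¹ * y⁻¹ by group] at h1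
  have h1 : s * y ∈ cmSub D x U := (mul_mem_iff_of_index_two hi).2 (iff_of_false hs hy)
  have h2 := mul_mem (hCw _ h1) (inv_mem hyw)
  rwa [mul_inv_cancel_right] at h2

section Module

variable {A : Type v} [CommGroup A] [Finite A] {q : ℕ} [Fact q.Prime]

/-- An involution of a group of order at most `q²` fixes everything, inverts everything, or has
both fixed and inverted parts of order `q`. -/
theorem eq_zpow_of_line (hexp : ∀ a : A, a ^ q = 1) {B : Subgroup A} (hB : Nat.card ↥B = q)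
    {a : A} (ha : a ∈ B) (ha1 : a ≠ 1) : B = zpowers a := by
  refine (eq_of_le_of_card_ge (zpowers_le.2 ha) ?_).symm
  rw [hB, Nat.card_zpowers, orderOf_eq_prime (hexp a) ha1]

theorem commute_of_line (hexp : ∀ a : A, a ^ q = 1) {B : Subgroup A} (hB : Nat.card ↥B = q)
    {φ ψ : MulAut A} (hφ : ∀ a ∈ B, φ a ∈ B) (hψ : ∀ a ∈ B, ψ a ∈ B) {a : A} (ha : a ∈ B) :
    φ (ψ a) = ψ (φ a) := by
  rcases eq_or_ne a 1 with rfl | ha1
  · simp
  have hB' := eq_zpow_of_line hexp hB ha ha1
  obtain ⟨i, hi⟩ := mem_zpowers_iff.1 (hB' ▸ hφ a ha : φ a ∈ zpowers a)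
  obtain ⟨j, hj⟩ := mem_zpowers_iff.1 (hB' ▸ hψ a ha : ψ a ∈ zpowers a)
  rw [← hj, map_zpow, ← hi, map_zpow, ← hj, ← zpow_mul, ← zpow_mul, mul_comm i j]

/-- A 2-group of type `U₃(4)` acts trivially by its centre on a group of exponent `q` and order at
most `q²`. -/
theorem act_trivial (D : Sixty4 T) (hq : q ≠ 2) (hexp : ∀ a : A, a ^ q = 1)
    (hcard : Nat.card A ≤ q ^ 2) (φ : T →* MulAut A) :
    ∀ z ∈ center T, φ z = 1 := by
  have hqp : q.Prime := Fact.out
  have hcom : ∀ (z : T), z ∈ center T → ∀ (s : T) (a : A), φ z (φ s a) = φ s (φ z a) :=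
    fun z hz s a => by rw [← MulAut.mul_apply, ← MulAut.mul_apply, ← map_mul, ← map_mul,
      mem_center_iff.1 hz s]
  -- a central element acts as 1 or as inversion
  have hpm : ∀ z ∈ center T, φ z = 1 ∨ ∀ a, φ z a = a⁻¹ := by
    intro z hz
    by_contra hcon
    push Not at hcon
    obtain ⟨hne, a₀, ha₀⟩ := hcon
    obtain ⟨b₀, hb₀⟩ : ∃ b, φ z b ≠ b := by
      by_contra h
      push Not at h
      exact hne (MulEquiv.ext h)
    have hzz : ∀ a, φ z (φ z a) = a := fun a => by
      rw [← MulAut.mul_apply, ← map_mul, D.center_sq z hz, map_one, MulAut.one_apply]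
    set P := (φ z).toMonoidHom.eqLocus (MonoidHom.id A) with hP
    set N := (φ z).toMonoidHom.eqLocus ((MulEquiv.inv A).toMonoidHom) with hN
    have hPm : ∀ a, a ∈ P ↔ φ z a = a := fun a => Iff.rfl
    have hNm : ∀ a, a ∈ N ↔ φ z a = a⁻¹ := fun a => Iff.rfl
    have hp : φ z a₀ * a₀ ∈ P := (hPm _).2 (by rw [map_mul, hzz, mul_comm])
    have hn : b₀ * (φ z b₀)⁻¹ ∈ N := (hNm _).2 (by
      rw [map_mul, map_inv, hzz, mul_inv_rev, inv_inv])
    have hp1 : φ z a₀ * a₀ ≠ 1 := fun h => ha₀ (mul_eq_one_iff_eq_inv.1 h)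
    have hn1 : b₀ * (φ z b₀)⁻¹ ≠ 1 := fun h => hb₀ (mul_inv_eq_one.1 h).symm
    have hdis : P ⊓ N = ⊥ := by
      rw [eq_bot_iff]
      intro a ha
      have h1 : a * a = 1 := by
        nth_rewrite 1 [← (hPm a).1 ha.1]
        rw [(hNm a).1 ha.2, inv_mul_cancel]
      have h2 : orderOf a ∣ Nat.gcd 2 q := Nat.dvd_gcd
        (orderOf_dvd_of_pow_eq_one (by rw [pow_two]; exact h1)) (orderOf_dvd_of_pow_eq_one (hexp a))
      rw [Nat.Coprime.gcd_eq_one ((Nat.coprime_primes Nat.prime_two hqp).2 hq.symm),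
        Nat.dvd_one, orderOf_eq_one_iff] at h2
      exact mem_bot.2 h2
    have hmul : ∀ {H : Subgroup A} {c : A}, c ∈ H → c ≠ 1 → q ≤ Nat.card ↥H := by
      intro H c hc hc1
      rw [← orderOf_eq_prime (hexp c) hc1, ← Nat.card_zpowers]
      exact card_le_of_le (zpowers_le.2 hc)
    have hPN : Nat.card ↥P * Nat.card ↥N ≤ q * q := by
      rw [← Nat.card_prod, ← pow_two]
      refine le_trans (Nat.card_le_card_of_injective (fun p : ↥P × ↥N => (p.1 : A) * p.2) ?_) hcard
      exact mul_injective_of_disjoint (disjoint_iff.2 hdis)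
    have hPq : Nat.card ↥P = q := le_antisymm
      (Nat.le_of_mul_le_mul_right ((Nat.mul_le_mul_left _ (hmul hn hn1)).trans hPN) hqp.pos)
      (hmul hp hp1)
    have hNq : Nat.card ↥N = q := le_antisymm
      (Nat.le_of_mul_le_mul_left ((Nat.mul_le_mul_right _ (hmul hp hp1)).trans hPN) hqp.pos)
      (hmul hn hn1)
    have hinvP : ∀ (s : T) (a : A), a ∈ P → φ s a ∈ P := fun s a ha => (hPm _).2 (by
      rw [hcom z hz, (hPm a).1 ha])
    have hinvN : ∀ (s : T) (a : A), a ∈ N → φ s a ∈ N := fun s a ha => (hNm _).2 (by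
      rw [hcom z hz, (hNm a).1 ha, map_inv])
    have hab : ∀ s t : T, ∀ a ∈ N, φ (s * t * s⁻¹ * t⁻¹) a = a := by
      intro s t a ha
      have h1 := commute_of_line hexp hNq (fun b hb => hinvN s b hb) (fun b hb => hinvN t b hb)
        (hinvN s⁻¹ _ (hinvN t⁻¹ a ha))
      simp only [map_mul, map_inv, MulAut.mul_apply] at h1 ⊢
      rw [h1]
      simp
    let K : Subgroup T :=
      { carrier := {g | ∀ a ∈ N, φ g a = a}
        mul_mem' := fun {g g'} hg hg' a ha => by
          rw [map_mul, MulAut.mul_apply, hg' a ha, hg a ha]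
        one_mem' := fun a _ => by rw [map_one, MulAut.one_apply]
        inv_mem' := fun {g} hg a ha => by
          nth_rewrite 1 [← hg a ha]
          rw [← MulAut.mul_apply, ← map_mul, inv_mul_cancel, map_one, MulAut.one_apply] }
    have hK : center T ≤ K := by
      rw [← D.comm, commutator_def, commutator_le]
      intro s _ t _
      rw [commutatorElement_def]
      exact fun a ha => hab s t a ha
    have h1 : (b₀ * (φ z b₀)⁻¹)⁻¹ = b₀ * (φ z b₀)⁻¹ :=
      ((hNm _).1 hn).symm.trans (hK hz _ hn)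
    have h2 : (b₀ * (φ z b₀)⁻¹) ^ 2 = 1 := by
      rw [pow_two]
      nth_rewrite 1 [← h1]
      exact inv_mul_cancel _
    refine hn1 (orderOf_eq_one_iff.1 (Nat.eq_one_of_dvd_coprimes
      ((Nat.coprime_primes Nat.prime_two hqp).2 hq.symm) (orderOf_dvd_of_pow_eq_one h2)
      (orderOf_dvd_of_pow_eq_one (hexp _))))
  intro z₀ hz₀
  by_contra hz0
  have hinv0 := (hpm z₀ hz₀).resolve_left hz0
  -- the kernel in the centre
  set U := center T ⊓ φ.ker with hUdef
  have hU : U ≤ center T := inf_le_left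
  have hprod : ∀ b c : T, b ∈ center T → c ∈ center T → φ b ≠ 1 → φ c ≠ 1 → φ (b * c) = 1 := by
    intro b c hb hc hb1 hc1
    refine MulEquiv.ext fun a => ?_
    rw [map_mul, MulAut.mul_apply, (hpm c hc).resolve_left hc1, map_inv,
      (hpm b hb).resolve_left hb1, inv_inv, MulAut.one_apply]
  have hU2 : Nat.card ↥U = 2 := by
    have hidx : (U.subgroupOf (center T)).index = 2 := by
      refine index_eq_two_iff.2 ⟨⟨z₀, hz₀⟩, fun b => ?_⟩
      have e1 : b * ⟨z₀, hz₀⟩ ∈ U.subgroupOf (center T) ↔ φ (b * z₀ : T) = 1 := by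
        simp [mem_subgroupOf, U, mem_inf, (b * ⟨z₀, hz₀⟩ : ↥(center T)).2,
          mul_mem b.2 hz₀, MonoidHom.mem_ker]
      have e2 : b ∈ U.subgroupOf (center T) ↔ φ (b : T) = 1 := by
        simp [mem_subgroupOf, U, mem_inf, MonoidHom.mem_ker]
      rw [e1, e2]
      by_cases hb : φ (b : T) = 1
      · simp [Xor', hb, hz0]
      · simp [Xor', hb, hprod _ _ b.2 hz₀ hb hz0]
    have h := (U.subgroupOf (center T)).card_mul_index
    rw [hidx, D.card_center, Nat.card_congr (subgroupOfEquivOfLe hU).toEquiv] at h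
    omega
  obtain ⟨x, hx⟩ : ∃ x, x ∉ center T := by
    by_contra h
    push Not at h
    have := card_le_of_le (H := (⊤ : Subgroup T)) (K := center T) fun y _ => h y
    rw [card_top, D.card, D.card_center] at this
    omega
  obtain ⟨s₀, hs₀⟩ := D.nd x hx z₀ hz₀
  have hnc : φ x * φ s₀ ≠ φ s₀ * φ x := fun h => hz0 (by
    rw [← hs₀]
    simp only [map_mul, map_inv]
    rw [h]
    group)
  obtain ⟨a, ha⟩ : ∃ a, φ x a ∉ zpowers a := by
    by_contra hall
    push Not at hall
    refine hnc (MulEquiv.ext fun a => ?_)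
    rw [MulAut.mul_apply, MulAut.mul_apply]
    obtain ⟨i, hi⟩ := mem_zpowers_iff.1 (hall a)
    rw [← hi, map_zpow]
    set b := φ s₀ a with hb
    obtain ⟨j, hj⟩ := mem_zpowers_iff.1 (hall b)
    rw [← hj]
    by_cases hba : b ∈ zpowers a
    · obtain ⟨m, hm⟩ := mem_zpowers_iff.1 hba
      rw [hj, ← hm, map_zpow, ← hi, ← zpow_mul, ← zpow_mul, mul_comm i m]
    obtain ⟨k, hk⟩ := mem_zpowers_iff.1 (hall (a * b))
    rw [map_mul, ← hi, ← hj, mul_zpow] at hk
    have e : a ^ (k - i) = b ^ (j - k) := by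
      rw [zpow_sub, zpow_sub, ← div_eq_mul_inv, ← div_eq_mul_inv, div_eq_div_iff_mul_eq_mul, hk,
        mul_comm]
    have hb1 : b ≠ 1 := fun h => hba (h ▸ one_mem _)
    have hj0 : b ^ (j - k) = 1 := by
      by_contra hne
      refine hba ?_
      have h1 : zpowers b ≤ zpowers a := by
        have h2 : zpowers (b ^ (j - k)) = zpowers b :=
          eq_of_le_of_card_ge (zpowers_le.2 (zpow_mem (mem_zpowers b) _))
            (by rw [Nat.card_zpowers, Nat.card_zpowers, orderOf_eq_prime (hexp b) hb1,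
              orderOf_eq_prime (hexp _) hne])
        rw [← h2, zpowers_le, ← e]
        exact zpow_mem (mem_zpowers a) _
      exact h1 (mem_zpowers b)
    have ha1 : a ≠ 1 := fun h => by
      rw [h] at hba
      exact hb1 (by rw [hb, h, map_one])
    rw [hj0] at e
    have hd1 := orderOf_dvd_iff_zpow_eq_one.2 e
    have hd2 := orderOf_dvd_iff_zpow_eq_one.2 hj0
    rw [orderOf_eq_prime (hexp a) ha1] at hd1
    rw [orderOf_eq_prime (hexp b) hb1] at hd2
    have h3 := dvd_add hd1 hd2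
    rw [show k - i + (j - k) = j - i by ring,
      ← orderOf_eq_prime (hexp b) hb1, orderOf_dvd_iff_zpow_eq_one, zpow_sub,
      mul_inv_eq_one] at h3
    exact h3
  obtain ⟨b, hb⟩ : ∃ b, b = φ x a := ⟨_, rfl⟩
  rw [← hb] at ha
  have hb1 : b ≠ 1 := fun h => ha (h ▸ one_mem _)
  have ha1 : a ≠ 1 := fun h => ha (by rw [hb, h, map_one]; exact one_mem _)
  have hdis : zpowers a ⊓ zpowers b = ⊥ := by
    by_contra h
    obtain ⟨c, hc, hc1⟩ := (Subgroup.bot_or_exists_ne_one _).resolve_left h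
    refine ha ?_
    have hca := eq_zpow_of_line hexp (B := zpowers a)
      (by rw [Nat.card_zpowers, orderOf_eq_prime (hexp a) ha1]) hc.1 hc1
    have hcb := eq_zpow_of_line hexp (B := zpowers b)
      (by rw [Nat.card_zpowers, orderOf_eq_prime (hexp b) hb1]) hc.2 hc1
    rw [hca, ← hcb]
    exact mem_zpowers b
  have hgen : ∀ c : A, ∃ i j : ℤ, a ^ i * b ^ j = c := by
    let F : ↥(zpowers a) × ↥(zpowers b) → A := fun p => (p.1 : A) * p.2
    have hinj : Function.Injective F := mul_injective_of_disjoint (disjoint_iff.2 hdis)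
    have hc' : Nat.card (↥(zpowers a) × ↥(zpowers b)) = Nat.card A := by
      refine le_antisymm (Nat.card_le_card_of_injective F hinj) ?_
      rw [Nat.card_prod, Nat.card_zpowers, Nat.card_zpowers, orderOf_eq_prime (hexp a) ha1,
        orderOf_eq_prime (hexp b) hb1, ← pow_two]
      exact hcard
    intro c
    obtain ⟨⟨⟨_, i, rfl⟩, ⟨_, j, rfl⟩⟩, hij⟩ :=
      ((Nat.bijective_iff_injective_and_card F).2 ⟨hinj, hc'⟩).2 c
    exact ⟨i, j, hij⟩
  refine false_of_abelian_mod D hU hU2 hx fun s hs t ht => ⟨cm_mem D s t, MonoidHom.mem_ker.2 ?_⟩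
  have hcx : ∀ {s : T}, s ∈ cmSub D x U → φ x * φ s = φ s * φ x := by
    intro s hs
    have h1 : φ (x * s * x⁻¹ * s⁻¹) = 1 := hs.2
    simp only [map_mul, map_inv] at h1
    exact mul_inv_eq_iff_eq_mul.1 (mul_inv_eq_one.1 h1)
  have hap : ∀ {s : T}, s ∈ cmSub D x U → φ s b = φ x (φ s a) := fun {s} hs => by
    rw [hb, ← MulAut.mul_apply, ← MulAut.mul_apply, hcx hs]
  obtain ⟨i, j, hij⟩ := hgen (φ s a)
  obtain ⟨k, l, hkl⟩ := hgen (φ t a)
  have hwa : φ s (φ t a) = φ t (φ s a) := by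
    rw [← hij, ← hkl]
    simp only [map_mul, map_zpow, hap hs, hap ht]
    rw [← hij, ← hkl]
    simp only [map_mul, map_zpow, ← hb, mul_zpow, ← zpow_mul, mul_comm k i, mul_comm l j,
      mul_comm k j, mul_comm l i]
    simp only [mul_assoc, mul_left_comm]
  have hwb : φ s (φ t b) = φ t (φ s b) := by
    have c1 : ∀ c, φ s (φ x c) = φ x (φ s c) := fun c => by
      rw [← MulAut.mul_apply, ← MulAut.mul_apply, hcx hs]
    have c2 : ∀ c, φ t (φ x c) = φ x (φ t c) := fun c => by
      rw [← MulAut.mul_apply, ← MulAut.mul_apply, hcx ht]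
    rw [hb, c2, c1, hwa, c1, c2]
  have hcomm : φ s * φ t = φ t * φ s := MulEquiv.ext fun c => by
    obtain ⟨m, n, rfl⟩ := hgen c
    simp only [MulAut.mul_apply, map_mul, map_zpow, hwa, hwb]
  simp only [map_mul, map_inv]
  rw [hcomm]
  group

end Module

/-- Conjugation action on an invariant subgroup. -/
def conjHom {G : Type u} [Group G] {T C : Subgroup G} (hn : T ≤ normalizer (C : Set G)) :
    ↥T →* MulAut ↥C where
  toFun t :=
    { toFun := fun c => ⟨t * c * (t : G)⁻¹, (mem_normalizer_iff.1 (hn t.2) _).1 c.2⟩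
      invFun := fun c => ⟨(t : G)⁻¹ * c * t, (mem_normalizer_iff''.1 (hn t.2) _).1 c.2⟩
      left_inv := fun c => Subtype.ext (by simp [mul_assoc])
      right_inv := fun c => Subtype.ext (by simp [mul_assoc])
      map_mul' := fun c c' => Subtype.ext (by simp [mul_assoc]) }
  map_one' := MulEquiv.ext fun c => Subtype.ext (by simp)
  map_mul' t t' := MulEquiv.ext fun c => Subtype.ext (by simp [mul_assoc])

theorem conjHom_apply {G : Type u} [Group G] {T C : Subgroup G}
    (hn : T ≤ normalizer (C : Set G)) (t : ↥T) (c : ↥C) :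
    ((conjHom hn t c : ↥C) : G) = t * c * (t : G)⁻¹ := rfl

section Cube

variable {G : Type u} [Group G] [Finite G] {q : ℕ} [Fact q.Prime]

theorem isElemAb_sup {K : Subgroup G} {x : G} (hK : Cfsg.IsElementaryAbelian q K)
    (hxq : x ^ q = 1) (hc : ∀ k ∈ K, k * x = x * k) :
    Cfsg.IsElementaryAbelian q (zpowers x ⊔ K) := by
  have hKc : ∀ a ∈ K, ∀ b ∈ K, a * b = b * a := fun a ha b hb =>
    congrArg Subtype.val (hK.1.is_comm.comm (⟨a, ha⟩ : ↥K) ⟨b, hb⟩)
  have hn : zpowers x ≤ normalizer (K : Set G) := by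
    refine zpowers_le.2 (mem_normalizer_iff.2 fun k => ⟨fun hk => ?_, fun hk => ?_⟩)
    · rwa [← hc k hk, mul_inv_cancel_right]
    · have h := hc _ hk
      have : k = x * k * x⁻¹ := by
        have h2 : x * k = x * (x * k * x⁻¹) := by
          rw [← h]; group
        exact mul_left_cancel h2
      rw [this]; exact hk
  have hd : ∀ {w}, w ∈ zpowers x ⊔ K → ∃ i : ℤ, ∃ k ∈ K, x ^ i * k = w := by
    intro w hw
    rw [← SetLike.mem_coe, coe_mul_of_left_le_normalizer_right _ _ hn] at hw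
    obtain ⟨_, ⟨i, rfl⟩, k, hk, rfl⟩ := hw
    exact ⟨i, k, hk, rfl⟩
  refine ⟨⟨⟨fun a b => ?_⟩⟩, fun w hw => ?_⟩
  · obtain ⟨i, k, hk, hik⟩ := hd a.2
    obtain ⟨j, l, hl, hjl⟩ := hd b.2
    refine Subtype.ext ?_
    rw [Subgroup.coe_mul, Subgroup.coe_mul, ← hik, ← hjl]
    have c1 : Commute k (x ^ j) := (show Commute k x from hc k hk).zpow_right j
    have c2 : Commute l (x ^ i) := (show Commute l x from hc l hl).zpow_right i
    calc x ^ i * k * (x ^ j * l) = x ^ i * (k * x ^ j) * l := by group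
      _ = x ^ i * x ^ j * (k * l) := by rw [c1.eq]; group
      _ = x ^ j * x ^ i * (l * k) := by rw [hKc k hk l hl, ← zpow_add, ← zpow_add, add_comm]
      _ = x ^ j * (x ^ i * l) * k := by group
      _ = x ^ j * l * (x ^ i * k) := by rw [← c2.eq]; group
  · obtain ⟨i, k, hk, rfl⟩ := hd hw
    have c1 : Commute (x ^ i) k := ((show Commute k x from hc k hk).zpow_right i).symm
    rw [c1.mul_pow, hK.2 k hk, mul_one, ← zpow_natCast, ← zpow_mul, mul_comm, zpow_mul,
      zpow_natCast, hxq, one_zpow]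

theorem card_sup_eq {K : Subgroup G} {x : G} (hxq : x ^ q = 1) (hx : x ∉ K)
    (hc : ∀ k ∈ K, k * x = x * k) : Nat.card ↥(zpowers x ⊔ K) = q * Nat.card ↥K := by
  have hx1 : x ≠ 1 := fun h => hx (h ▸ one_mem _)
  have hd : zpowers x ⊓ K = ⊥ := by
    by_contra h
    obtain ⟨c, hc', hc1⟩ := (Subgroup.bot_or_exists_ne_one _).resolve_left h
    have he : zpowers c = zpowers x := eq_of_le_of_card_ge (zpowers_le.2 hc'.1) (by
      obtain ⟨i, hi⟩ := mem_zpowers_iff.1 hc'.1
      have hcq : c ^ q = 1 := by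
        rw [← hi, ← zpow_natCast, ← zpow_mul, mul_comm, zpow_mul, zpow_natCast, hxq, one_zpow]
      rw [Nat.card_zpowers, Nat.card_zpowers, orderOf_eq_prime hxq hx1, orderOf_eq_prime hcq hc1])
    exact hx (zpowers_le.2 hc'.2 (he ▸ mem_zpowers x))
  have hcen : zpowers x ≤ centralizer (K : Set G) := zpowers_le.2 (mem_centralizer_iff.2 hc)
  rw [Coprime.card_sup_of_disjoint (hcen.trans (centralizer_le_normalizer _)) (disjoint_iff.2 hd),
    Nat.card_zpowers, orderOf_eq_prime hxq hx1]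

/-- The rank lemma. -/
theorem exists_elemAb_cube {T R : Subgroup G} (D : Sixty4 ↥T) (hq : q ≠ 2) (hR : IsPGroup q ↥R)
    (hn : T ≤ normalizer (R : Set G)) {z : G} (hz : z ∈ T) (hzc : ∀ s ∈ T, s * z = z * s)
    (hmove : ∃ r ∈ R, z * r ≠ r * z) :
    ∃ E : Subgroup G, E ≤ R ∧ Cfsg.IsElementaryAbelian q E ∧ q ^ 3 ≤ Nat.card ↥E := by
  have hqp : q.Prime := Fact.out
  set Z := (center ↥T).map T.subtype with hZ
  have hzZ : z ∈ Z := ⟨⟨z, hz⟩, mem_center_iff.2 fun s => Subtype.ext (hzc s s.2), rfl⟩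
  have hZT : Z ≤ T := map_subtype_le _
  have hZ4 : Nat.card ↥Z = 4 := by
    rw [hZ, card_map_of_injective T.subtype_injective, D.card_center]
  obtain ⟨C, hCR, ⟨hCn, hCZ⟩, hmin⟩ := Finite.exists_le_minimal
    (p := fun C : Subgroup G => T ≤ normalizer (C : Set G) ∧ ¬ Z ≤ centralizer (C : Set G)) (a := R)
    ⟨hn, fun h => by
      obtain ⟨r, hr, hne⟩ := hmove
      exact hne (mem_centralizer_iff.1 (h hzZ) r hr).symm⟩
  have hC : IsPGroup q ↥C := hR.to_le hCR
  have hsmall : ∀ B : Subgroup G, B ≤ C → B ≠ C → T ≤ normalizer (B : Set G) →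
      Z ≤ centralizer (B : Set G) := fun B hB hne hBn => by
    by_contra h
    exact hne (le_antisymm hB (hmin ⟨hBn, h⟩ hB))
  have hcop : ∀ {B : Subgroup G}, B ≤ C → (Nat.card ↥Z).Coprime (Nat.card ↥B) := fun {B} hB => by
    obtain ⟨n, hn'⟩ := IsPGroup.iff_card.1 (hC.to_le hB)
    rw [hZ4, hn']
    exact Nat.Coprime.pow_right n ((Nat.Coprime.pow_left 2
      ((Nat.coprime_primes Nat.prime_two hqp).2 hq.symm)))
  -- generated by elements of order `q`
  have hgen : closure {c | c ∈ C ∧ c ^ q = 1} = C := by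
    by_contra hne
    have hle : closure {c | c ∈ C ∧ c ^ q = 1} ≤ C := (closure_le _).2 fun c hc => hc.1
    have hcen := hsmall _ hle hne fun t ht => by
      rw [mem_normalizer_iff_map_conj_eq, MonoidHom.map_closure]
      congr 1
      ext c
      simp only [Set.mem_image, Set.mem_setOf_eq, MulEquiv.coe_toMonoidHom, MulAut.conj_apply]
      constructor
      · rintro ⟨d, ⟨hd, hd1⟩, rfl⟩
        refine ⟨(mem_normalizer_iff.1 (hCn ht) d).1 hd, ?_⟩
        show (t * d * t⁻¹) ^ q = 1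
        rw [conj_pow, hd1]; group
      · rintro ⟨hc, hc1⟩
        refine ⟨t⁻¹ * c * t, ⟨(mem_normalizer_iff''.1 (hCn ht) c).1 hc, ?_⟩,
          show t * (t⁻¹ * c * t) * t⁻¹ = c by group⟩
        have := conj_pow (i := q) (a := t⁻¹) (b := c)
        rw [inv_inv] at this
        rw [this, hc1]; group
    refine hCZ fun w hw => mem_centralizer_iff.2 fun c hc => (OddLocal.CoprimeFix.centralizes_of_omega hq
      ?_ hC (hCn (hZT hw)) (fun h hh hho => ?_) c hc).symm
    · refine Nat.Coprime.coprime_dvd_left (orderOf_dvd_natCard Z hw) ?_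
      rw [hZ4]
      exact Nat.Coprime.pow_left 2 ((Nat.coprime_primes Nat.prime_two hqp).2 hq.symm)
    · exact (mem_centralizer_iff.1 (hcen hw) h
        (subset_closure ⟨hh, by rw [← hho, pow_orderOf_eq_one]⟩)).symm
  have hZn : Z ≤ normalizer (C : Set G) := hZT.trans hCn
  have hCZC : ⁅C, Z⁆ = C := by
    by_contra hne
    have hle := Coprime.commutator_le_of_le_normalizer hZn
    have hTZ : T ≤ normalizer (Z : Set G) := fun t ht => mem_normalizer_iff_map_conj_eq.2 (by
      ext w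
      constructor
      · rintro ⟨v, ⟨v', hv', rfl⟩, rfl⟩
        exact ⟨v', hv', by
          have h1 := congrArg Subtype.val (mem_center_iff.1 hv' ⟨t, ht⟩)
          simp only [coe_subtype, MulEquiv.coe_toMonoidHom, MulAut.conj_apply]
          exact (eq_mul_inv_iff_mul_eq.2 h1.symm)⟩
      · rintro ⟨v', hv', rfl⟩
        exact ⟨v', ⟨v', hv', rfl⟩, by
          have h1 := congrArg Subtype.val (mem_center_iff.1 hv' ⟨t, ht⟩)
          simp only [coe_subtype, MulEquiv.coe_toMonoidHom, MulAut.conj_apply]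
          exact (mul_inv_eq_iff_eq_mul.2 h1)⟩)
    have hTn : T ≤ normalizer ((⁅C, Z⁆ : Subgroup G) : Set G) := fun t ht => by
      rw [mem_normalizer_iff_map_conj_eq, map_commutator,
        mem_normalizer_iff_map_conj_eq.1 (hCn ht), mem_normalizer_iff_map_conj_eq.1 (hTZ ht)]
    refine hCZ (Coprime.le_centralizer_of_commutator_commutator (hcop hle) ?_)
    rw [commutator_eq_bot_iff_le_centralizer, le_centralizer_iff]
    exact hsmall _ hle hne hTn
  have hCne : C ≠ ⊥ := fun h => hCZ (by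
    rw [h]
    intro w _
    rw [mem_centralizer_iff]
    intro y hy
    rw [coe_bot, Set.mem_singleton_iff] at hy
    rw [hy, one_mul, mul_one])
  -- the derived subgroup is central
  haveI : Group.IsNilpotent ↥C := hC.isNilpotent
  have hCC : ⁅C, C⁆ < C := by
    refine lt_of_le_of_ne (commutator_le_self C) fun h => ?_
    haveI : Nontrivial ↥C := (Subgroup.nontrivial_iff_ne_bot _).2 hCne
    refine (Group.IsSolvable.commutator_lt_top_of_nontrivial ↥C).ne ?_
    rw [← (map_injective C.subtype_injective).eq_iff, map_subtype_commutator, h,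
      ← MonoidHom.range_eq_map, range_subtype]
  have hDc : ⁅C, C⁆ ≤ centralizer (C : Set G) := by
    have hD := hsmall _ hCC.le hCC.ne fun t ht => by
      rw [mem_normalizer_iff_map_conj_eq, map_commutator, mem_normalizer_iff_map_conj_eq.1 (hCn ht)]
    rw [← commutator_eq_bot_iff_le_centralizer] at hD
    have h1 : ⁅⁅C, ⁅C, C⁆⁆, Z⁆ = ⊥ := by
      rw [eq_bot_iff, ← hD, commutator_comm Z]
      refine commutator_mono ?_ le_rfl
      exact le_normalizer_iff_commutator_le_right.1 fun t ht =>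
        mem_normalizer_iff_map_conj_eq.2 (by
          rw [map_commutator, mem_normalizer_iff_map_conj_eq.1 (le_normalizer ht)])
    have h2 : ⁅⁅⁅C, C⁆, Z⁆, C⁆ = ⊥ := by
      rw [commutator_comm ⁅C, C⁆ Z, hD, commutator_bot_left]
    have h3 := commutator_commutator_eq_bot_of_rotate (H₁ := Z) (H₂ := C) (H₃ := ⁅C, C⁆) h1 h2
    rw [commutator_comm Z C, hCZC, commutator_comm] at h3
    exact commutator_eq_bot_iff_le_centralizer.1 h3
  have hexp : ∀ c ∈ C, c ^ q = 1 := by
    intro c hc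
    rw [← hgen] at hc
    refine (closure_induction (p := fun c _ => c ∈ C ∧ c ^ q = 1) (fun c hc => hc)
      ⟨one_mem _, one_pow q⟩ ?_ (fun c _ hc => ⟨inv_mem hc.1, by rw [inv_pow, hc.2, inv_one]⟩) hc).2
    intro k h _ _ hk hh
    refine ⟨mul_mem hk.1 hh.1, ?_⟩
    set d := h * k * h⁻¹ * k⁻¹ with hd
    have hdC : d ∈ ⁅C, C⁆ := commutator_mem_commutator hh.1 hk.1
    have hdk : Commute d k := (mem_centralizer_iff.1 (hDc hdC) k hk.1).symm
    have hdh : Commute d h := (mem_centralizer_iff.1 (hDc hdC) h hh.1).symm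
    have hdq : d ^ q = 1 := by
      have h1 : d * k = h * k * h⁻¹ := by rw [hd]; group
      have h2 : (d * k) ^ q = 1 := by rw [h1, conj_pow, hk.2]; group
      rwa [hdk.mul_pow, hk.2, mul_one] at h2
    rw [OddLocal.CoprimeFix.pow_mul_comm_formula (d := d) (by rw [hd]; group) hdh hdk, hk.2, hh.2, mul_one,
      mul_one]
    obtain ⟨m, hm⟩ := hqp.dvd_choose_self (k := 2) (by norm_num)
      (lt_of_le_of_ne hqp.two_le hq.symm)
    rw [hm, pow_mul, hdq, one_pow]
  set Dc := C ⊓ centralizer (C : Set G) with hDcdef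
  have hDcEA : Cfsg.IsElementaryAbelian q Dc :=
    ⟨⟨⟨fun a b => Subtype.ext (mem_centralizer_iff.1 b.2.2 a a.2.1)⟩⟩, fun a ha => hexp a ha.1⟩
  have hDcn : T ≤ normalizer (Dc : Set G) := fun t ht => by
    have hi := mem_normalizer_iff.1 (hCn ht)
    have key : ∀ g : G, g ∈ T → ∀ c ∈ Dc, g * c * g⁻¹ ∈ Dc := fun g hg c hc => by
      refine ⟨(mem_normalizer_iff.1 (hCn hg) c).1 hc.1, mem_centralizer_iff.2 fun y hy => ?_⟩
      have h1 := mem_centralizer_iff.1 hc.2 _ ((mem_normalizer_iff''.1 (hCn hg) y).1 hy)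
      calc y * (g * c * g⁻¹) = g * (g⁻¹ * y * g * c) * g⁻¹ := by group
        _ = g * (c * (g⁻¹ * y * g)) * g⁻¹ := by rw [h1]
        _ = g * c * g⁻¹ * y := by group
    refine mem_normalizer_iff.2 fun c => ⟨key t ht c, fun hc => ?_⟩
    have := key t⁻¹ (inv_mem ht) _ hc
    simpa [mul_assoc] using this
  obtain ⟨d, hd⟩ := IsPGroup.iff_card.1 hC
  by_cases hab : Dc = C
  · -- abelian case
    refine ⟨C, hCR, hab ▸ hDcEA, ?_⟩
    by_contra hlt
    letI : CommGroup ↥C :=
      { (inferInstance : Group ↥C) with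
        mul_comm := fun a b => Subtype.ext
          (mem_centralizer_iff.1 (hab.ge b.2).2 a a.2) }
    have hd2 : d ≤ 2 := by
      by_contra h
      exact hlt (hd ▸ Nat.pow_le_pow_right hqp.pos (by omega))
    have hcard : Nat.card ↥C ≤ q ^ 2 := hd ▸ Nat.pow_le_pow_right hqp.pos hd2
    have htriv := act_trivial D hq (fun a : ↥C => Subtype.ext (by simpa using hexp a a.2)) hcard
      (conjHom hCn)
    refine hCZ fun w hw => mem_centralizer_iff.2 fun c hc => ?_
    obtain ⟨w', hw', rfl⟩ := hw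
    have h1 := congrArg (fun f : MulAut ↥C => ((f ⟨c, hc⟩ : ↥C) : G)) (htriv w' hw')
    rw [conjHom_apply] at h1
    exact (mul_inv_eq_iff_eq_mul.1 h1).symm
  obtain ⟨x, hxC, hxD⟩ := SetLike.exists_of_lt (lt_of_le_of_ne inf_le_left hab : Dc < C)
  have hxc : ∀ k ∈ Dc, k * x = x * k := fun k hk => (mem_centralizer_iff.1 hk.2 x hxC).symm
  have hE := isElemAb_sup hDcEA (hexp x hxC) hxc
  have hEle : zpowers x ⊔ Dc ≤ C := sup_le (zpowers_le.2 hxC) inf_le_left
  have hEcard := card_sup_eq (hexp x hxC) hxD hxc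
  obtain ⟨e, he⟩ := IsPGroup.iff_card.1 (hC.to_le (inf_le_left : Dc ≤ C))
  by_cases he2 : 2 ≤ e
  · refine ⟨_, hEle.trans hCR, hE, ?_⟩
    rw [hEcard, he, ← pow_succ']
    exact Nat.pow_le_pow_right hqp.pos (by omega)
  have heq : Nat.card ↥Dc ≤ q := by
    rw [he]; exact (Nat.pow_le_pow_right hqp.pos (show e ≤ 1 by omega)).trans (pow_one q).le
  -- the quotient has order at least `q³`
  have hbig : q ^ 3 * Nat.card ↥Dc ≤ Nat.card ↥C := by
    set N := Dc.subgroupOf C with hN
    haveI : N.Normal := ⟨fun a ha g => by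
      rw [hN, mem_subgroupOf] at ha ⊢
      rw [Subgroup.coe_mul, Subgroup.coe_mul, Subgroup.coe_inv,
        mem_centralizer_iff.1 ha.2 g g.2, mul_inv_cancel_right]
      exact ha⟩
    have hquot : Nat.card ↥C = Nat.card (↥C ⧸ N) * Nat.card ↥Dc := by
      rw [card_eq_card_quotient_mul_card_subgroup N,
        Nat.card_congr (subgroupOfEquivOfLe (inf_le_left : Dc ≤ C)).toEquiv]
    rw [hquot]
    refine Nat.mul_le_mul_right _ ?_
    by_contra hlt
    letI : CommGroup (↥C ⧸ N) :=
      { (inferInstance : Group (↥C ⧸ N)) with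
        mul_comm := fun a b => by
          induction a using QuotientGroup.induction_on with
          | H a =>
          induction b using QuotientGroup.induction_on with
          | H b =>
          rw [← QuotientGroup.mk_mul, ← QuotientGroup.mk_mul, QuotientGroup.eq]
          rw [hN, mem_subgroupOf]
          have h1 : ((((a * b)⁻¹ * (b * a) : ↥C)) : G) ∈ ⁅C, C⁆ := by
            push_cast
            rw [show ((a : G) * b)⁻¹ * (b * a) = (b : G)⁻¹ * (a : G)⁻¹ * (b : G)⁻¹⁻¹ * (a : G)⁻¹⁻¹ by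
              group]
            exact commutator_mem_commutator (inv_mem b.2) (inv_mem a.2)
          exact ⟨commutator_le_self C h1, hDc h1⟩ }
    let ψ : ↥T →* MulAut (↥C ⧸ N) :=
      { toFun := fun t => QuotientGroup.congr N N (conjHom hCn t) (by
          ext c
          rw [mem_map]
          constructor
          · rintro ⟨b, hb, rfl⟩
            rw [hN, mem_subgroupOf] at hb ⊢
            exact (mem_normalizer_iff.1 (hDcn t.2) _).1 hb
          · intro hc
            refine ⟨(conjHom hCn t).symm c, ?_, MulEquiv.apply_symm_apply _ _⟩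
            rw [hN, mem_subgroupOf] at hc ⊢
            exact (mem_normalizer_iff''.1 (hDcn t.2) _).1 hc)
        map_one' := MulEquiv.ext fun a => by
          induction a using QuotientGroup.induction_on with
          | H a => simp
        map_mul' := fun t t' => MulEquiv.ext fun a => by
          induction a using QuotientGroup.induction_on with
          | H a => simp }
    obtain ⟨m, hm⟩ := IsPGroup.iff_card.1 (hC.to_quotient N)
    have hcard : Nat.card (↥C ⧸ N) ≤ q ^ 2 := by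
      rw [hm] at hlt ⊢
      refine Nat.pow_le_pow_right hqp.pos ?_
      by_contra h
      exact hlt (Nat.pow_le_pow_right hqp.pos (by omega))
    have htriv := act_trivial D hq (fun a : ↥C ⧸ N => by
      induction a using QuotientGroup.induction_on with
      | H a =>
        rw [← QuotientGroup.mk_pow, show a ^ q = 1 from Subtype.ext (by simpa using hexp a a.2),
          QuotientGroup.mk_one]) hcard ψ
    refine hCZ (Coprime.le_centralizer_of_series (N := Dc) (hcop inf_le_left) ?_ ?_)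
    · rw [commutator_le]
      intro c hc w hw
      obtain ⟨w', hw', rfl⟩ := hw
      have h1 := congrArg (fun f : MulAut (↥C ⧸ N) => f ↑(⟨c, hc⟩ : ↥C)) (htriv w' hw')
      change ((conjHom hCn w' ⟨c, hc⟩ : ↥C) : ↥C ⧸ N) = _ at h1
      rw [MulAut.one_apply, QuotientGroup.eq, hN, mem_subgroupOf, Subgroup.coe_mul,
        Subgroup.coe_inv, conjHom_apply] at h1
      have h2 := (mem_centralizer_iff.1 h1.2 c hc)
      have h3 : c * ((w' : G) * c * (w' : G)⁻¹)⁻¹ = ((w' : G) * c * (w' : G)⁻¹)⁻¹ * c := by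
        refine mul_right_cancel (b := c) ?_
        rw [mul_assoc]
        exact h2
      rw [commutatorElement_def, coe_subtype,
        show c * (w' : G) * c⁻¹ * (w' : G)⁻¹ = c * ((w' : G) * c * (w' : G)⁻¹)⁻¹ by group, h3]
      exact h1
    · rw [commutator_eq_bot_iff_le_centralizer, le_centralizer_iff]
      exact hsmall _ inf_le_left hab hDcn
  -- a second element commuting with `x`
  set Cx := C ⊓ centralizer ({x} : Set G) with hCx
  have hCxcard : Nat.card ↥C ≤ Nat.card ↥Cx * q := by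
    let f : ↥C →* ↥Dc :=
      { toFun := fun s => ⟨(s : G) * x * (s : G)⁻¹ * x⁻¹,
          ⟨commutator_le_self C (commutator_mem_commutator s.2 hxC),
            hDc (commutator_mem_commutator s.2 hxC)⟩⟩
        map_one' := Subtype.ext (by simp)
        map_mul' := fun s t => Subtype.ext (by
          push_cast
          have h1 := mem_centralizer_iff.1 (hDc (commutator_mem_commutator t.2 hxC)) s s.2
          rw [commutatorElement_def] at h1
          calc (s : G) * t * x * ((s : G) * t)⁻¹ * x⁻¹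
              = ((s : G) * ((t : G) * x * (t : G)⁻¹ * x⁻¹)) * (x * (s : G)⁻¹ * x⁻¹) := by group
            _ = ((t : G) * x * (t : G)⁻¹ * x⁻¹) * ((s : G) * x * (s : G)⁻¹ * x⁻¹) := by
              rw [h1]; group
            _ = _ := by
              exact mem_centralizer_iff.1 (hDc (commutator_mem_commutator s.2 hxC)) _
                (commutator_le_self C (commutator_mem_commutator t.2 hxC))) }
    have h1 := f.ker.card_mul_index
    rw [index_ker] at h1
    have h2 : Nat.card ↥f.range ≤ q := le_trans (card_le_card_group _) heq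
    have h3 : Nat.card ↥f.ker ≤ Nat.card ↥Cx := by
      rw [← card_map_of_injective (f := C.subtype) C.subtype_injective]
      refine card_le_of_le ?_
      rintro _ ⟨s, hs, rfl⟩
      refine ⟨s.2, mem_centralizer_singleton_iff.2 ?_⟩
      exact mul_inv_eq_iff_eq_mul.1 (mul_inv_eq_one.1 (congrArg Subtype.val (MonoidHom.mem_ker.1 hs)))
    rw [← h1]
    exact Nat.mul_le_mul h3 h2
  have hDpos : 1 < Nat.card ↥Dc := by
    refine Finite.one_lt_card_iff_nontrivial.2 ((Subgroup.nontrivial_iff_ne_bot _).2 fun h => ?_)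
    refine hab (le_antisymm inf_le_left fun c hc => ⟨hc, mem_centralizer_iff.2 fun y hy => ?_⟩)
    have h1 : y * c * y⁻¹ * c⁻¹ ∈ ⁅C, C⁆ := commutator_mem_commutator hy hc
    have h2 : y * c * y⁻¹ * c⁻¹ ∈ Dc := ⟨commutator_le_self C h1, hDc h1⟩
    rw [h, mem_bot, mul_inv_eq_one, mul_inv_eq_iff_eq_mul] at h2
    exact h2
  obtain ⟨y, hy, hyE⟩ : ∃ y ∈ Cx, y ∉ zpowers x ⊔ Dc := by
    by_contra h
    push Not at h
    have h1 := card_le_of_le (H := Cx) (K := zpowers x ⊔ Dc) h
    rw [hEcard] at h1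
    have h2 := hbig.trans (hCxcard.trans (Nat.mul_le_mul_right q h1))
    have h3 : q ^ 3 * Nat.card ↥Dc ≤ q ^ 2 * Nat.card ↥Dc := by
      refine h2.trans (le_of_eq ?_); ring
    have h4 := Nat.le_of_mul_le_mul_right h3 (by omega)
    exact absurd h4 (not_le.2 (Nat.pow_lt_pow_right hqp.one_lt (by norm_num)))
  have hyc : ∀ k ∈ zpowers x ⊔ Dc, k * y = y * k := fun k hk => by
    have h1 : zpowers x ⊔ Dc ≤ centralizer ({y} : Set G) := sup_le
      (zpowers_le.2 (mem_centralizer_singleton_iff.2 (mem_centralizer_singleton_iff.1 hy.2).symm))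
      (fun k hk => mem_centralizer_singleton_iff.2 (mem_centralizer_iff.1 hk.2 y hy.1).symm)
    exact mem_centralizer_singleton_iff.1 (h1 hk)
  refine ⟨zpowers y ⊔ (zpowers x ⊔ Dc), (sup_le (zpowers_le.2 hy.1) hEle).trans hCR,
    isElemAb_sup hE (hexp y hy.1) hyc, ?_⟩
  rw [card_sup_eq (hexp y hy.1) hyE hyc, hEcard, pow_succ', pow_two]
  exact Nat.mul_le_mul_left _ (Nat.mul_le_mul_left _ (by
    obtain ⟨m, hm⟩ : ∃ m, Nat.card ↥Dc = q ^ m := ⟨e, he⟩
    rw [hm] at hDpos ⊢
    rcases Nat.eq_zero_or_pos m with h0 | h0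
    · rw [h0, pow_zero] at hDpos; omega
    · exact le_trans (pow_one q).ge (Nat.pow_le_pow_right hqp.pos h0)))

end Cube

end Cfsg.Agent.Lib.PiHomog3258.Local74
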