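import Cfsg.Agent.Lib.PiHomog3258.Local74.Signal
import Cfsg.Agent.Lib.PiHomog3258.Local74.Rank
import Cfsg.Agent.Lib.CharP.Basic
import Cfsg.Prelude.Def_Amalgam

/-!
# `C(a)` is maximal and has a normal `r`-subgroup on which the other involutions are free
-/

set_option autoImplicit false
set_option linter.unusedSectionVars false
set_option linter.style.haveILetI false

namespace Cfsg.Agent.Lib.PiHomog3258.Local74

open Subgroup
open scoped Pointwise

universe u

variable {G : Type u} [Group G] [Finite G] {π : Set ℕ}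

theorem map_pCoreOf_le (p : ℕ) [Fact p.Prime] (K : Subgroup G) {n : G}
    (hn : n ∈ normalizer (K : Set G)) :
    (Cfsg.pCoreOf p K).map (MulAut.conj n).toMonoidHom ≤ Cfsg.pCoreOf p K := by
  refine CharP.le_pCoreOf ((CharP.isPGroup_pCoreOf p K).map _) ?_ fun k hk => ?_
  · exact (Subgroup.map_mono (CharP.pCoreOf_le p K)).trans (mem_normalizer_conj_iff.1 hn).le
  · refine mem_normalizer_conj_iff.2 ?_
    have hk' : n⁻¹ * k * n ∈ K := (mem_normalizer_iff''.1 hn k).1 hk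
    rw [map_conj_trans, show k * n = n * (n⁻¹ * k * n) by group, ← map_conj_trans,
      mem_normalizer_conj_iff.1 (CharP.le_normalizer_pCoreOf p K hk')]

theorem normalizer_le_normalizer_pCoreOf (p : ℕ) [Fact p.Prime] (K : Subgroup G) :
    normalizer (K : Set G) ≤ normalizer (Cfsg.pCoreOf p K : Set G) := fun n hn =>
  mem_normalizer_conj_iff.2 (eq_of_le_of_card_ge (map_pCoreOf_le p K hn)
    (card_map_of_injective (MulAut.conj n).injective).ge)

/-- An element moving `a` has a power of odd order moving `a`. -/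
theorem exists_odd_moving {S : Sylow 2 G} {a m : G} (ha : a ∈ Five.zS S)
    (hm : m ∈ normalizer ((S : Subgroup G) : Set G)) (hmove : m * a * m⁻¹ ≠ a) :
    ∃ i : ℕ, Odd (orderOf (m ^ i)) ∧ m ^ i * a * (m ^ i)⁻¹ ≠ a := by
  haveI : Fact (Nat.Prime 2) := ⟨Nat.prime_two⟩
  obtain ⟨i, k, hk, hik⟩ := Nat.exists_eq_two_pow_mul_odd (orderOf_pos m).ne'
  refine ⟨2 ^ i, ?_, fun h1 => hmove ?_⟩
  · rw [orderOf_pow_of_dvd (by positivity) ⟨k, hik⟩, hik,
      Nat.mul_div_cancel_left _ (by positivity)]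
    exact hk
  have hfix2 : Commute (m ^ k) a := by
    have ho : (m ^ k) ^ 2 ^ i = 1 := by rw [← pow_mul, mul_comm, ← hik, pow_orderOf_eq_one]
    have hp : IsPGroup 2 ↥(zpowers (m ^ k)) := by
      obtain ⟨j, -, hj⟩ := (Nat.dvd_prime_pow Nat.prime_two).1 (orderOf_dvd_of_pow_eq_one ho)
      exact IsPGroup.of_card (n := j) (by rw [Nat.card_zpowers, hj])
    exact (Five.mem_zS.1 ha).2 _
      ((hp.inf_normalizer_sylow S).le ⟨mem_zpowers _, pow_mem hm k⟩).2
  have hcomm : Commute (m ^ 2 ^ i) a := mul_inv_eq_iff_eq_mul.1 h1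
  have h2 : Commute (m ^ ((Nat.gcd (2 ^ i) k : ℕ) : ℤ)) a := by
    rw [Nat.gcd_eq_gcd_ab, zpow_add, zpow_mul, zpow_mul, zpow_natCast, zpow_natCast]
    exact (hcomm.zpow_left _).mul_left (hfix2.zpow_left _)
  rw [(Nat.coprime_two_left.2 hk).pow_left i, Nat.cast_one, zpow_one] at h2
  rw [h2.eq, mul_inv_cancel_right]

namespace Conf

variable {S : Sylow 2 G} {a g : G} (C : Conf π S a g)
include C

local notation "V" => Five.zS S

theorem acts_as_g {n : G} (hn : n ∈ normalizer ((S : Subgroup G) : Set G)) (ho : Odd (orderOf n))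
    (ha : n * a * n⁻¹ = g * a * g⁻¹) : ∀ v ∈ V, n * v * n⁻¹ = g * v * g⁻¹ := by
  obtain ⟨h1, h2⟩ := cycle C.sixty C.a_mem C.a_ne_one hn ho (ha ▸ C.g_move)
  rw [ha] at h1 h2
  intro v hv
  rcases C.cases hv with rfl | rfl | rfl | rfl
  · group
  · exact ha
  · exact h1.trans C.cyc.1.symm
  · exact h2.trans C.cyc.2.symm

theorem exists_acting_as_g {M : Subgroup G} {m : G} (hmM : m ∈ M)
    (hm : m ∈ normalizer ((S : Subgroup G) : Set G)) (hmove : m * a * m⁻¹ ≠ a) :
    ∃ x ∈ M, ∀ v ∈ V, x * v * x⁻¹ = g * v * g⁻¹ := by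
  obtain ⟨i, ho, hi⟩ := exists_odd_moving C.a_mem hm hmove
  have hN : m ^ i ∈ normalizer ((S : Subgroup G) : Set G) := pow_mem hm i
  set n := m ^ i with hn
  rcases C.cases (conj_mem_zS hN C.a_mem) with h | h | h | h
  · exact absurd (conj_eq_one_iff.1 h) C.a_ne_one
  · exact absurd h hi
  · exact ⟨n, pow_mem hmM i, C.acts_as_g hN ho h⟩
  · obtain ⟨h1, -⟩ := cycle C.sixty C.a_mem C.a_ne_one hN ho hi
    refine ⟨n ^ 2, pow_mem (pow_mem hmM i) 2, C.acts_as_g (pow_mem hN 2) ?_ ?_⟩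
    · exact Odd.of_dvd_nat ho (orderOf_pow_dvd 2)
    · calc n ^ 2 * a * (n ^ 2)⁻¹ = n * (n * a * n⁻¹) * n⁻¹ := by rw [pow_two]; group
        _ = a * (n * a * n⁻¹) := h1
        _ = g * a * g⁻¹ := by rw [h, ← mul_assoc, sq_zS C.sixty C.a_mem, one_mul]

/-- Frattini argument: a proper overgroup of `S` is `K N(S)`. -/
theorem exists_frattini {H : Subgroup G} (hH : H ≠ ⊤) (hSH : (S : Subgroup G) ≤ H) {x : G}
    (hx : x ∈ H) : ∃ k ∈ piCore π H, k⁻¹ * x ∈ normalizer ((S : Subgroup G) : Set G) := by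
  haveI : Fact (Nat.Prime 2) := ⟨Nat.prime_two⟩
  obtain ⟨K, hK⟩ := C.min.proper H hH
  set N := K.subgroupOf H with hN
  haveI hNn : N.Normal := ⟨fun y hy z => by
    rw [hN, mem_subgroupOf] at hy ⊢
    exact (hK _).2 ⟨(z * y * z⁻¹).2, by
      push_cast
      exact piP_conj (z : G) ((hK _).1 hy).2⟩⟩
  have hNp : ∀ y ∈ N, PiP π y := fun y hy =>
    piP_of_dvd (Subgroup.orderOf_coe y).symm.dvd ((hK _).1 hy).2
  have hQ := (C.min.hyp.subgroup H).quotient N hNp
  have hπ : PiNum π (Nat.card (↥H ⧸ N)) := by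
    rw [← index_eq_card]
    exact ClosedIn.piNum_relIndex hK
  set P := S.subtype hSH with hP
  have hsurj := QuotientGroup.mk'_surjective N
  haveI hPn : ((P.mapSurjective hsurj : Sylow 2 (↥H ⧸ N)) : Subgroup (↥H ⧸ N)).Normal := by
    have e := (Subgroup.topEquiv : (⊤ : Subgroup (↥H ⧸ N)) ≃* _)
    exact sylow_normal_of_surjective e.toMonoidHom e.surjective
      (hQ.closed ⊤ (by rwa [card_top])) _
  set L := ((P : Subgroup ↥H).map (QuotientGroup.mk' N)).comap (QuotientGroup.mk' N) with hL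
  have hPL : (P : Subgroup ↥H) ≤ L := le_comap_map _ _
  haveI hLn : L.Normal := by
    rw [Sylow.coe_mapSurjective] at hPn
    exact hPn.comap _
  have hfr := Sylow.normalizer_sup_eq_top' (N := L) P hPL
  have hLeq : L = (P : Subgroup ↥H) ⊔ N := by rw [hL, comap_map_eq, QuotientGroup.ker_mk']
  have htop : N ⊔ normalizer ((P : Subgroup ↥H) : Set ↥H) = ⊤ := by
    rw [eq_top_iff, ← hfr, hLeq]
    exact sup_le le_sup_right (sup_le (le_normalizer.trans le_sup_right) le_sup_left)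
  have hxm : (⟨x, hx⟩ : ↥H) ∈ (N : Set ↥H) * (normalizer ((P : Subgroup ↥H) : Set ↥H) : Set ↥H) := by
    rw [← normal_mul, htop]; exact mem_top _
  obtain ⟨k, hk, n, hn, hkn⟩ := hxm
  refine ⟨k, mem_piCore_of k.2 ((hK _).1 hk).2, ?_⟩
  have hn' : (k : G)⁻¹ * x = (n : G) := by
    have h1 : (k : G) * (n : G) = x := congrArg Subtype.val hkn
    rw [← h1, inv_mul_cancel_left]
  rw [hn']
  refine mem_normalizer_iff.2 fun s => ⟨fun hs => ?_, fun hs => ?_⟩
  · have h1 : n * ⟨s, hSH hs⟩ * n⁻¹ ∈ (P : Subgroup ↥H) :=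
      (mem_normalizer_iff.1 hn ⟨s, hSH hs⟩).1 hs
    exact h1
  · have hsH : s ∈ H := by
      have := mul_mem (mul_mem (inv_mem n.2) (hSH hs)) n.2
      simpa [mul_assoc] using this
    exact (mem_normalizer_iff.1 hn ⟨s, hsH⟩).2 hs

/-- An element of `V` centralising the Fitting subgroup of a π'-core centralises the core. -/
theorem le_centralizer_of_cores {M : Subgroup G} (hM : M ≠ ⊤) {z : G} (hz : z ∈ V)
    (hzM : z ∈ M)
    (h : ∀ p : ℕ, p.Prime → Cfsg.pCoreOf p (piCore π M) ≤ centralizer ({z} : Set G)) :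
    piCore π M ≤ centralizer ({z} : Set G) := by
  set K := piCore π M with hK
  haveI := C.isSolvable_piCore hM
  set F := (Cfsg.fittingSubgroup ↥K).map K.subtype with hF
  have hzK : zpowers z ≤ normalizer (K : Set G) := zpowers_le.2 (le_normalizer_piCore M hzM)
  have hFz : ∀ x ∈ F, z * x = x * z := by
    intro x hx
    have hle : F ≤ centralizer ({z} : Set G) := by
      rw [hF, Cores.fittingSubgroup_eq_iSup_pCore, Subgroup.map_iSup]
      exact iSup_le fun p => h p p.2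
    exact (mem_centralizer_singleton_iff.1 (hle hx)).symm
  have h1 : ⁅F, zpowers z⁆ = ⊥ := by
    rw [commutator_eq_bot_iff_le_centralizer]
    intro x hx
    rw [mem_centralizer_iff]
    rintro y ⟨i, rfl⟩
    exact ((show Commute z x from hFz x hx).zpow_left i).eq
  have hKF : ⁅K, F⁆ ≤ F := by
    rw [hF, commutator_le]
    rintro k hk _ ⟨f, hf, rfl⟩
    refine ⟨⟨k, hk⟩ * f * ⟨k, hk⟩⁻¹ * f⁻¹, mul_mem ?_ (inv_mem hf), rfl⟩
    haveI : (Cfsg.fittingSubgroup ↥K).Normal := inferInstance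
    exact Normal.conj_mem inferInstance f hf _
  have h2 : ⁅⁅zpowers z, K⁆, F⁆ = ⊥ := by
    refine commutator_commutator_eq_bot_of_rotate ?_ ?_
    · exact le_bot_iff.1 (h1 ▸ commutator_mono hKF le_rfl)
    · rw [h1, commutator_bot_left]
  have hKz : ⁅K, zpowers z⁆ ≤ K := Coprime.commutator_le_of_le_normalizer hzK
  have h3 : ⁅K, zpowers z⁆ ≤ F := by
    intro x hx
    have hxc : x ∈ centralizer (F : Set G) := by
      rw [commutator_eq_bot_iff_le_centralizer, commutator_comm (zpowers z)] at h2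
      exact h2 hx
    refine ⟨⟨x, hKz hx⟩, Cores.centralizer_fittingSubgroup_le ?_, rfl⟩
    exact mem_centralizer_iff.2 fun f hf => Subtype.ext
      (mem_centralizer_iff.1 hxc (f : G) ⟨f, hf, rfl⟩)
  have h4 : zpowers z ≤ centralizer (K : Set G) := by
    refine Coprime.le_centralizer_of_commutator_commutator ?_
      (le_bot_iff.1 (h1 ▸ commutator_mono h3 le_rfl))
    refine Nat.Coprime.coprime_dvd_right (card_dvd_of_le hKz) ?_
    exact (C.coprime_zS (C.odd_piCore hM)).coprime_dvd_left (card_dvd_of_le (zpowers_le.2 hz))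
  intro k hk
  exact mem_centralizer_singleton_iff.2 (mem_centralizer_iff.1 (h4 (mem_zpowers z)) k hk)

theorem dvd_card_piCore_a {v : G} (hv : v ∈ V) (hv1 : v ≠ 1) :
    Nat.card ↥(piCore π (centralizer ({v} : Set G))) =
      Nat.card ↥(piCore π (centralizer ({a} : Set G))) := by
  have key : ∀ n : G, Nat.card ↥(piCore π (centralizer ({n * a * n⁻¹} : Set G))) =
      Nat.card ↥(piCore π (centralizer ({a} : Set G))) := fun n => by
    rw [← centralizer_map_conj, ← map_piCore, card_map_of_injective (MulAut.conj n).injective]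
  rcases C.cases hv with h | h | h | h
  · exact absurd h hv1
  · rw [h]
  · rw [h, key g]
  · rw [h, ← C.cyc.1, show g * (g * a * g⁻¹) * g⁻¹ = (g * g) * a * (g * g)⁻¹ by group, key]

/-- In a maximal overgroup of `C(a)` the normal `r`-subgroups of the core commute with `a`. -/
theorem pCoreOf_le_centralizer {M : Subgroup G} (hM : M ≠ ⊤)
    (hmax : ∀ K : Subgroup G, M ≤ K → K ≠ ⊤ → K = M) (haM : centralizer ({a} : Set G) ≤ M)
    {r : ℕ} (hr : r.Prime) : Cfsg.pCoreOf r (piCore π M) ≤ centralizer ({a} : Set G) := by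
  haveI := Fact.mk hr
  set O := Cfsg.pCoreOf r (piCore π M) with hO
  intro o ho
  by_contra hne
  have hOne : O ≠ ⊥ := fun h => hne (by rw [h, mem_bot] at ho; rw [ho]; exact one_mem _)
  have hOr := CharP.isPGroup_pCoreOf r (piCore π M)
  have hrπ : r ∉ π := by
    obtain ⟨n, hn⟩ := IsPGroup.iff_card.1 hOr
    refine C.not_mem_of_dvd hM hr ((dvd_pow_self r ?_).trans
      (hn ▸ card_dvd_of_le (CharP.pCoreOf_le r _)))
    rintro rfl
    exact hOne (O.eq_bot_of_card_eq (by rw [hn, pow_zero]))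
  have hSM : (S : Subgroup G) ≤ M := (C.sylow_le_centralizer C.a_mem).trans haM
  have hOn : M ≤ normalizer (O : Set G) :=
    (le_normalizer_piCore M).trans (normalizer_le_normalizer_pCoreOf r _)
  have hOM : O ≤ M := (CharP.pCoreOf_le r _).trans (piCore_le M)
  obtain ⟨E, hEO, hE, hE3⟩ := exists_elemAb_cube C.sixty (C.ne_two hrπ) hOr (hSM.trans hOn)
    (C.zS_le C.a_mem) (Five.mem_zS.1 C.a_mem).2
    ⟨o, ho, fun h => hne (mem_centralizer_singleton_iff.2 h.symm)⟩
  have hVM : V ≤ M := C.zS_le.trans hSM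
  have hOinv : Inv V r O := ⟨hVM.trans hOn, hOr⟩
  -- `O` meets the centraliser of another involution
  obtain ⟨v, hv, hv1, hva, hmv⟩ : ∃ v ∈ V, v ≠ 1 ∧ v ≠ a ∧ Meets O v := by
    by_contra hc
    push Not at hc
    haveI := C.zS_comm
    have h1 : O ≤ centralizer ({a} : Set G) := by
      conv_lhs => rw [← Coprime.iSup_centralizer_eq C.zS_not_isCyclic hOinv.1
        (C.coprime_zS (C.odd_inv hrπ hOinv))]
      refine iSup₂_le fun v hv => ?_
      by_cases hva : v = a
      · exact hva ▸ inf_le_right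
      · exact le_of_eq_of_le (not_not.1 (hc v hv.1 hv.2 hva)) bot_le
    exact hne (h1 ho)
  -- a Sylow subgroup of the core containing `O` and meeting `C(a)`
  have hdvd : r ∣ Nat.card ↥(piCore π (centralizer ({a} : Set G))) := by
    rw [← C.dvd_card_piCore_a hv hv1]
    obtain ⟨n, hn⟩ := IsPGroup.iff_card.1 (hOr.to_le (inf_le_left :
      O ⊓ centralizer ({v} : Set G) ≤ O))
    refine (dvd_pow_self r ?_).trans (hn ▸ card_dvd_of_le
      (C.le_piCore hr hrπ (hOr.to_le inf_le_left) inf_le_right))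
    rintro rfl
    exact hmv ((O ⊓ centralizer ({v} : Set G)).eq_bot_of_card_eq (by rw [hn, pow_zero]))
  have hA := C.centralizer_ne_top C.a_ne_one
  obtain ⟨Pa, hPa⟩ := C.exists_invSyl hrπ hA (C.zS_le_normalizer_centralizer a C.a_mem)
  have hPane : Pa ≠ ⊥ := fun h => by
    have h1 := hPa.2.2
    rw [h, card_bot, eq_comm] at h1
    exact (hr.factorization_pos_of_dvd Nat.card_pos.ne' hdvd).ne'
      ((Nat.pow_eq_one.1 h1).resolve_left hr.ne_one)
  obtain ⟨U, hU, hPaU⟩ := C.exists_invSyl_ge hrπ hM (hVM.trans le_normalizer) hPa.1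
    ((hPa.2.1.trans (piCore_le _)).trans haM)
  obtain ⟨U', hU', hOU'⟩ := C.exists_invSyl_ge hrπ hM (hVM.trans le_normalizer) hOinv hOM
  obtain ⟨x, -, hxM, hxU⟩ := C.invSyl_conj hrπ hM (hVM.trans le_normalizer) hU' hU
  have hOU : O ≤ U := by
    rw [← mem_normalizer_conj_iff.1 (hOn hxM), ← hxU]
    exact Subgroup.map_mono hOU'
  refine C.false_of_two_meets hrπ hM hmax haM hOM hOr hOn hEO hE hE3 hU.1 hv hv1 C.a_mem
    C.a_ne_one hva (hmv.mono hOU) (fun h => hPane (eq_bot_iff.2 ?_))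
  exact (le_inf hPaU (hPa.2.1.trans (piCore_le _))).trans h.le

/-- `C(a)` is a maximal subgroup. -/
theorem max_centralizer (K : Subgroup G) (hle : centralizer ({a} : Set G) ≤ K) (hK : K ≠ ⊤) :
    K = centralizer ({a} : Set G) := by
  obtain ⟨M, hKM, hM, hmax⟩ := Finite.exists_le_maximal (p := fun H : Subgroup G => H ≠ ⊤)
    (a := K) hK
  have haM := hle.trans hKM
  have hmax' : ∀ L : Subgroup G, M ≤ L → L ≠ ⊤ → L = M := fun L h1 h2 =>
    le_antisymm (hmax h2 h1) h1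
  have hSM : (S : Subgroup G) ≤ M := (C.sylow_le_centralizer C.a_mem).trans haM
  have hcore : piCore π M ≤ centralizer ({a} : Set G) :=
    C.le_centralizer_of_cores hM C.a_mem (hSM (C.zS_le C.a_mem))
      fun p hp => C.pCoreOf_le_centralizer hM hmax' haM hp
  refine le_antisymm (hKM.trans fun x hx => ?_) hle
  obtain ⟨k, hk, hkn⟩ := C.exists_frattini hM hSM hx
  have hnM : k⁻¹ * x ∈ M := mul_mem (inv_mem (piCore_le M hk)) hx
  have hfix : k⁻¹ * x * a * (k⁻¹ * x)⁻¹ = a := by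
    by_contra hmove
    obtain ⟨y, hyM, hy⟩ := C.exists_acting_as_g hnM hkn hmove
    exact C.false_of_moving hM haM hyM hy
  have h2 := mul_mem (hcore hk) (mem_centralizer_singleton_iff.2 (mul_inv_eq_iff_eq_mul.1 hfix))
  rwa [mul_inv_cancel_left] at h2

/-- A normal `r`-subgroup of `C(a)` on which the other involutions are free. -/
theorem exists_free : ∃ (r : ℕ) (L : Subgroup G), r.Prime ∧ r ∉ π ∧ L ≤ piCore π (centralizer ({a} : Set G)) ∧
    IsPGroup r ↥L ∧ L ≠ ⊥ ∧ centralizer ({a} : Set G) ≤ normalizer (L : Set G) ∧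
    (∀ v ∈ V, v ≠ 1 → v ≠ a → ∀ x ∈ L, v * x = x * v → x = 1) ∧
    ∀ U : Subgroup G, Inv V r U → ∀ v ∈ V, v ≠ 1 → ∀ w ∈ V, w ≠ 1 → v ≠ w →
      Meets U v → Meets U w → False := by
  set A := centralizer ({a} : Set G) with hA
  have hAtop : A ≠ ⊤ := C.centralizer_ne_top C.a_ne_one
  obtain ⟨r, hr, hnb⟩ : ∃ r : ℕ, r.Prime ∧
      ¬ Cfsg.pCoreOf r (piCore π A) ≤ centralizer ({g * a * g⁻¹} : Set G) := by
    by_contra hc
    push Not at hc
    obtain ⟨k, hk, hkb⟩ := C.exists_moved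
    exact hkb (mem_centralizer_singleton_iff.1 (C.le_centralizer_of_cores hAtop C.b_mem
      (C.sylow_le_centralizer C.a_mem (C.zS_le C.b_mem)) hc hk))
  haveI := Fact.mk hr
  set L := Cfsg.pCoreOf r (piCore π A) with hL
  obtain ⟨x, hx, hxb⟩ := SetLike.not_le_iff_exists.1 hnb
  have hLne : L ≠ ⊥ := fun h => hxb (by rw [h, mem_bot] at hx; rw [hx]; exact one_mem _)
  have hLr := CharP.isPGroup_pCoreOf r (piCore π A)
  have hrπ : r ∉ π := by
    obtain ⟨n, hn⟩ := IsPGroup.iff_card.1 hLr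
    refine C.not_mem_of_dvd hAtop hr ((dvd_pow_self r ?_).trans
      (hn ▸ card_dvd_of_le (CharP.pCoreOf_le r _)))
    rintro rfl
    exact hLne (L.eq_bot_of_card_eq (by rw [hn, pow_zero]))
  have hLK : L ≤ piCore π A := CharP.pCoreOf_le r _
  have hLn : A ≤ normalizer (L : Set G) :=
    (le_normalizer_piCore A).trans (normalizer_le_normalizer_pCoreOf r _)
  have hSA := C.sylow_le_centralizer C.a_mem
  obtain ⟨E, hEL, hE, hE3⟩ := exists_elemAb_cube C.sixty (C.ne_two hrπ) hLr (hSA.trans hLn)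
    (C.zS_le C.b_mem) (Five.mem_zS.1 C.b_mem).2
    ⟨x, hx, fun h => hxb (mem_centralizer_singleton_iff.2 h.symm)⟩
  have key : ∀ U : Subgroup G, Inv V r U → ∀ v ∈ V, v ≠ 1 → ∀ w ∈ V, w ≠ 1 → v ≠ w →
      Meets U v → Meets U w → False := fun U hU v hv hv1 w hw hw1 hvw hmv hmw =>
    C.false_of_two_meets hrπ hAtop C.max_centralizer le_rfl (hLK.trans (piCore_le A)) hLr hLn hEL
      hE hE3 hU hv hv1 hw hw1 hvw hmv hmw
  refine ⟨r, L, hr, hrπ, hLK, hLr, hLne, hLn, fun v hv hv1 hva y hy hvy => ?_, key⟩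
  by_contra hy1
  have hLa : L ≤ A := hLK.trans (piCore_le A)
  refine key L ⟨(C.zS_le.trans hSA).trans hLn, hLr⟩ v hv hv1 a C.a_mem C.a_ne_one hva
    (fun h => hy1 ?_) (fun h => hy1 ?_)
  · exact mem_bot.1 (h ▸ ⟨hy, mem_centralizer_singleton_iff.2 hvy.symm⟩ : y ∈ (⊥ : Subgroup G))
  · exact mem_bot.1 (h ▸ ⟨hy, hLa hy⟩ : y ∈ (⊥ : Subgroup G))

end Conf

end Cfsg.Agent.Lib.PiHomog3258.Local74
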