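import Cfsg.Agent.S0516
import Cfsg.Agent.S1248
import Cfsg.Agent.Lib.TwoGroups.QuasiDihedral
import Cfsg.Agent.Lib.TwoGroups.Wreathed
import Cfsg.Agent.Lib.PiHomog3258.Basic

/-!
# Sylow 2-subgroups with all involutions central and 2-rank two in a simple group

Either a four-group, or of type `U₃(4)`; in the latter case the properties used later.
-/

set_option autoImplicit false
set_option linter.unusedSectionVars false
set_option linter.style.haveILetI false

namespace Cfsg.Agent.Lib.PiHomog3258.Local74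

open Subgroup

universe u

/-- The properties of a 2-group of type `U₃(4)` used below. -/
structure Sixty4 (T : Type u) [Group T] : Prop where
  card : Nat.card T = 64
  card_center : Nat.card ↥(center T) = 4
  comm : _root_.commutator T = center T
  center_sq : ∀ z ∈ center T, z * z = 1
  sq : ∀ x : T, x * x ∈ center T
  invol : ∀ x : T, x * x = 1 → x ∈ center T
  nd : ∀ x : T, x ∉ center T → ∀ z ∈ center T, ∃ t : T, x * t * x⁻¹ * t⁻¹ = z

theorem sixty4_of_coords {F : Type*} [Field F] [Fintype F] (hF : Fintype.card F = 16) {T : Type u}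
    [Group T] (C : Fusion.U34Sylow.Coords F T) : Sixty4 T := by
  classical
  obtain ⟨h64, hK, hcl, hcomm, -, hsq⟩ := S1248.structure_of_coords hF C
  have h2 := Fusion.U34Sylow.two_eq_zero hF
  have hF' := Fusion.U34Sylow.card_eq hF
  have : Finite T := Nat.finite_of_card_ne_zero (by omega)
  have hcsq : ∀ z ∈ center T, z * z = 1 := fun z hz => by
    have := hK.exponent_two
    have h := Monoid.pow_exponent_eq_one (⟨z, hz⟩ : ↥(center T))
    rw [this, pow_two] at h
    exact congrArg Subtype.val h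
  have hinv : ∀ x : T, x * x = 1 → x ∈ center T := fun x hx => by
    rcases eq_or_ne x 1 with rfl | hne
    · exact one_mem _
    · rw [hcl]
      exact subset_closure (orderOf_eq_prime (by rw [pow_two]; exact hx) hne)
  refine ⟨h64, hK.card_four, hcomm.symm, hcsq, fun x => ?_, hinv, ?_⟩
  · rw [← QuotientGroup.eq_one_iff, QuotientGroup.mk_mul, ← pow_two]
    exact hsq _
  let co : T → F × F := fun g => (C.equiv.symm g).1
  have hco : ∀ g h, co (g * h) =
      ((co g).1 + (co h).1, (co g).2 + (co h).2 + (co g).1 ^ 4 * (co h).1) := by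
    intro g h
    obtain ⟨w, hw⟩ := C.mul (C.equiv.symm g) (C.equiv.symm h)
    rw [C.equiv.apply_symm_apply, C.equiv.apply_symm_apply] at hw
    simp [co, hw]
  have hinj : ∀ g h, co g = co h → g = h := fun g h e =>
    C.equiv.symm.injective (Subtype.ext e)
  intro x hx z hz
  have ha : (co x).1 ≠ 0 := by
    intro ha
    refine hx (hinv x (hinj _ _ ?_))
    have h1 := hco 1 1
    rw [mul_one] at h1
    have e1 : (co 1).1 = 0 := add_eq_left.1 (congrArg Prod.fst h1).symm
    have e2 : (co 1).2 = 0 := by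
      have := congrArg Prod.snd h1
      simp only [e1, mul_zero, add_zero] at this
      exact add_eq_left.1 this.symm
    rw [hco, ha]
    refine Prod.ext ?_ ?_
    · show (0 : F) + 0 = _; rw [e1, add_zero]
    · show (co x).2 + (co x).2 + _ = _; rw [e2]; linear_combination (co x).2 * h2
  have hz1 : (co z).1 = 0 := by
    have h := congrArg Prod.snd ((hco z z).symm.trans (congrArg co (hcsq z hz)))
    have h1 := hco 1 1
    rw [mul_one] at h1
    have e1 : (co 1).1 = 0 := add_eq_left.1 (congrArg Prod.fst h1).symm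
    have e2 : (co 1).2 = 0 := by
      have := congrArg Prod.snd h1
      simp only [e1, mul_zero, add_zero] at this
      exact add_eq_left.1 this.symm
    simp only [e2] at h
    have h5 : (co z).1 ^ 4 * (co z).1 = 0 := by linear_combination h - (co z).2 * h2
    simpa using h5
  obtain ⟨a, ha'⟩ : ∃ a, a = (co x).1 := ⟨_, rfl⟩
  rw [← ha'] at ha
  obtain ⟨w, hw⟩ := Unitary.trace_surj hF' (y := (co z).2) (by
    have h := (C.equiv.symm z).2
    change (co z).2 + (co z).2 ^ 4 = _ at h
    rw [hz1, zero_mul] at h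
    linear_combination h - (co z).2 * h2)
  have hw16 : (w ^ 4) ^ 4 = w := Unitary.pow_q_q hF' w
  have ha16 : (a ^ 4) ^ 4 = a := Unitary.pow_q_q hF' a
  obtain ⟨p, hp⟩ := Fusion.U34Sylow.exists_pair hF (w * (a ^ 4)⁻¹)
  refine ⟨C.equiv p, mul_inv_eq_iff_eq_mul.2 (mul_inv_eq_iff_eq_mul.2 (hinj _ _ ?_))⟩
  have hc : (co (C.equiv p)).1 = w * (a ^ 4)⁻¹ := by simp [co, hp]
  rw [hco, hco, hco]
  have e : (w * (a ^ 4)⁻¹) ^ 4 * a = w ^ 4 := by
    rw [mul_pow, inv_pow, ha16, mul_assoc, inv_mul_cancel₀ ha, mul_one]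
  have e' : a ^ 4 * (w * (a ^ 4)⁻¹) = w := by
    field_simp
  refine Prod.ext ?_ ?_
  · show (co x).1 + _ = (co z).1 + _ + (co x).1
    rw [hz1]; ring
  · show (co x).2 + (co (C.equiv p)).2 + (co x).1 ^ 4 * _ = (co z).2 + _ + _ + (co x).2 + _ * (co x).1
    rw [hz1, zero_pow (by norm_num), zero_mul, zero_add, ← ha', hc, e, e']
    linear_combination hw - w ^ 4 * h2

variable {G : Type u} [Group G] [Finite G]

/-- A four-group or type `U₃(4)`. -/
theorem four_or_sixty4 [IsSimpleGroup G] (hG : ¬ IsMulCommutative G) (h2 : Cfsg.PRankLE 2 2 G)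
    (S : Sylow 2 G) {z t : G} (hz : z ∈ (S : Subgroup G)) (ht : t ∈ (S : Subgroup G))
    (hzo : orderOf z = 2) (hto : orderOf t = 2) (hne : t ≠ z)
    (hall : ∀ w ∈ (S : Subgroup G), orderOf w = 2 → ∀ s ∈ (S : Subgroup G), s * w = w * s) :
    Nat.card ↥(S : Subgroup G) = 4 ∨ Sixty4 ↥(S : Subgroup G) := by
  classical
  haveI : Fact (Nat.Prime 2) := ⟨Nat.prime_two⟩
  set T := ↥(S : Subgroup G)
  have hcen : ∀ w : T, orderOf w = 2 → w ∈ center T := fun w hw => mem_center_iff.2 fun s =>
    Subtype.ext (hall w w.2 (by rw [Subgroup.orderOf_coe, hw]) s s.2)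
  -- a cyclic centre is impossible
  have hncyc : ∀ g : T, center T ≠ zpowers g := by
    intro g hg
    have hcyc : IsCyclic ↥(center T) := by
      rw [hg]; infer_instance
    letI := Fintype.ofFinite ↥(center T)
    have h1 := IsCyclic.card_pow_eq_one_le (α := ↥(center T)) (n := 2) (by norm_num)
    have hm : ∀ {w : G} (hw : w ∈ (S : Subgroup G)) (_ : orderOf w = 2),
        (⟨w, hw⟩ : T) ∈ center T := fun {w} hw ho => hcen _ (by rw [Subgroup.orderOf_mk, ho])
    let s : Finset ↥(center T) := {1, ⟨⟨z, hz⟩, hm hz hzo⟩, ⟨⟨t, ht⟩, hm ht hto⟩}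
    have hs : s.card = 3 := by
      have h1z : z ≠ 1 := fun h => by rw [h, orderOf_one] at hzo; omega
      have h1t : t ≠ 1 := fun h => by rw [h, orderOf_one] at hto; omega
      have a1 : (1 : ↥(center T)) ≠ ⟨⟨z, hz⟩, hm hz hzo⟩ := fun h => h1z
        (congrArg (fun v : ↥(center T) => ((v : T) : G)) h).symm
      have a2 : (1 : ↥(center T)) ≠ ⟨⟨t, ht⟩, hm ht hto⟩ := fun h => h1t
        (congrArg (fun v : ↥(center T) => ((v : T) : G)) h).symm
      have a3 : (⟨⟨z, hz⟩, hm hz hzo⟩ : ↥(center T)) ≠ ⟨⟨t, ht⟩, hm ht hto⟩ := fun h => hne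
        (congrArg (fun v : ↥(center T) => ((v : T) : G)) h).symm
      simp [s, a1, a2, a3]
    have h3 : s ⊆ Finset.univ.filter fun v => v ^ 2 = 1 := by
      intro v hv
      simp only [s, Finset.mem_insert, Finset.mem_singleton] at hv
      refine Finset.mem_filter.2 ⟨Finset.mem_univ _, ?_⟩
      rcases hv with rfl | rfl | rfl
      · exact one_pow 2
      · exact Subtype.ext (Subtype.ext (show z ^ 2 = 1 by rw [← hzo, pow_orderOf_eq_one]))
      · exact Subtype.ext (Subtype.ext (show t ^ 2 = 1 by rw [← hto, pow_orderOf_eq_one]))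
    have h4 := (Finset.card_le_card h3).trans h1
    omega
  haveI : Fintype (GaloisField 2 4) := Fintype.ofFinite _
  have hF : Fintype.card (GaloisField 2 4) = 16 := by
    rw [← Nat.card_eq_fintype_card, GaloisField.card 2 4 (by norm_num)]
    norm_num
  rcases S0516.result hG h2 S hF (default : Sylow 2 (Cfsg.PSU 3 (GaloisField 2 4) 4)) with
    ⟨n, hn, ⟨e⟩⟩ | hq | hw | ⟨⟨e⟩⟩
  · rcases (Nat.lt_or_ge n 3) with h | h
    · left
      rw [Nat.card_congr e.toEquiv, DihedralGroup.nat_card]
      omega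
    · exfalso
      have h1 : orderOf (DihedralGroup.sr (0 : ZMod n)) = 2 := DihedralGroup.orderOf_sr 0
      have h3 := hcen (e.symm (DihedralGroup.sr 0)) (by rw [MulEquiv.orderOf_eq, h1])
      have h4 := congrArg e (mem_center_iff.1 h3 (e.symm (DihedralGroup.r 1)))
      rw [map_mul, map_mul, e.apply_symm_apply, e.apply_symm_apply, DihedralGroup.r_mul_sr,
        DihedralGroup.sr_mul_r, zero_sub, zero_add] at h4
      injection h4 with h5
      haveI : Fact (2 < n) := ⟨h⟩
      exact ZMod.neg_one_ne_one h5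
  · exfalso
    obtain ⟨k, x, y, D⟩ := TwoGroups.QuasiDihedral.exists_QD hq
    exact hncyc _ (TwoGroups.QuasiDihedral.center_eq D)
  · exfalso
    obtain ⟨k, x, y, w, D⟩ := TwoGroups.Wreathed.exists_data hw
    exact hncyc _ D.center_eq
  · right
    obtain ⟨C⟩ := Fusion.U34Sylow.exists_coords hF (default : Sylow 2 (Cfsg.PSU 3 (GaloisField 2 4) 4))
    exact sixty4_of_coords hF (T := T) ⟨C.equiv.trans e.symm.toEquiv, fun p r => by
      obtain ⟨h, he⟩ := C.mul p r
      refine ⟨h, ?_⟩
      simp only [Equiv.trans_apply, MulEquiv.toEquiv_eq_coe, EquivLike.coe_coe]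
      rw [← map_mul, he]⟩

end Cfsg.Agent.Lib.PiHomog3258.Local74
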