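import Cfsg.Agent.Lib.PiHomog3258.Local74.Conf
import Cfsg.Agent.Lib.Balance.CoprimeCore
import Cfsg.Agent.Lib.Coprime.Glauberman
import Cfsg.Agent.Lib.Coprime.Generation

/-!
# Maximal invariant `r`-subgroups for the four-group of involutions
-/

set_option autoImplicit false
set_option linter.unusedSectionVars false
set_option linter.style.haveILetI false

namespace Cfsg.Agent.Lib.PiHomog3258.Local74

open Subgroup
open scoped Pointwise

universe u

variable {G : Type u} [Group G] [Finite G] {π : Set ℕ}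

/-- An invariant `r`-subgroup. -/
def Inv (V : Subgroup G) (r : ℕ) (Q : Subgroup G) : Prop :=
  V ≤ normalizer (Q : Set G) ∧ IsPGroup r ↥Q

/-- A maximal invariant `r`-subgroup. -/
def IsMax (V : Subgroup G) (r : ℕ) (Q : Subgroup G) : Prop :=
  Inv V r Q ∧ ∀ R : Subgroup G, Inv V r R → Q ≤ R → R = Q

/-- An invariant Sylow `r`-subgroup of `K`. -/
def InvSyl (V : Subgroup G) (r : ℕ) (K P : Subgroup G) : Prop :=
  Inv V r P ∧ P ≤ K ∧ Nat.card ↥P = r ^ (Nat.card ↥K).factorization r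

/-- `Q` meets the centraliser of `v`. -/
def Meets (Q : Subgroup G) (v : G) : Prop := Q ⊓ centralizer ({v} : Set G) ≠ ⊥

theorem Meets.mono {Q R : Subgroup G} {v : G} (h : Meets Q v) (hle : Q ≤ R) : Meets R v :=
  fun h1 => h (eq_bot_iff.2 ((inf_le_inf_right _ hle).trans h1.le))

theorem Meets.map {Q : Subgroup G} {v : G} (h : Meets Q v) (n : G) :
    Meets (Q.map (MulAut.conj n).toMonoidHom) (n * v * n⁻¹) := by
  unfold Meets at h ⊢
  rw [← centralizer_map_conj, ← map_inf _ _ _ (MulAut.conj n).injective,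
    ne_eq, map_eq_bot_iff_of_injective _ (MulAut.conj n).injective]
  exact h

theorem map_conj_trans (U : Subgroup G) (c d : G) :
    (U.map (MulAut.conj c).toMonoidHom).map (MulAut.conj d).toMonoidHom =
      U.map (MulAut.conj (d * c)).toMonoidHom := by
  rw [Subgroup.map_map]; congr 1; ext x; simp [mul_assoc]

theorem map_conj_id (U : Subgroup G) : U.map (MulAut.conj (1 : G)).toMonoidHom = U := by
  ext x; simp

theorem mem_normalizer_conj_iff {n : G} {H : Subgroup G} :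
    n ∈ normalizer (H : Set G) ↔ H.map (MulAut.conj n).toMonoidHom = H :=
  Subgroup.mem_normalizer_iff_map_conj_eq

theorem exists_isMax {V R : Subgroup G} {r : ℕ} (hR : Inv V r R) :
    ∃ Q, IsMax V r Q ∧ R ≤ Q := by
  obtain ⟨Q, hRQ, hQ, hmax⟩ := Finite.exists_le_maximal (p := fun Q : Subgroup G => Inv V r Q)
    (a := R) hR
  exact ⟨Q, ⟨hQ, fun U hU hle => le_antisymm (hmax hU hle) hle⟩, hRQ⟩

theorem le_normalizer_inf' {V H K : Subgroup G} (hH : V ≤ normalizer (H : Set G))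
    (hK : V ≤ normalizer (K : Set G)) : V ≤ normalizer ((H ⊓ K : Subgroup G) : Set G) :=
  fun v hv => by
    rw [mem_normalizer_conj_iff, map_inf _ _ _ (MulAut.conj v).injective,
      mem_normalizer_conj_iff.1 (hH hv), mem_normalizer_conj_iff.1 (hK hv)]

namespace Conf

variable {S : Sylow 2 G} {a g : G} (C : Conf π S a g)
include C

local notation "V" => Five.zS S

theorem zS_le_centralizer {v : G} (hv : v ∈ V) : V ≤ centralizer ({v} : Set G) :=
  C.zS_le.trans (C.sylow_le_centralizer hv)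

theorem zS_le_normalizer_centralizer (v : G) (hv : v ∈ V) :
    V ≤ normalizer ((centralizer ({v} : Set G) : Subgroup G) : Set G) :=
  (C.zS_le_centralizer hv).trans le_normalizer

theorem g_normalizer_zS : g ∈ normalizer (V : Set G) := by
  refine mem_normalizer_iff.2 fun v => ⟨conj_mem_zS C.g_norm, fun hv => ?_⟩
  have := conj_mem_zS (inv_mem C.g_norm) hv
  simpa [mul_assoc] using this

theorem centralizer_zS_ne_top : centralizer (V : Set G) ≠ ⊤ := fun h =>
  C.centralizer_ne_top C.a_ne_one (top_le_iff.1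
    (h ▸ centralizer_le (Set.singleton_subset_iff.2 C.a_mem)))

theorem zS_not_isCyclic : ¬ IsCyclic ↥V := by
  classical
  intro h
  letI := Fintype.ofFinite ↥V
  have h1 := IsCyclic.card_pow_eq_one_le (α := ↥V) (n := 2) (by norm_num)
  have h2 : (Finset.univ.filter fun v : ↥V => v ^ 2 = 1) = Finset.univ :=
    Finset.filter_true_of_mem fun v _ => Subtype.ext (by simpa [pow_two] using sq_zS C.sixty v.2)
  rw [h2, Finset.card_univ, ← Nat.card_eq_fintype_card, card_zS C.sixty] at h1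
  omega

theorem zS_comm : IsMulCommutative ↥V :=
  ⟨⟨fun x y => Subtype.ext ((Five.mem_zS.1 y.2).2 x (C.zS_le x.2))⟩⟩

theorem coprime_zS {K : Subgroup G} (hK : Odd (Nat.card ↥K)) :
    (Nat.card ↥V).Coprime (Nat.card ↥K) := by
  rw [card_zS C.sixty]
  exact Nat.Coprime.pow_left 2 (Nat.coprime_two_left.2 hK)

variable {r : ℕ} [hr : Fact r.Prime] (hrπ : r ∉ π)
include hrπ

theorem odd_inv {Q : Subgroup G} (hQ : Inv V r Q) : Odd (Nat.card ↥Q) := by
  obtain ⟨n, hn⟩ := IsPGroup.iff_card.1 hQ.2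
  rw [hn]
  exact (hr.out.odd_of_ne_two (C.ne_two hrπ)).pow

theorem inv_ne_top {Q : Subgroup G} (hQ : Inv V r Q) : Q ≠ ⊤ := by
  intro h
  have h1 := C.odd_inv hrπ hQ
  rw [h, card_top] at h1
  exact (Nat.not_even_iff_odd.2 h1) (even_iff_two_dvd.2 C.min.two_dvd_card)

/-- An invariant `r`-subgroup meets the centraliser of some involution. -/
theorem exists_meets {Q : Subgroup G} (hQ : Inv V r Q) (hne : Q ≠ ⊥) :
    ∃ v ∈ V, v ≠ 1 ∧ Meets Q v := by
  haveI := C.zS_comm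
  by_contra hc
  push Not at hc
  refine hne (eq_bot_iff.2 ?_)
  conv_lhs => rw [← Coprime.iSup_centralizer_eq C.zS_not_isCyclic hQ.1
    (C.coprime_zS (C.odd_inv hrπ hQ))]
  exact iSup₂_le fun v hv => (not_not.1 (hc v hv.1 hv.2)).le

theorem exists_invSyl_ge {H : Subgroup G} (hH : H ≠ ⊤) (hVH : V ≤ normalizer (H : Set G))
    {R : Subgroup G} (hR : Inv V r R) (hRH : R ≤ H) :
    ∃ P, InvSyl V r (piCore π H) P ∧ R ≤ P := by
  obtain ⟨P, hRP, hP⟩ := Coprime.exists_invariant_sylow_ge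
    (hVH.trans (normalizer_le_normalizer_piCore H)) (C.coprime_zS (C.odd_piCore hH))
    (Or.inr (C.isSolvable_piCore hH)) r R (C.le_piCore hr.out hrπ hR.2 hRH) hR.2 hR.1
  exact ⟨_, ⟨⟨hP, P.2.map _⟩, map_subtype_le _, Coprime.card_sylow_map P⟩, hRP⟩

theorem exists_invSyl {H : Subgroup G} (hH : H ≠ ⊤) (hVH : V ≤ normalizer (H : Set G)) :
    ∃ P, InvSyl V r (piCore π H) P := by
  obtain ⟨P, hP, -⟩ := C.exists_invSyl_ge hrπ hH hVH (R := ⊥)
    ⟨fun v _ => by
      rw [mem_normalizer_iff]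
      intro x
      simp [mul_inv_eq_one, Subgroup.mem_bot]
    , IsPGroup.of_bot⟩ bot_le
  exact ⟨P, hP⟩

theorem invSyl_conj {H : Subgroup G} (hH : H ≠ ⊤) (hVH : V ≤ normalizer (H : Set G))
    {P Q : Subgroup G} (hP : InvSyl V r (piCore π H) P) (hQ : InvSyl V r (piCore π H) Q) :
    ∃ x ∈ piCore π (centralizer (V : Set G)),
      x ∈ H ∧ P.map (MulAut.conj x).toMonoidHom = Q := by
  obtain ⟨P', hP'⟩ := Coprime.exists_sylow_of_card hP.2.1 hP.2.2
  obtain ⟨Q', hQ'⟩ := Coprime.exists_sylow_of_card hQ.2.1 hQ.2.2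
  obtain ⟨x, ⟨hxK, hxV⟩, hx⟩ := Coprime.exists_conj_invariant_sylow
    (hVH.trans (normalizer_le_normalizer_piCore H)) (C.coprime_zS (C.odd_piCore hH))
    (Or.inr (C.isSolvable_piCore hH)) P' Q' (hP' ▸ hP.1.1) (hQ' ▸ hQ.1.1)
  obtain ⟨hxH, hxp⟩ := (C.mem_piCore hH).1 hxK
  refine ⟨x, mem_piCore_of hxV hxp, hxH, ?_⟩
  rw [hP', hQ', Coprime.conj_smul_eq_map] at hx
  exact hx

omit hrπ in
theorem conj_inv {Q : Subgroup G} (hQ : Inv V r Q) {n : G} (hn : n ∈ normalizer (V : Set G)) :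
    Inv V r (Q.map (MulAut.conj n).toMonoidHom) := by
  refine ⟨fun v hv => ?_, hQ.2.map _⟩
  rw [mem_normalizer_conj_iff, map_conj_trans, show v * n = n * (n⁻¹ * v * n) by group,
    ← map_conj_trans, mem_normalizer_conj_iff.1
      (hQ.1 ((mem_normalizer_iff''.1 hn v).1 hv))]

omit hrπ in
theorem conj_isMax {Q : Subgroup G} (hQ : IsMax V r Q) {n : G}
    (hn : n ∈ normalizer (V : Set G)) : IsMax V r (Q.map (MulAut.conj n).toMonoidHom) := by
  refine ⟨C.conj_inv hQ.1 hn, fun R hR hle => ?_⟩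
  have h1 := Subgroup.map_mono (f := (MulAut.conj n⁻¹).toMonoidHom) hle
  rw [map_conj_trans, inv_mul_cancel, map_conj_id] at h1
  rw [← hQ.2 _ (C.conj_inv hR (inv_mem hn)) h1, map_conj_trans, mul_inv_cancel, map_conj_id]

omit hr hrπ in
theorem core_centralizer_zS_le :
    piCore π (centralizer (V : Set G)) ≤ normalizer (V : Set G) :=
  (piCore_le _).trans (centralizer_le_normalizer _)

/-- Conjugacy under the π'-core of `C(V)`. -/
def Rel (_C : Conf π S a g) (Q R : Subgroup G) : Prop :=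
  ∃ x ∈ piCore π (centralizer (V : Set G)), Q.map (MulAut.conj x).toMonoidHom = R

omit hr hrπ in
theorem rel_symm {Q R : Subgroup G} (h : C.Rel Q R) : C.Rel R Q := by
  obtain ⟨x, hx, rfl⟩ := h
  exact ⟨x⁻¹, inv_mem hx, by rw [map_conj_trans, inv_mul_cancel, map_conj_id]⟩

omit hr hrπ in
theorem rel_trans {Q R U : Subgroup G} (h : C.Rel Q R) (h' : C.Rel R U) : C.Rel Q U := by
  obtain ⟨x, hx, rfl⟩ := h
  obtain ⟨y, hy, rfl⟩ := h'
  exact ⟨y * x, mul_mem hy hx, (map_conj_trans _ _ _).symm⟩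

omit hr hrπ in
theorem rel_refl (Q : Subgroup G) : C.Rel Q Q := ⟨1, one_mem _, map_conj_id Q⟩

omit hr hrπ in
theorem rel_meets {Q R : Subgroup G} (h : C.Rel Q R) {v : G} (hv : v ∈ V) (hm : Meets Q v) :
    Meets R v := by
  obtain ⟨x, hx, rfl⟩ := h
  have := hm.map x
  rwa [← mem_centralizer_iff.1 (piCore_le _ hx) v hv, mul_inv_cancel_right] at this

/-- Transitivity. -/
theorem rel_of_inf_ne_bot {Q R : Subgroup G} (hQ : IsMax V r Q) (hR : IsMax V r R)
    (hne : Q ⊓ R ≠ ⊥) : C.Rel Q R := by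
  induction hn : Nat.card G - Nat.card ↥(Q ⊓ R) using Nat.strong_induction_on
    generalizing Q R with
  | _ n ih =>
  set D := Q ⊓ R with hD
  by_cases hDQ : D = Q
  · rw [hR.1 |> fun h => hQ.2 R h (hDQ ▸ inf_le_right)]
    exact C.rel_refl Q
  by_cases hDR : D = R
  · rw [hR.2 Q hQ.1 (hDR ▸ inf_le_left)]
    exact C.rel_refl R
  set H := normalizer (D : Set G) with hH
  have hVH : V ≤ H := le_normalizer_inf' hQ.1.1 hR.1.1
  have hDi : Inv V r D := ⟨hVH, hQ.1.2.to_le inf_le_left⟩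
  have hHtop : H ≠ ⊤ := C.normalizer_ne_top hne (C.inv_ne_top hrπ hDi)
  have hstep : ∀ U : Subgroup G, IsMax V r U → D ≤ U → D ≠ U →
      ∃ P W, InvSyl V r (piCore π H) P ∧ IsMax V r W ∧ P ≤ W ∧ D ≤ P ∧ D ≠ P ∧ C.Rel U W := by
    intro U hU hle hne'
    have hinv : Inv V r (H ⊓ U) :=
      ⟨le_normalizer_inf' (hVH.trans le_normalizer) hU.1.1, hU.1.2.to_le inf_le_right⟩
    obtain ⟨P, hP, hle'⟩ := C.exists_invSyl_ge hrπ hHtop (hVH.trans le_normalizer) hinv inf_le_left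
    obtain ⟨W, hW, hPW⟩ := exists_isMax hP.1
    have hDle : D ≤ H ⊓ U := le_inf le_normalizer hle
    have hlt : ¬ H ⊓ U ≤ D := Balance.lt_normalizer_inf hU.1.2 hle hne'
    refine ⟨P, W, hP, hW, hPW, hDle.trans hle', fun h => hlt (hle'.trans h.ge), ?_⟩
    refine ih _ ?_ hU hW (fun h => hne (eq_bot_iff.2
      ((le_inf hle ((hDle.trans hle').trans hPW)).trans h.le))) rfl
    have h1 : D < U ⊓ W := lt_of_le_of_ne (le_inf hle ((hDle.trans hle').trans hPW)) fun h =>
      hlt (h ▸ le_inf inf_le_right (hle'.trans hPW))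
    have h2 : Nat.card ↥D < Nat.card ↥(U ⊓ W) := lt_of_le_of_ne (card_le_of_le h1.le) fun h =>
      h1.ne (eq_of_le_of_card_ge h1.le h.ge)
    have h3 : Nat.card ↥(U ⊓ W) ≤ Nat.card G := card_le_card_group _
    omega
  obtain ⟨P₁, W₁, hP₁, hW₁, hPW₁, -, -, hr₁⟩ := hstep Q hQ inf_le_left hDQ
  obtain ⟨P₂, W₂, hP₂, hW₂, hPW₂, hDP, hDP', hr₂⟩ := hstep R hR inf_le_right hDR
  obtain ⟨x, hx, -, hPx⟩ := C.invSyl_conj hrπ hHtop (hVH.trans le_normalizer) hP₁ hP₂
  have hW₁' := C.conj_isMax hW₁ (C.core_centralizer_zS_le hx)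
  have hle : P₂ ≤ W₁.map (MulAut.conj x).toMonoidHom ⊓ W₂ :=
    le_inf (hPx ▸ Subgroup.map_mono hPW₁) hPW₂
  have hlt : Nat.card ↥D < Nat.card ↥(W₁.map (MulAut.conj x).toMonoidHom ⊓ W₂) := by
    refine lt_of_lt_of_le ?_ (card_le_of_le hle)
    exact lt_of_le_of_ne (card_le_of_le hDP) fun h => hDP' (eq_of_le_of_card_ge hDP h.ge)
  have h12 : C.Rel (W₁.map (MulAut.conj x).toMonoidHom) W₂ := by
    refine ih _ ?_ hW₁' hW₂ (fun h => hne (eq_bot_iff.2 ((hDP.trans hle).trans h.le))) rfl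
    have h3 : Nat.card ↥(W₁.map (MulAut.conj x).toMonoidHom ⊓ W₂) ≤ Nat.card G :=
      card_le_card_group _
    omega
  exact C.rel_trans hr₁ (C.rel_trans ⟨x, hx, rfl⟩ (C.rel_trans h12 (C.rel_symm hr₂)))

theorem rel_of_meets {Q R : Subgroup G} (hQ : IsMax V r Q) (hR : IsMax V r R) {v : G}
    (hv : v ∈ V) (hv1 : v ≠ 1) (hmQ : Meets Q v) (hmR : Meets R v) : C.Rel Q R := by
  have hH := C.centralizer_ne_top hv1
  have hVH := C.zS_le_normalizer_centralizer v hv
  have hinv : ∀ {U : Subgroup G}, Inv V r U → Inv V r (U ⊓ centralizer ({v} : Set G)) :=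
    fun hU => ⟨le_normalizer_inf' hU.1 hVH, hU.2.to_le inf_le_left⟩
  obtain ⟨P₁, hP₁, hle₁⟩ := C.exists_invSyl_ge hrπ hH hVH (hinv hQ.1) inf_le_right
  obtain ⟨P₂, hP₂, hle₂⟩ := C.exists_invSyl_ge hrπ hH hVH (hinv hR.1) inf_le_right
  obtain ⟨W, hW, hPW⟩ := exists_isMax hP₁.1
  obtain ⟨x, hx, -, hPx⟩ := C.invSyl_conj hrπ hH hVH hP₁ hP₂
  have h1 : C.Rel Q W := C.rel_of_inf_ne_bot hrπ hQ hW fun h => hmQ (eq_bot_iff.2
    ((le_inf inf_le_left (hle₁.trans hPW)).trans h.le))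
  have h2 : C.Rel (W.map (MulAut.conj x).toMonoidHom) R :=
    C.rel_of_inf_ne_bot hrπ (C.conj_isMax hW (C.core_centralizer_zS_le hx)) hR fun h =>
      hmR (eq_bot_iff.2 ((le_inf (hle₂.trans (hPx ▸ Subgroup.map_mono hPW)) inf_le_left).trans h.le))
  exact C.rel_trans h1 (C.rel_trans ⟨x, hx, rfl⟩ h2)

/-- If some invariant `r`-subgroup meets two centralisers, one class. -/
theorem rel_of_two {U : Subgroup G} (hU : Inv V r U) {v w : G} (hv : v ∈ V) (hv1 : v ≠ 1)
    (hw : w ∈ V) (hw1 : w ≠ 1) (hvw : v ≠ w) (hmv : Meets U v) (hmw : Meets U w)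
    {Q R : Subgroup G} (hQ : IsMax V r Q) (hQ1 : Q ≠ ⊥) (hR : IsMax V r R) (hR1 : R ≠ ⊥) :
    C.Rel Q R := by
  obtain ⟨W, hW, hUW⟩ := exists_isMax hU
  have key : ∀ Z : Subgroup G, IsMax V r Z → Z ≠ ⊥ → C.Rel W Z := by
    intro Z hZ hZ1
    obtain ⟨u, hu, hu1, hmu⟩ := C.exists_meets hrπ hZ.1 hZ1
    by_cases huv : u = v
    · subst huv; exact C.rel_of_meets hrπ hW hZ hu hu1 (hmv.mono hUW) hmu
    by_cases huw : u = w
    · subst huw; exact C.rel_of_meets hrπ hW hZ hu hu1 (hmw.mono hUW) hmu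
    have hW' := C.conj_isMax hW C.g_normalizer_zS
    have hmv' := (hmv.mono hUW).map g
    have hmw' := (hmw.mono hUW).map g
    have hgv := conj_mem_zS C.g_norm hv
    have hgw := conj_mem_zS C.g_norm hw
    have hgv1 : g * v * g⁻¹ ≠ 1 := fun h => hv1 (conj_eq_one_iff.1 h)
    have hgw1 : g * w * g⁻¹ ≠ 1 := fun h => hw1 (conj_eq_one_iff.1 h)
    -- the three involutions are `v`, `w`, `u`
    have hall : ∀ z ∈ V, z ≠ 1 → z = v ∨ z = w ∨ z = u := by
      intro z hz hz1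
      rcases four_cases C.sixty hv hw hv1 hw1 (Ne.symm hvw) hz with h | h | h | h
      · exact absurd h hz1
      · exact Or.inl h
      · exact Or.inr (Or.inl h)
      · rcases four_cases C.sixty hv hw hv1 hw1 (Ne.symm hvw) hu with h' | h' | h' | h'
        · exact absurd h' hu1
        · exact absurd h' huv
        · exact absurd h' huw
        · exact Or.inr (Or.inr (h.trans h'.symm))
    have hne : g * v * g⁻¹ ≠ g * w * g⁻¹ := fun h => hvw (mul_left_cancel (mul_right_cancel h))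
    have hmove : ∀ z ∈ V, z ≠ 1 → g * z * g⁻¹ ≠ z := by
      intro z hz hz1 hfix
      rcases C.cases hz with rfl | rfl | rfl | rfl
      · exact hz1 rfl
      · exact C.g_move hfix
      · rw [C.cyc.1] at hfix
        exact C.a_ne_one (mul_eq_right.1 hfix)
      · rw [C.cyc.2] at hfix
        exact absurd (mul_eq_left.1 hfix.symm) (fun h => C.a_ne_one (conj_eq_one_iff.1 h))
    -- `u` is an image, and some image lies in `{v, w}`
    have h1 : g * v * g⁻¹ = u ∨ g * w * g⁻¹ = u := by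
      rcases hall _ hgv hgv1 with h | h | h
      · exact absurd h (hmove v hv hv1)
      · rcases hall _ hgw hgw1 with h' | h' | h'
        · exfalso
          have h2 : g * u * g⁻¹ = u := by
            rcases hall _ (conj_mem_zS C.g_norm hu) (fun e => hu1 (conj_eq_one_iff.1 e)) with e | e | e
            · exact absurd (mul_left_cancel (mul_right_cancel (e.trans h'.symm))) huw
            · exact absurd (mul_left_cancel (mul_right_cancel (e.trans h.symm))) huv
            · exact e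
          exact hmove u hu hu1 h2
        · exact absurd h' (hmove w hw hw1)
        · exact Or.inr h'
      · exact Or.inl h
    have hlink : C.Rel W (W.map (MulAut.conj g).toMonoidHom) := by
      rcases hall _ hgv hgv1 with h | h | h
      · exact C.rel_of_meets hrπ hW hW' hv hv1 (hmv.mono hUW) (h ▸ hmv')
      · exact C.rel_of_meets hrπ hW hW' hw hw1 (hmw.mono hUW) (h ▸ hmv')
      · rcases hall _ hgw hgw1 with h' | h' | h'
        · exact C.rel_of_meets hrπ hW hW' hv hv1 (hmv.mono hUW) (h' ▸ hmw')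
        · exact C.rel_of_meets hrπ hW hW' hw hw1 (hmw.mono hUW) (h' ▸ hmw')
        · exact absurd (h.trans h'.symm) hne
    refine C.rel_trans hlink ?_
    rcases h1 with h | h
    · exact C.rel_of_meets hrπ hW' hZ hu hu1 (h ▸ hmv') hmu
    · exact C.rel_of_meets hrπ hW' hZ hu hu1 (h ▸ hmw') hmu
  exact C.rel_trans (C.rel_symm (key Q hQ hQ1)) (key R hR hR1)

/-- Then every maximal one is normalised by an element acting on `V` as `g`. -/
theorem exists_normalizing {U : Subgroup G} (hU : Inv V r U) {v w : G} (hv : v ∈ V) (hv1 : v ≠ 1)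
    (hw : w ∈ V) (hw1 : w ≠ 1) (hvw : v ≠ w) (hmv : Meets U v) (hmw : Meets U w)
    {Q : Subgroup G} (hQ : IsMax V r Q) (hQ1 : Q ≠ ⊥) :
    ∃ σ ∈ normalizer (Q : Set G), (∀ z ∈ V, σ * z * σ⁻¹ = g * z * g⁻¹) := by
  have hQ' := C.conj_isMax hQ C.g_normalizer_zS
  have hQ1' : Q.map (MulAut.conj g).toMonoidHom ≠ ⊥ := fun h =>
    hQ1 ((map_eq_bot_iff_of_injective _ (MulAut.conj g).injective).1 h)
  obtain ⟨x, hx, hxQ⟩ := C.rel_of_two hrπ hU hv hv1 hw hw1 hvw hmv hmw hQ' hQ1' hQ hQ1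
  refine ⟨x * g, mem_normalizer_conj_iff.2 ?_, fun z hz => ?_⟩
  · rw [map_conj_trans] at hxQ
    exact hxQ
  · have h1 := mem_centralizer_iff.1 (piCore_le _ hx) _ (conj_mem_zS C.g_norm hz)
    calc x * g * z * (x * g)⁻¹ = x * (g * z * g⁻¹) * x⁻¹ := by group
      _ = g * z * g⁻¹ := by rw [← h1, mul_inv_cancel_right]

end Conf

end Cfsg.Agent.Lib.PiHomog3258.Local74
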