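import Cfsg.Agent.Lib.PiHomog3258.Local74.Type64
import Cfsg.Agent.Lib.PiHomog3258.Strong
import Cfsg.Agent.Lib.PiHomog3258.Five.Data

/-!
# The configuration: a minimal counterexample with a Sylow 2-subgroup of type `U₃(4)`
-/

set_option autoImplicit false
set_option linter.unusedSectionVars false
set_option linter.style.haveILetI false

namespace Cfsg.Agent.Lib.PiHomog3258.Local74

open Subgroup

universe u

variable {G : Type u} [Group G] [Finite G] {π : Set ℕ}

/-- The subgroup generated by the π'-elements of `H`. -/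
def piCore (π : Set ℕ) (H : Subgroup G) : Subgroup G :=
  closure {x | x ∈ H ∧ PiP π x}

theorem piCore_le (H : Subgroup G) : piCore π H ≤ H := (closure_le _).2 fun _ hx => hx.1

theorem mem_piCore_of {H : Subgroup G} {x : G} (hx : x ∈ H) (hp : PiP π x) : x ∈ piCore π H :=
  subset_closure ⟨hx, hp⟩

theorem piCore_mono {H K : Subgroup G} (h : H ≤ K) : piCore π H ≤ piCore π K :=
  closure_mono fun _ hx => ⟨h hx.1, hx.2⟩

theorem normalizer_le_normalizer_piCore (H : Subgroup G) :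
    normalizer (H : Set G) ≤ normalizer (piCore π H : Set G) := fun n hn => by
  rw [mem_normalizer_iff_map_conj_eq, piCore, MonoidHom.map_closure]
  congr 1
  ext x
  simp only [Set.mem_image, Set.mem_setOf_eq]
  constructor
  · rintro ⟨y, ⟨hy, hp⟩, rfl⟩
    exact ⟨(mem_normalizer_iff.1 hn y).1 hy, piP_conj n hp⟩
  · rintro ⟨hx, hp⟩
    refine ⟨n⁻¹ * x * n, ⟨(mem_normalizer_iff''.1 hn x).1 hx, ?_⟩,
      show n * (n⁻¹ * x * n) * n⁻¹ = x by group⟩
    have := piP_conj n⁻¹ hp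
    rwa [inv_inv] at this

theorem le_normalizer_piCore (H : Subgroup G) : H ≤ normalizer (piCore π H : Set G) :=
  le_normalizer.trans (normalizer_le_normalizer_piCore H)

theorem map_piCore (H : Subgroup G) (n : G) :
    (piCore π H).map (MulAut.conj n).toMonoidHom =
      piCore π (H.map (MulAut.conj n).toMonoidHom) := by
  rw [piCore, piCore, MonoidHom.map_closure]
  congr 1
  ext x
  simp only [Set.mem_image, Set.mem_setOf_eq]
  constructor
  · rintro ⟨y, ⟨hy, hp⟩, rfl⟩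
    exact ⟨⟨y, hy, rfl⟩, piP_conj n hp⟩
  · rintro ⟨⟨y, hy, rfl⟩, hp⟩
    refine ⟨y, ⟨hy, ?_⟩, rfl⟩
    have := piP_conj n⁻¹ hp
    simpa [mul_assoc] using this

theorem piP_of_isPGroup {r : ℕ} (hrπ : r ∉ π) (hr : r.Prime) {P : Subgroup G}
    (hP : IsPGroup r ↥P) {x : G} (hx : x ∈ P) : PiP π x := fun p hp hd => by
  haveI := Fact.mk hr
  obtain ⟨k, hk⟩ := hP ⟨x, hx⟩
  have h1 : orderOf x ∣ r ^ k := orderOf_dvd_of_pow_eq_one (congrArg Subtype.val hk)
  rw [(Nat.prime_dvd_prime_iff_eq hp hr).1 (hp.dvd_of_dvd_pow (hd.trans h1))]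
  exact hrπ

theorem centralizer_map_conj (v n : G) :
    (centralizer ({v} : Set G)).map (MulAut.conj n).toMonoidHom =
      centralizer ({n * v * n⁻¹} : Set G) := by
  ext x
  rw [mem_map_equiv, mem_centralizer_singleton_iff, mem_centralizer_singleton_iff,
    MulAut.conj_symm_apply]
  constructor
  · intro h
    calc x * (n * v * n⁻¹) = n * (n⁻¹ * x * n * v) * n⁻¹ := by group
      _ = n * (v * (n⁻¹ * x * n)) * n⁻¹ := by rw [h]
      _ = n * v * n⁻¹ * x := by group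
  · intro h
    calc n⁻¹ * x * n * v = n⁻¹ * (x * (n * v * n⁻¹)) * n := by group
      _ = n⁻¹ * (n * v * n⁻¹ * x) * n := by rw [h]
      _ = v * (n⁻¹ * x * n) := by group

/-- The configuration. -/
structure Conf (π : Set ℕ) (S : Sylow 2 G) (a g : G) : Prop where
  min : Min π G
  sixty : Sixty4 ↥(S : Subgroup G)
  a_mem : a ∈ Five.zS S
  a_ord : orderOf a = 2
  g_norm : g ∈ normalizer ((S : Subgroup G) : Set G)
  g_three : ∃ n : ℕ, orderOf g = 3 ^ n
  g_move : g * a * g⁻¹ ≠ a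

theorem card_zS {S : Sylow 2 G} (D : Sixty4 ↥(S : Subgroup G)) : Nat.card ↥(Five.zS S) = 4 := by
  rw [Five.zS, card_map_of_injective (S : Subgroup G).subtype_injective, D.card_center]

theorem sq_zS {S : Sylow 2 G} (D : Sixty4 ↥(S : Subgroup G)) {v : G} (hv : v ∈ Five.zS S) :
    v * v = 1 := by
  obtain ⟨w, hw, rfl⟩ := hv
  exact congrArg Subtype.val (D.center_sq w hw)

theorem four_cases {S : Sylow 2 G} (D : Sixty4 ↥(S : Subgroup G)) {a b v : G}
    (ha : a ∈ Five.zS S) (hb : b ∈ Five.zS S) (ha1 : a ≠ 1) (hb1 : b ≠ 1) (hab : b ≠ a)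
    (hv : v ∈ Five.zS S) : v = 1 ∨ v = a ∨ v = b ∨ v = a * b := by
  classical
  by_contra hc
  push Not at hc
  obtain ⟨h1, h2, h3, h4⟩ := hc
  letI := Fintype.ofFinite ↥(Five.zS S)
  let s : Finset G := {1, a, b, a * b, v}
  have hs : s ⊆ (Finset.univ : Finset ↥(Five.zS S)).image Subtype.val := by
    intro x hx
    simp only [s, Finset.mem_insert, Finset.mem_singleton] at hx
    refine Finset.mem_image.2 ⟨⟨x, ?_⟩, Finset.mem_univ _, rfl⟩
    rcases hx with rfl | rfl | rfl | rfl | rfl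
    exacts [one_mem _, ha, hb, mul_mem ha hb, hv]
  have hab1 : a * b ≠ 1 := fun h => hab (by
    rw [eq_comm]
    exact mul_left_cancel ((sq_zS D ha).trans h.symm))
  have e1 : a * b ≠ a := fun h => hb1 (mul_eq_left.1 h)
  have e2 : a * b ≠ b := fun h => ha1 (mul_eq_right.1 h)
  have hs5 : s.card = 5 := by
    simp [s, Finset.card_insert_of_notMem, ha1.symm, hb1.symm, hab.symm, hab1.symm, e1.symm,
      e2.symm, Ne.symm h1, Ne.symm h2, Ne.symm h3, Ne.symm h4]
  have := (Finset.card_le_card hs).trans Finset.card_image_le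
  rw [hs5, Finset.card_univ, ← Nat.card_eq_fintype_card, card_zS D] at this
  omega

theorem conj_mem_zS {S : Sylow 2 G} {n v : G} (hn : n ∈ normalizer ((S : Subgroup G) : Set G))
    (hv : v ∈ Five.zS S) : n * v * n⁻¹ ∈ Five.zS S := by
  rw [Five.mem_zS] at hv ⊢
  refine ⟨(mem_normalizer_iff.1 hn v).1 hv.1, fun s hs => ?_⟩
  have h1 := hv.2 _ ((mem_normalizer_iff''.1 hn s).1 hs)
  calc s * (n * v * n⁻¹) = n * (n⁻¹ * s * n * v) * n⁻¹ := by group
    _ = n * (v * (n⁻¹ * s * n)) * n⁻¹ := by rw [h1]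
    _ = n * v * n⁻¹ * s := by group

/-- An element of odd order of `N(S)` moving `a` is a 3-cycle. -/
theorem cycle {S : Sylow 2 G} (D : Sixty4 ↥(S : Subgroup G)) {a n : G} (ha : a ∈ Five.zS S)
    (ha1 : a ≠ 1) (hn : n ∈ normalizer ((S : Subgroup G) : Set G)) (hodd : Odd (orderOf n))
    (hmove : n * a * n⁻¹ ≠ a) :
    n * (n * a * n⁻¹) * n⁻¹ = a * (n * a * n⁻¹) ∧ n * (a * (n * a * n⁻¹)) * n⁻¹ = a := by
  set b := n * a * n⁻¹ with hb
  have hbm : b ∈ Five.zS S := conj_mem_zS hn ha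
  have hb1 : b ≠ 1 := fun h => ha1 (conj_eq_one_iff.1 h)
  have hcomm : a * b = b * a := (Five.mem_zS.1 hbm).2 a (Five.mem_zS.1 ha).1
  have hne : n * b * n⁻¹ ≠ a := by
    intro h
    obtain ⟨k, hk⟩ := hodd
    have h2 : Commute (n ^ 2) a := by
      show n ^ 2 * a = a * n ^ 2
      rw [← mul_inv_eq_iff_eq_mul]
      conv_rhs => rw [← h, hb]
      rw [pow_two]
      group
    have h3 : (n ^ 2) ^ (k + 1) = n := by
      rw [← pow_mul, show 2 * (k + 1) = orderOf n + 1 by omega, pow_succ, pow_orderOf_eq_one,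
        one_mul]
    have h4 := h2.pow_left (k + 1)
    rw [h3] at h4
    exact hmove (by rw [hb, h4.eq, mul_inv_cancel_right])
  have h1 : n * b * n⁻¹ = a * b := by
    rcases four_cases D ha hbm ha1 hb1 hmove (conj_mem_zS hn hbm) with h | h | h | h
    · exact absurd (conj_eq_one_iff.1 h) hb1
    · exact absurd h hne
    · exact absurd (mul_left_cancel (mul_right_cancel (h.trans hb))) hmove
    · exact h
  refine ⟨h1, ?_⟩
  calc n * (a * b) * n⁻¹ = n * a * n⁻¹ * (n * b * n⁻¹) := by group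
    _ = b * (a * b) := by rw [h1]
    _ = a * (b * b) := by rw [← mul_assoc, ← hcomm, mul_assoc]
    _ = a := by rw [sq_zS D hbm, mul_one]

/-- Existence of the configuration. -/
theorem exists_conf (h : Min π G) {S : Sylow 2 G} (D : Sixty4 ↥(S : Subgroup G)) :
    ∃ a g : G, Conf π S a g := by
  haveI : Fact (Nat.Prime 2) := ⟨Nat.prime_two⟩
  haveI : Fact (Nat.Prime 3) := ⟨Nat.prime_three⟩
  obtain ⟨a, ha, ha1⟩ : ∃ a ∈ Five.zS S, a ≠ 1 :=
    (Subgroup.bot_or_exists_ne_one _).resolve_left fun h1 => by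
      have := card_zS D
      rw [h1, card_bot] at this
      omega
  have hao : orderOf a = 2 := orderOf_eq_prime (by rw [pow_two]; exact sq_zS D ha) ha1
  obtain ⟨u, hu, hune⟩ : ∃ u : G, u * a * u⁻¹ ∈ (S : Subgroup G) ∧ u * a * u⁻¹ ≠ a := by
    by_contra hc
    push Not at hc
    exact h.false_of_isolated S hao (Five.mem_zS.1 ha).1 hc
  have hcen : ∀ {x : G}, x ∈ (S : Subgroup G) → x * x = 1 →
      x ∈ centralizer ((S : Subgroup G) : Set G) := fun {x} hx hxx =>
    mem_centralizer_iff.2 fun s hs => congrArg Subtype.val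
      (mem_center_iff.1 (D.invol ⟨x, hx⟩ (Subtype.ext hxx)) ⟨s, hs⟩)
  obtain ⟨n, hn, hne⟩ := S.conj_eq_normalizer_conj_of_mem_centralizer a u⁻¹
    (hcen (Five.mem_zS.1 ha).1 (sq_zS D ha)) (by
      rw [inv_inv]
      refine hcen hu ?_
      rw [show u * a * u⁻¹ * (u * a * u⁻¹) = u * (a * a) * u⁻¹ by group, sq_zS D ha, mul_one,
        mul_inv_cancel])
  rw [inv_inv] at hne
  set m := n⁻¹
  have hm : m ∈ normalizer ((S : Subgroup G) : Set G) := inv_mem hn
  have hmove : m * a * m⁻¹ ≠ a := by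
    rw [inv_inv, ← hne]
    exact hune
  -- remove the 2-part
  obtain ⟨i, k, hk, hik⟩ := Nat.exists_eq_two_pow_mul_odd (orderOf_pos m).ne'
  have ho1 : orderOf (m ^ 2 ^ i) = k := by
    rw [orderOf_pow_of_dvd (by positivity) ⟨k, hik⟩, hik, Nat.mul_div_cancel_left _ (by positivity)]
  have hfix2 : Commute (m ^ k) a := by
    have ho : (m ^ k) ^ 2 ^ i = 1 := by rw [← pow_mul, mul_comm, ← hik, pow_orderOf_eq_one]
    have hp : IsPGroup 2 ↥(zpowers (m ^ k)) := by
      obtain ⟨j, -, hj⟩ := (Nat.dvd_prime_pow Nat.prime_two).1 (orderOf_dvd_of_pow_eq_one ho)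
      exact IsPGroup.of_card (n := j) (by rw [Nat.card_zpowers, hj])
    have hsS : m ^ k ∈ (S : Subgroup G) :=
      ((hp.inf_normalizer_sylow S).le ⟨mem_zpowers _, pow_mem hm k⟩).2
    exact (Five.mem_zS.1 ha).2 _ hsS
  have hmove1 : ¬ Commute (m ^ 2 ^ i) a := by
    intro hcomm
    have hcop : Nat.Coprime (2 ^ i) k :=
      (Nat.coprime_two_left.2 hk).pow_left i
    have h1 : Commute (m ^ ((Nat.gcd (2 ^ i) k : ℕ) : ℤ)) a := by
      rw [Nat.gcd_eq_gcd_ab, zpow_add, zpow_mul, zpow_mul, zpow_natCast, zpow_natCast]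
      exact (hcomm.zpow_left _).mul_left (hfix2.zpow_left _)
    rw [hcop, Nat.cast_one, zpow_one] at h1
    exact hmove (by rw [h1.eq, mul_inv_cancel_right])
  set o := m ^ 2 ^ i with hodef
  have hoN : o ∈ normalizer ((S : Subgroup G) : Set G) := pow_mem hm _
  have hoa : o * a * o⁻¹ ≠ a := fun h1 => hmove1 (mul_inv_eq_iff_eq_mul.1 h1)
  obtain ⟨hc1, hc2⟩ := cycle D ha ha1 hoN (ho1 ▸ hk) hoa
  -- the 3-part
  obtain ⟨j, t, ht, hjt⟩ := Nat.exists_eq_pow_mul_and_not_dvd (orderOf_pos o).ne' 3 (by norm_num)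
  refine ⟨a, o ^ t, h, D, ha, hao, pow_mem hoN t, ⟨j, ?_⟩, ?_⟩
  · have htpos : t ≠ 0 := fun h0 => ht (h0 ▸ dvd_zero 3)
    rw [orderOf_pow_of_dvd htpos ⟨3 ^ j, by rw [hjt, mul_comm]⟩, hjt,
      Nat.mul_div_cancel _ (Nat.pos_of_ne_zero htpos)]
  · intro h1
    have h3 : Commute (o ^ 3) a := by
      show o ^ 3 * a = a * o ^ 3
      rw [← mul_inv_eq_iff_eq_mul]
      calc o ^ 3 * a * (o ^ 3)⁻¹ = o * (o * (o * a * o⁻¹) * o⁻¹) * o⁻¹ := by
            rw [pow_succ, pow_two]; group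
        _ = a := by rw [hc1, hc2]
    have h4 : Commute (o ^ ((Nat.gcd 3 t : ℕ) : ℤ)) a := by
      rw [Nat.gcd_eq_gcd_ab, zpow_add, zpow_mul, zpow_mul, zpow_natCast, zpow_natCast]
      exact (h3.zpow_left _).mul_left ((show Commute (o ^ t) a from
        mul_inv_eq_iff_eq_mul.1 h1).zpow_left _)
    rw [(Nat.prime_three.coprime_iff_not_dvd.2 ht : Nat.Coprime 3 t), Nat.cast_one, zpow_one] at h4
    exact hoa (by rw [h4.eq, mul_inv_cancel_right])

namespace Conf

variable {S : Sylow 2 G} {a g : G} (C : Conf π S a g)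
include C

theorem a_ne_one : a ≠ 1 := fun h => by
  have := C.a_ord
  rw [h, orderOf_one] at this
  omega

theorem g_odd : Odd (orderOf g) := by
  obtain ⟨n, hn⟩ := C.g_three
  rw [hn]
  exact Odd.pow (by decide)

theorem b_mem : g * a * g⁻¹ ∈ Five.zS S := conj_mem_zS C.g_norm C.a_mem

theorem cyc : g * (g * a * g⁻¹) * g⁻¹ = a * (g * a * g⁻¹) ∧
    g * (a * (g * a * g⁻¹)) * g⁻¹ = a :=
  cycle C.sixty C.a_mem C.a_ne_one C.g_norm C.g_odd C.g_move

theorem cases {v : G} (hv : v ∈ Five.zS S) :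
    v = 1 ∨ v = a ∨ v = g * a * g⁻¹ ∨ v = a * (g * a * g⁻¹) :=
  four_cases C.sixty C.a_mem C.b_mem C.a_ne_one
    (fun h => C.a_ne_one (conj_eq_one_iff.1 h)) C.g_move hv

theorem zS_le : Five.zS S ≤ (S : Subgroup G) := map_subtype_le _

theorem orderOf_zS {v : G} (hv : v ∈ Five.zS S) (h1 : v ≠ 1) : orderOf v = 2 :=
  haveI : Fact (Nat.Prime 2) := ⟨Nat.prime_two⟩
  orderOf_eq_prime (by rw [pow_two]; exact sq_zS C.sixty hv) h1

theorem sylow_le_centralizer {v : G} (hv : v ∈ Five.zS S) :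
    (S : Subgroup G) ≤ centralizer ({v} : Set G) := fun s hs =>
  mem_centralizer_singleton_iff.2 ((Five.mem_zS.1 hv).2 s hs)

theorem centralizer_ne_top {v : G} (h1 : v ≠ 1) : centralizer ({v} : Set G) ≠ ⊤ :=
  C.min.centralizer_ne_top h1

theorem mem_piCore {H : Subgroup G} (hH : H ≠ ⊤) {x : G} :
    x ∈ piCore π H ↔ x ∈ H ∧ PiP π x := by
  refine ⟨fun hx => ?_, fun hx => mem_piCore_of hx.1 hx.2⟩
  obtain ⟨K, hK⟩ := C.min.proper H hH
  have : piCore π H ≤ K := (closure_le _).2 fun y hy => (hK y).2 hy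
  exact (hK x).1 (this hx)

theorem odd_piCore {H : Subgroup G} (hH : H ≠ ⊤) : Odd (Nat.card ↥(piCore π H)) :=
  Nat.odd_iff.2 (Nat.two_dvd_ne_zero.1 fun h => not_mem_of_dvd_card
    (fun _ hx => ((C.mem_piCore hH).1 hx).2) 2 Nat.prime_two h C.min.hyp.two)

theorem isSolvable_piCore {H : Subgroup G} (hH : H ≠ ⊤) : Group.IsSolvable ↥(piCore π H) :=
  BenderDeps.Consumers.oddOrderSolvable _ (C.odd_piCore hH)

theorem le_piCore {H : Subgroup G} {r : ℕ} (hr : r.Prime) (hrπ : r ∉ π) {R : Subgroup G}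
    (hR : IsPGroup r ↥R) (hRH : R ≤ H) : R ≤ piCore π H :=
  fun _ hx => mem_piCore_of (hRH hx) (piP_of_isPGroup hrπ hr hR hx)

theorem not_mem_of_dvd {H : Subgroup G} (hH : H ≠ ⊤) {r : ℕ} (hr : r.Prime)
    (hd : r ∣ Nat.card ↥(piCore π H)) : r ∉ π :=
  not_mem_of_dvd_card (fun _ hx => ((C.mem_piCore hH).1 hx).2) r hr hd

theorem ne_two {r : ℕ} (hrπ : r ∉ π) : r ≠ 2 := fun h => hrπ (h ▸ C.min.hyp.two)

/-- All `C(v)` in `M` and conjugation inside `M` give a strongly embedded subgroup. -/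
theorem false_of_moving {M : Subgroup G} (hM : M ≠ ⊤) (haM : centralizer ({a} : Set G) ≤ M)
    {x : G} (hxM : x ∈ M) (hx : ∀ v ∈ Five.zS S, x * v * x⁻¹ = g * v * g⁻¹) : False := by
  haveI : Fact (Nat.Prime 2) := ⟨Nat.prime_two⟩
  have hSM : (S : Subgroup G) ≤ M := (C.sylow_le_centralizer C.a_mem).trans haM
  have hxa : x * a * x⁻¹ = g * a * g⁻¹ := hx a C.a_mem
  have hxb : x * (g * a * g⁻¹) * x⁻¹ = a * (g * a * g⁻¹) := (hx _ C.b_mem).trans C.cyc.1
  -- every involution of `M` is conjugate to `a` in `M`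
  have hconj : ∀ t ∈ M, orderOf t = 2 → ∃ m ∈ M, m * t * m⁻¹ = a := by
    intro t htM ht
    have hp : IsPGroup 2 ↥(zpowers (⟨t, htM⟩ : ↥M)) :=
      IsPGroup.of_card (n := 1) (by rw [Nat.card_zpowers, Subgroup.orderOf_mk, ht, pow_one])
    obtain ⟨P, hP⟩ := hp.exists_le_sylow
    obtain ⟨m, hm⟩ := MulAction.exists_smul_eq ↥M P (S.subtype hSM)
    have hmS : (m : G) * t * (m : G)⁻¹ ∈ (S : Subgroup G) := by
      have h1 : m * ⟨t, htM⟩ * m⁻¹ ∈ ((m • P : Sylow 2 ↥M) : Subgroup ↥M) :=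
        ⟨⟨t, htM⟩, hP (mem_zpowers _), rfl⟩
      rw [hm] at h1
      exact h1
    have hmo : (m : G) * t * (m : G)⁻¹ * ((m : G) * t * (m : G)⁻¹) = 1 := by
      rw [show (m : G) * t * (m : G)⁻¹ * ((m : G) * t * (m : G)⁻¹) = m * t ^ 2 * (m : G)⁻¹ by
          rw [pow_two]; group,
        ← ht, pow_orderOf_eq_one, mul_one, mul_inv_cancel]
    have hv : (m : G) * t * (m : G)⁻¹ ∈ Five.zS S :=
      ⟨⟨_, hmS⟩, C.sixty.invol _ (Subtype.ext hmo), rfl⟩
    rcases C.cases hv with h | h | h | h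
    · exact absurd (conj_eq_one_iff.1 h) (fun h' => by rw [h', orderOf_one] at ht; omega)
    · exact ⟨m, m.2, h⟩
    · refine ⟨x⁻¹ * m, mul_mem (inv_mem hxM) m.2, ?_⟩
      calc x⁻¹ * m * t * (x⁻¹ * m)⁻¹ = x⁻¹ * ((m : G) * t * (m : G)⁻¹) * x := by group
        _ = a := by rw [h, ← hxa]; group
    · refine ⟨x⁻¹ * x⁻¹ * m, mul_mem (mul_mem (inv_mem hxM) (inv_mem hxM)) m.2, ?_⟩
      calc x⁻¹ * x⁻¹ * m * t * (x⁻¹ * x⁻¹ * m)⁻¹
          = x⁻¹ * (x⁻¹ * ((m : G) * t * (m : G)⁻¹) * x) * x := by simp [mul_assoc]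
        _ = x⁻¹ * (g * a * g⁻¹) * x := by
            rw [h]
            conv_lhs => rw [← hxb]
            group
        _ = a := by rw [← hxa]; group
  refine C.min.false_of_stronglyEmbedded (Involutions.StronglyEmbedded.of_forall_conj hM ?_ ?_)
  · have := orderOf_dvd_natCard M (hSM (C.zS_le C.a_mem))
    rw [C.a_ord] at this
    exact even_iff_two_dvd.2 this
  intro t htM ht u hu
  obtain ⟨m, hm, hma⟩ := hconj t htM ht
  obtain ⟨m', hm', hma'⟩ := hconj _ hu ((Involutions.Basic.orderOf_conj_eq u t).trans ht)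
  have h1 : m' * u * m⁻¹ ∈ centralizer ({a} : Set G) := by
    rw [mem_centralizer_singleton_iff, ← mul_inv_eq_iff_eq_mul]
    calc m' * u * m⁻¹ * a * (m' * u * m⁻¹)⁻¹
        = m' * (u * (m⁻¹ * a * m) * u⁻¹) * m'⁻¹ := by group
      _ = m' * (u * t * u⁻¹) * m'⁻¹ := by rw [← hma]; group
      _ = a := hma'
  have h2 := mul_mem (mul_mem (inv_mem hm') (haM h1)) hm
  rwa [show m'⁻¹ * (m' * u * m⁻¹) * m = u by group] at h2

theorem normalizer_ne_top {H : Subgroup G} (hH : H ≠ ⊥) (hH' : H ≠ ⊤) :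
    normalizer (H : Set G) ≠ ⊤ := by
  intro h
  haveI := normalizer_eq_top_iff.1 h
  rcases C.min.normal_eq H with h1 | h1
  exacts [hH h1, hH' h1]

/-- `b` does not centralise the π'-core of `C(a)`. -/
theorem exists_moved : ∃ k ∈ piCore π (centralizer ({a} : Set G)),
    ¬ Commute k (g * a * g⁻¹) := by
  by_contra hc
  push Not at hc
  set K := piCore π (centralizer ({a} : Set G)) with hKdef
  have hne : centralizer ({a} : Set G) ≠ ⊤ := C.centralizer_ne_top C.a_ne_one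
  set b := g * a * g⁻¹ with hb
  have hKb : K = piCore π (centralizer ({b} : Set G)) := by
    refine eq_of_le_of_card_ge (fun k hk => mem_piCore_of
      (mem_centralizer_singleton_iff.2 (hc k hk).eq) ((C.mem_piCore hne).1 hk).2) ?_
    rw [hKdef, hb, ← centralizer_map_conj, ← map_piCore,
      card_map_of_injective (MulAut.conj g).injective]
  have hgK : g ∈ normalizer (K : Set G) := by
    rw [mem_normalizer_iff_map_conj_eq]
    conv_rhs => rw [hKb, hb, ← centralizer_map_conj, ← map_piCore]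
    rfl
  by_cases hK1 : K = ⊥
  · -- then `S` is normal in `C(a)`
    have hbot : ∀ x ∈ centralizer ({a} : Set G), PiP π x → x = 1 := fun x hx hp => by
      have := mem_piCore_of hx hp
      rwa [← hKdef, hK1, mem_bot] at this
    set Sa := S.subtype (C.sylow_le_centralizer C.a_mem) with hSa
    have hn := C.min.normal_sylow_of_core_eq_bot hne hbot Sa
    haveI : Fact (Nat.Prime 2) := ⟨Nat.prime_two⟩
    refine C.false_of_moving (M := normalizer ((S : Subgroup G) : Set G))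
      (C.min.normalizer_ne_top S.isPGroup' (fun h => C.a_ne_one
        (mem_bot.1 (h ▸ C.zS_le C.a_mem)))) (fun y hy => ?_) C.g_norm (fun v _ => rfl)
    refine mem_normalizer_iff.2 fun s => ⟨fun hs => ?_, fun hs => ?_⟩
    · exact hn.conj_mem ⟨s, C.sylow_le_centralizer C.a_mem hs⟩ hs ⟨y, hy⟩
    · have h1 := hn.conj_mem ⟨_, C.sylow_le_centralizer C.a_mem hs⟩ hs (⟨y, hy⟩⁻¹)
      simpa [Sa, hSa, mem_subgroupOf, mul_assoc] using h1
  · refine C.false_of_moving (M := normalizer (K : Set G))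
      (C.normalizer_ne_top hK1 fun h => hne (eq_top_iff.2 (h ▸ piCore_le _)))
      (le_normalizer_piCore _) hgK (fun v _ => rfl)

end Conf

end Cfsg.Agent.Lib.PiHomog3258.Local74
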