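import Cfsg.Agent.Lib.PiHomog3258.Local74.Core
import Cfsg.Agent.Lib.PiHomog3258.Local74.Aut
import Cfsg.Agent.Lib.PPrimeAbelian.Local
import Cfsg.Agent.Lib.U34Type98.Main

/-!
# The configuration with a Sylow 2-subgroup of type `U₃(4)`: reduction to `Five.Data`
-/

set_option autoImplicit false
set_option linter.unusedSectionVars false
set_option linter.style.haveILetI false

namespace Cfsg.Agent.Lib.PiHomog3258.Local74

open Subgroup
open scoped Pointwise

universe u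

variable {G : Type u} [Group G] [Finite G] {π : Set ℕ}

theorem eq_one_of_pow_three_eq (i n : ℕ) (h : i ^ 3 ^ n % 5 = 1) : i % 5 = 1 := by
  have h5 : ∀ j : ZMod 5, j ^ 4 = 1 → j ^ 3 = 1 → j = 1 := by decide
  have hall : ∀ j : ZMod 5, j ≠ 0 → j ^ 4 = 1 := by decide
  have hk : (i : ZMod 5) ^ 3 ^ n = 1 := by
    rw [← Nat.cast_pow, ← ZMod.natCast_mod, h, Nat.cast_one]
  have h0 : (i : ZMod 5) ≠ 0 := fun h0 => by
    rw [h0, zero_pow (by positivity)] at hk
    exact absurd hk (by decide)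
  have hone : orderOf (i : ZMod 5) = 1 := Nat.eq_one_of_dvd_coprimes
    (Nat.Coprime.pow_left n (by decide : Nat.Coprime 3 4))
    (orderOf_dvd_of_pow_eq_one hk) (orderOf_dvd_of_pow_eq_one (hall _ h0))
  rw [orderOf_eq_one_iff, ← Nat.cast_one, ZMod.natCast_eq_natCast_iff'] at hone
  simpa using hone

/-- A 3-element acting on a cyclic group of order five acts trivially. -/
theorem conj_eq_of_three {A : Type u} [Group A] {x p : A} {n : ℕ} (hx : x ^ 3 ^ n = 1)
    (hp : orderOf p = 5) {i : ℕ} (hi : x * p * x⁻¹ = p ^ i) : x * p * x⁻¹ = p := by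
  have hk : ∀ k : ℕ, x ^ k * p * (x ^ k)⁻¹ = p ^ (i ^ k) := by
    intro k
    induction k with
    | zero => simp
    | succ k ih =>
      calc x ^ (k + 1) * p * (x ^ (k + 1))⁻¹ = x * (x ^ k * p * (x ^ k)⁻¹) * x⁻¹ := by
            rw [pow_succ']; group
        _ = (p ^ i) ^ (i ^ k) := by rw [ih, ← conj_pow, hi]
        _ = p ^ (i ^ (k + 1)) := by rw [← pow_mul, ← pow_succ']
  have h := hk (3 ^ n)
  rw [hx, one_mul, inv_one, mul_one] at h
  have h1 : p ^ (i ^ 3 ^ n) = p ^ 1 := by rw [← h, pow_one]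
  rw [pow_eq_pow_iff_modEq, hp] at h1
  rw [hi]
  nth_rewrite 2 [← pow_one p]
  rw [pow_eq_pow_iff_modEq, hp]
  exact eq_one_of_pow_three_eq i n h1

/-- An element of order dividing both a power of two and an odd number. -/
theorem eq_one_of_two_odd {A : Type u} [Group A] {y : A} {j m : ℕ} (h1 : y ^ 2 ^ j = 1)
    (hm : Odd m) (h2 : y ^ m = 1) : y = 1 :=
  orderOf_eq_one_iff.1 (Nat.eq_one_of_dvd_coprimes ((Nat.coprime_two_left.2 hm).pow_left j)
    (orderOf_dvd_of_pow_eq_one h1) (orderOf_dvd_of_pow_eq_one h2))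

namespace Conf

variable {S : Sylow 2 G} {a g : G} (C : Conf π S a g)
include C

local notation "V" => Five.zS S

/-- An element of `N(S)` fixing `a` centralises `V`. -/
theorem commute_of_fixed {n : G} (hn : n ∈ normalizer ((S : Subgroup G) : Set G))
    (hfix : n * a * n⁻¹ = a) : ∀ v ∈ V, n * v = v * n := by
  have hb1 : g * a * g⁻¹ ≠ 1 := fun h => C.a_ne_one (conj_eq_one_iff.1 h)
  have hb : n * (g * a * g⁻¹) * n⁻¹ = g * a * g⁻¹ := by
    by_contra hmove
    obtain ⟨i, ho, hi⟩ := exists_odd_moving C.b_mem hn hmove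
    have hfixi : n ^ i * a * (n ^ i)⁻¹ = a := by
      have : Commute n a := mul_inv_eq_iff_eq_mul.1 hfix
      rw [(this.pow_left i).eq, mul_inv_cancel_right]
    have hN : n ^ i ∈ normalizer ((S : Subgroup G) : Set G) := pow_mem hn i
    set m := n ^ i
    obtain ⟨-, h2⟩ := cycle C.sixty C.b_mem hb1 hN ho hi
    rcases C.cases (conj_mem_zS hN C.b_mem) with h | h | h | h
    · exact hb1 (conj_eq_one_iff.1 h)
    · exact C.g_move (mul_left_cancel (mul_right_cancel (h.trans hfixi.symm)))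
    · exact hi h
    · have hab : a * (g * a * g⁻¹) = (g * a * g⁻¹) * a :=
        (Five.mem_zS.1 C.b_mem).2 a (Five.mem_zS.1 C.a_mem).1
      have hba : g * a * g⁻¹ * (a * (g * a * g⁻¹)) = a := by
        rw [hab, ← mul_assoc, sq_zS C.sixty C.b_mem, one_mul]
      rw [h, hba, hfixi] at h2
      exact C.g_move h2.symm
  intro v hv
  have ha' : Commute n a := mul_inv_eq_iff_eq_mul.1 hfix
  have hb' : Commute n (g * a * g⁻¹) := mul_inv_eq_iff_eq_mul.1 hb
  rcases C.cases hv with rfl | rfl | rfl | rfl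
  · rw [mul_one, one_mul]
  · exact ha'.eq
  · exact hb'.eq
  · exact (ha'.mul_right hb').eq

theorem exists_transitive (z z' : ↥(S : Subgroup G)) (hz : z ∈ center ↥(S : Subgroup G))
    (hz1 : z ≠ 1) (hz' : z' ∈ center ↥(S : Subgroup G)) (hz'1 : z' ≠ 1) :
    ∃ α : MulAut ↥(S : Subgroup G), α z = z' := by
  have hgS : ∀ {n : G}, n ∈ normalizer ((S : Subgroup G) : Set G) →
      ∀ {w w' : ↥(S : Subgroup G)}, n * (w : G) * n⁻¹ = w' →
        ∃ α : MulAut ↥(S : Subgroup G), α w = w' := fun {n} hn {w w'} h =>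
    ⟨conjHom (le_refl (normalizer ((S : Subgroup G) : Set G))) ⟨n, hn⟩, Subtype.ext (by
      rw [conjHom_apply]; exact h)⟩
  have key : ∀ w : ↥(S : Subgroup G), w ∈ center ↥(S : Subgroup G) → w ≠ 1 →
      ∃ n ∈ normalizer ((S : Subgroup G) : Set G), n * a * n⁻¹ = w := by
    intro w hw hw1
    rcases C.cases (show (w : G) ∈ V from ⟨w, hw, rfl⟩) with h | h | h | h
    · exact absurd (Subtype.ext h) hw1
    · exact ⟨1, one_mem _, by rw [h]; group⟩
    · exact ⟨g, C.g_norm, h.symm⟩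
    · exact ⟨g * g, mul_mem C.g_norm C.g_norm, by rw [h, ← C.cyc.1]; group⟩
  obtain ⟨n, hn, hna⟩ := key z hz hz1
  obtain ⟨m, hm, hma⟩ := key z' hz' hz'1
  refine hgS (mul_mem hm (inv_mem hn)) ?_
  calc m * n⁻¹ * (z : G) * (m * n⁻¹)⁻¹ = m * (n⁻¹ * (z : G) * n) * m⁻¹ := by group
    _ = m * a * m⁻¹ := by rw [← hna]; group
    _ = z' := hma

/-- The local analysis: `C(a)` has a normal 2-complement, or the interface of `Five.Data`. -/
theorem nilp_or_data : CNilp98.InvCentNilp G ∨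
    ∃ (f : G) (K L : Subgroup G) (r : ℕ), Five.Data π S a f K L r := by
  classical
  haveI : Fact (Nat.Prime 2) := ⟨Nat.prime_two⟩
  haveI : Fact (Nat.Prime 3) := ⟨Nat.prime_three⟩
  haveI : Fact (Nat.Prime 5) := ⟨Nat.prime_five⟩
  set A := centralizer ({a} : Set G) with hA
  have hAtop : A ≠ ⊤ := C.centralizer_ne_top C.a_ne_one
  have hSA := C.sylow_le_centralizer C.a_mem
  set N := A ⊓ normalizer ((S : Subgroup G) : Set G) with hN
  have hSN : (S : Subgroup G) ≤ N := le_inf hSA le_normalizer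
  have hNV : ∀ n ∈ N, ∀ v ∈ V, n * v = v * n := fun n hn => C.commute_of_fixed hn.2
    (by rw [mem_centralizer_singleton_iff.1 hn.1, mul_inv_cancel_right])
  set ψ : ↥N →* MulAut ↥(S : Subgroup G) :=
    conjHom (inf_le_right : N ≤ normalizer ((S : Subgroup G) : Set G)) with hψ
  have hψcomm : ∀ n : ↥N, ψ n = 1 ↔ ∀ s ∈ (S : Subgroup G), (n : G) * s = s * n := by
    intro n
    constructor
    · intro h s hs
      have h1 := congrArg (fun f : MulAut ↥(S : Subgroup G) => ((f ⟨s, hs⟩ : ↥(S : Subgroup G)) : G)) h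
      simp only [MulAut.one_apply, hψ, conjHom_apply] at h1
      exact mul_inv_eq_iff_eq_mul.1 h1
    · intro h
      refine MulEquiv.ext fun s => Subtype.ext ?_
      rw [hψ, conjHom_apply, h s s.2, mul_inv_cancel_right, MulAut.one_apply]
  -- an odd complement of `S` in `N`
  set S' := (S : Subgroup G).subgroupOf N with hS'
  haveI hS'n : S'.Normal := (normal_subgroupOf_iff_le_normalizer hSN).2 inf_le_right
  obtain ⟨k, hk⟩ := IsPGroup.iff_card.1 S.isPGroup'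
  have hS'card : Nat.card ↥S' = 2 ^ k := by
    rw [Nat.card_congr (subgroupOfEquivOfLe hSN).toEquiv, hk]
  have hidx : Odd S'.index := by
    rw [Nat.odd_iff]
    refine Nat.two_dvd_ne_zero.1 fun h => ?_
    exact (S.subtype hSN).not_dvd_index h
  obtain ⟨H, hH⟩ := exists_right_complement'_of_coprime (N := S')
    (by rw [hS'card]; exact (Nat.coprime_two_left.2 hidx).pow_left k)
  have hHodd : Odd (Nat.card ↥H) := by rw [← hH.symm.index_eq_card]; exact hidx
  have hsplit : ∀ n : ↥N, ∃ s ∈ S', ∃ h ∈ H, s * h = n := fun n => by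
    obtain ⟨⟨s, h⟩, he⟩ := hH.2 n
    exact ⟨s, s.2, h, h.2, he⟩
  have hψfix : ∀ n : ↥N, ∀ z ∈ center ↥(S : Subgroup G), ψ n z = z := fun n z hz => by
    refine Subtype.ext ?_
    rw [hψ, conjHom_apply, hNV n n.2 z ⟨z, hz, rfl⟩, mul_inv_cancel_right]
  have hψinner : ∀ s ∈ S', ψ s ^ 2 ^ k = 1 := fun s hs => by
    rw [← map_pow, ← hS'card]
    have : (⟨s, hs⟩ : ↥S') ^ Nat.card ↥S' = 1 := pow_card_eq_one'
    have h1 : s ^ Nat.card ↥S' = 1 := congrArg Subtype.val this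
    rw [h1, map_one]
  have htr : ∀ z ∈ center ↥(S : Subgroup G), z ≠ 1 → ∀ z' ∈ center ↥(S : Subgroup G), z' ≠ 1 →
      ∃ α : MulAut ↥(S : Subgroup G), α z = z' := fun z hz h1 z' hz' h1' =>
    C.exists_transitive z z' hz h1 hz' h1'
  set R := H.map ψ with hR
  have hRodd : Odd (Nat.card ↥R) := Odd.of_dvd_nat hHodd (card_map_dvd _ _)
  have hR15 := card_eq_five C.sixty htr hRodd (by
    rintro _ ⟨h, -, rfl⟩ z hz
    exact hψfix h z hz)
  -- the core
  set H0 := (H ⊓ ψ.ker).map N.subtype with hH0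
  set K := piCore π A ⊔ H0 with hK
  have hH0N : H0 ≤ N := map_subtype_le _
  have hH0A : H0 ≤ A := hH0N.trans inf_le_left
  have hH0S : ∀ x ∈ H0, ∀ s ∈ (S : Subgroup G), x * s = s * x := by
    rintro _ ⟨y, hy, rfl⟩
    exact (hψcomm y).1 (MonoidHom.mem_ker.1 hy.2)
  have hKA : K ≤ A := sup_le (piCore_le A) hH0A
  have hH0odd : Odd (Nat.card ↥H0) := by
    rw [hH0, card_map_of_injective N.subtype_injective]
    exact Odd.of_dvd_nat hHodd (card_dvd_of_le inf_le_left)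
  have hKcard : Odd (Nat.card ↥K) := by
    rw [hK, sup_comm]
    exact Odd.of_dvd_nat (hH0odd.mul (C.odd_piCore hAtop))
      (PPrimeAbelian.card_sup_dvd_of_le_normalizer (hH0A.trans (le_normalizer_piCore A)))
  have hcover : ∀ x ∈ A, ∃ c ∈ piCore π A, ∃ n : ↥N, c * n = x := fun x hx => by
    obtain ⟨c, hc, hn⟩ := C.exists_frattini hAtop hSA hx
    exact ⟨c, hc, ⟨c⁻¹ * x, A.mul_mem (A.inv_mem (piCore_le A hc)) hx, hn⟩, mul_inv_cancel_left c x⟩
  have hSH0 : (S : Subgroup G) ≤ normalizer (H0 : Set G) := fun s hs => by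
    refine centralizer_le_normalizer _ (mem_centralizer_iff.2 fun y hy => ?_)
    exact hH0S y hy s hs
  have hHH0 : ∀ h ∈ H, (h : G) ∈ normalizer (H0 : Set G) := fun h hh => by
    refine mem_normalizer_conj_iff.2 (eq_of_le_of_card_ge ?_
      (card_map_of_injective (MulAut.conj (h : G)).injective).ge)
    rintro _ ⟨_, ⟨y, hy, rfl⟩, rfl⟩
    exact ⟨h * y * h⁻¹, ⟨H.mul_mem (H.mul_mem hh hy.1) (H.inv_mem hh),
      (MonoidHom.normal_ker ψ).conj_mem y hy.2 h⟩, rfl⟩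
  have hKn : A ≤ normalizer (K : Set G) := by
    intro x hx
    obtain ⟨c, hc, n, rfl⟩ := hcover x hx
    have hcK : c ∈ normalizer (K : Set G) := le_normalizer (mem_sup_left hc)
    have hn : ∀ m : ↥N, (m : G) ∈ normalizer (H0 : Set G) → (m : G) ∈ normalizer (K : Set G) :=
      fun m hm => by
        refine mem_normalizer_conj_iff.2 ?_
        rw [hK, Subgroup.map_sup, mem_normalizer_conj_iff.1 hm,
          mem_normalizer_conj_iff.1 (le_normalizer_piCore A m.2.1)]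
    obtain ⟨s, hs, h, hh, rfl⟩ := hsplit n
    exact mul_mem hcK (mul_mem (hn s (hSH0 hs)) (hn h (hHH0 h hh)))
  rcases hR15 with hR1 | hR5
  · -- 2-nilpotent centralisers
    left
    have hHK : ∀ h ∈ H, (h : G) ∈ K := fun h hh => by
      refine mem_sup_right ⟨h, ⟨hh, MonoidHom.mem_ker.2 ?_⟩, rfl⟩
      have h1 : ψ h ∈ R := ⟨h, hh, rfl⟩
      rw [eq_bot_of_card_eq R hR1, mem_bot] at h1
      exact h1
    have hnil : Cfsg.HasNormalPComplement 2 ↥A := by
      refine ⟨S.subtype hSA, K.subgroupOf A, (normal_subgroupOf_iff_le_normalizer hKA).2 hKn, ?_⟩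
      refine isComplement'_of_disjoint_and_mul_eq_univ ?_ ?_
      · refine disjoint_of_coprime_natCard ?_
        rw [Nat.card_congr (subgroupOfEquivOfLe hKA).toEquiv]
        obtain ⟨j, hj⟩ := IsPGroup.iff_card.1 (S.subtype hSA).isPGroup'
        rw [hj]
        exact (Nat.coprime_two_right.2 hKcard).pow_right j
      · refine Set.eq_univ_of_forall fun x => ?_
        haveI : (K.subgroupOf A).Normal := (normal_subgroupOf_iff_le_normalizer hKA).2 hKn
        rw [← normal_mul]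
        obtain ⟨c, hc, n, hcn⟩ := hcover x x.2
        obtain ⟨s, hs, h, hh, rfl⟩ := hsplit n
        have hxe : x = ⟨c, piCore_le A hc⟩ * (⟨(s : G), hSA hs⟩ * ⟨(h : G), (h : ↥N).2.1⟩) :=
          Subtype.ext hcn.symm
        rw [hxe]
        exact mul_mem (mem_sup_left (mem_sup_left hc : c ∈ K))
          (mul_mem (mem_sup_right hs) (mem_sup_left (hHK h hh)))
    intro t ht
    obtain ⟨P, hP⟩ := (IsPGroup.of_card (n := 1)
      (by rw [Nat.card_zpowers, ht, pow_one] : Nat.card ↥(zpowers t) = 2 ^ 1)).exists_le_sylow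
    obtain ⟨m, hm⟩ := MulAction.exists_smul_eq G P S
    have hmS : m * t * m⁻¹ ∈ (S : Subgroup G) := by
      have h1 : m * t * m⁻¹ ∈ ((m • P : Sylow 2 G) : Subgroup G) := ⟨t, hP (mem_zpowers t), rfl⟩
      rwa [hm] at h1
    have hmm : m * t * m⁻¹ * (m * t * m⁻¹) = 1 := by
      rw [show m * t * m⁻¹ * (m * t * m⁻¹) = m * (t * t) * m⁻¹ by group, ← pow_two, ← ht,
        pow_orderOf_eq_one, mul_one, mul_inv_cancel]
    have hv : m * t * m⁻¹ ∈ V := ⟨⟨_, hmS⟩, C.sixty.invol _ (Subtype.ext hmm), rfl⟩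
    obtain ⟨n, hn⟩ : ∃ n : G, n * a * n⁻¹ = t := by
      rcases C.cases hv with h | h | h | h
      · rw [conj_eq_one_iff] at h
        rw [h, orderOf_one] at ht
        omega
      · exact ⟨m⁻¹, by rw [← h]; group⟩
      · exact ⟨m⁻¹ * g, by
          calc m⁻¹ * g * a * (m⁻¹ * g)⁻¹ = m⁻¹ * (g * a * g⁻¹) * m := by group
            _ = t := by rw [← h]; group⟩
      · exact ⟨m⁻¹ * (g * g), by
          calc m⁻¹ * (g * g) * a * (m⁻¹ * (g * g))⁻¹ = m⁻¹ * (g * (g * a * g⁻¹) * g⁻¹) * m := by group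
            _ = t := by rw [C.cyc.1, ← h]; group⟩
    subst hn
    obtain ⟨P', N', hN', hc'⟩ := hnil
    set e : ↥A ≃* ↥(centralizer ({n * a * n⁻¹} : Set G)) :=
      (A.equivMapOfInjective _ (MulAut.conj n).injective).trans
        (MulEquiv.subgroupCongr (centralizer_map_conj a n)) with he
    refine ⟨P'.mapSurjective (f := e.toMonoidHom) e.surjective, N'.map e.toMonoidHom,
      hN'.map _ e.surjective, ?_⟩
    show IsComplement' _ ((P' : Subgroup ↥A).map e.toMonoidHom)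
    refine isComplement'_of_disjoint_and_mul_eq_univ ?_ ?_
    · rw [disjoint_iff, ← map_inf _ _ _ e.injective, disjoint_iff.1 hc'.disjoint, Subgroup.map_bot]
    · haveI : (N'.map e.toMonoidHom).Normal := hN'.map _ e.surjective
      rw [← normal_mul, ← Subgroup.map_sup]
      refine Set.eq_univ_of_forall fun y => ?_
      rw [hc'.sup_eq_top]
      exact ⟨e.symm y, mem_top _, e.apply_symm_apply y⟩
  right
  -- an element of `R`
  have hinner : ∀ y : ↥N, y ∈ S' ⊔ (H ⊓ ψ.ker) → ψ y ^ 2 ^ k = 1 := by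
    intro y hy
    rw [← SetLike.mem_coe, normal_mul] at hy
    obtain ⟨s, hs, h, hh, rfl⟩ := hy
    rw [map_mul, MonoidHom.mem_ker.1 hh.2, mul_one]
    exact hψinner s hs
  have hinner' : ∀ y : ↥N, (∃ m, Odd m ∧ y ^ m = 1) → y ∈ S' ⊔ (H ⊓ ψ.ker) → ψ y = 1 :=
    fun y ⟨m, hm, hym⟩ hy => eq_one_of_two_odd (hinner y hy) hm (by rw [← map_pow, hym, map_one])
  have hnormNN : normalizer ((S : Subgroup G) : Set G) ≤ normalizer (N : Set G) := by
    intro n hn
    have key : ∀ n ∈ normalizer ((S : Subgroup G) : Set G), ∀ y ∈ N, n * y * n⁻¹ ∈ N := by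
      intro n hn y hy
      refine ⟨mem_centralizer_singleton_iff.2 ?_,
        Subgroup.mul_mem _ (Subgroup.mul_mem _ hn hy.2) (Subgroup.inv_mem _ hn)⟩
      have hv : n⁻¹ * a * n ∈ V := by
        have := conj_mem_zS (inv_mem hn) C.a_mem
        rwa [inv_inv] at this
      calc n * y * n⁻¹ * a = n * (y * (n⁻¹ * a * n)) * n⁻¹ := by group
        _ = n * ((n⁻¹ * a * n) * y) * n⁻¹ := by rw [hNV y hy _ hv]
        _ = a * (n * y * n⁻¹) := by group
    refine mem_normalizer_iff.2 fun y => ⟨key n hn y, fun hy => ?_⟩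
    have := key n⁻¹ (inv_mem hn) _ hy
    simpa [mul_assoc] using this
  obtain ⟨P⟩ : Nonempty (Sylow 5 ↥N) := inferInstance
  set P5 := (P : Subgroup ↥N).map N.subtype with hP5
  -- `g` adjusted to normalise `P5`
  obtain ⟨P', hP'⟩ := Coprime.exists_sylow_of_card (K := N)
    (H := P5.map (MulAut.conj g).toMonoidHom)
    ((Subgroup.map_mono (map_subtype_le _)).trans (mem_normalizer_conj_iff.1 (hnormNN C.g_norm)).le)
    (by rw [card_map_of_injective (MulAut.conj g).injective, hP5, Coprime.card_sylow_map])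
  obtain ⟨n, hn, hnP⟩ := Coprime.exists_conj_sylow_map P' P
  rw [hP', Coprime.conj_smul_eq_map, map_conj_trans, ← hP5] at hnP
  have hm1 : n * g ∈ normalizer (P5 : Set G) := mem_normalizer_conj_iff.2 hnP
  have hmN : n * g ∈ normalizer ((S : Subgroup G) : Set G) := mul_mem hn.2 C.g_norm
  have hmove : n * g * a * (n * g)⁻¹ ≠ a := by
    rw [show n * g * a * (n * g)⁻¹ = n * (g * a * g⁻¹) * n⁻¹ by group, hNV n hn _ C.b_mem,
      mul_inv_cancel_right]
    exact C.g_move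
  -- a 3-element
  obtain ⟨i, ho, hi⟩ := exists_odd_moving C.a_mem hmN hmove
  set o := (n * g) ^ i with hodef
  have hoN : o ∈ normalizer ((S : Subgroup G) : Set G) := pow_mem hmN i
  obtain ⟨hc1, hc2⟩ := cycle C.sixty C.a_mem C.a_ne_one hoN ho hi
  obtain ⟨j, t, ht, hjt⟩ := Nat.exists_eq_pow_mul_and_not_dvd (orderOf_pos o).ne' 3 (by norm_num)
  have ho3 : (o ^ t) ^ 3 ^ j = 1 := by rw [← pow_mul, mul_comm, ← hjt, pow_orderOf_eq_one]
  have hmove3 : o ^ t * a * (o ^ t)⁻¹ ≠ a := by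
    intro h1
    have h3 : Commute (o ^ 3) a := by
      show o ^ 3 * a = a * o ^ 3
      rw [← mul_inv_eq_iff_eq_mul]
      calc o ^ 3 * a * (o ^ 3)⁻¹ = o * (o * (o * a * o⁻¹) * o⁻¹) * o⁻¹ := by
            rw [pow_succ, pow_two]; group
        _ = a := by rw [hc1, hc2]
    have h4 : Commute (o ^ ((Nat.gcd 3 t : ℕ) : ℤ)) a := by
      rw [Nat.gcd_eq_gcd_ab, zpow_add, zpow_mul, zpow_mul, zpow_natCast, zpow_natCast]
      exact (h3.zpow_left _).mul_left ((show Commute (o ^ t) a from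
        mul_inv_eq_iff_eq_mul.1 h1).zpow_left _)
    rw [(Nat.prime_three.coprime_iff_not_dvd.2 ht : Nat.Coprime 3 t), Nat.cast_one, zpow_one] at h4
    exact hi (by rw [h4.eq, mul_inv_cancel_right])
  obtain ⟨x, hx, hxact⟩ := C.exists_acting_as_g (mem_zpowers (o ^ t)) (pow_mem hoN t) hmove3
  have hxN : x ∈ normalizer ((S : Subgroup G) : Set G) := zpowers_le.2 (pow_mem hoN t) hx
  have hxP : x ∈ normalizer (P5 : Set G) := zpowers_le.2 (pow_mem (pow_mem hm1 i) t) hx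
  have hx3 : x ^ 3 ^ j = 1 := by
    obtain ⟨l, rfl⟩ := hx
    show ((o ^ t) ^ l) ^ 3 ^ j = 1
    rw [← zpow_natCast, ← zpow_mul, mul_comm, zpow_mul, zpow_natCast, ho3, one_zpow]
  -- elements of the Sylow 5-subgroup
  have hP5N : P5 ≤ N := map_subtype_le _
  have hPr : ∀ y : ↥N, y ∈ (P : Subgroup ↥N) → ∃ m, Odd m ∧ y ^ m = 1 := fun y hy => by
    obtain ⟨l, hl⟩ := P.isPGroup' ⟨y, hy⟩
    exact ⟨5 ^ l, Odd.pow (by decide), congrArg Subtype.val hl⟩
  obtain ⟨p0, hp0, hp0ne⟩ : ∃ p : ↥N, p ∈ (P : Subgroup ↥N) ∧ ψ p ≠ 1 := by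
    by_contra hc
    push Not at hc
    have h1 : (5 : ℕ) ∣ ψ.ker.index := by
      rw [index_ker, ← hR5]
      exact card_dvd_of_le (map_le_range ψ H)
    exact P.not_dvd_index (h1.trans (index_dvd_of_le fun y hy => MonoidHom.mem_ker.2 (hc y hy)))
  obtain ⟨s0, hs0, h0, hh0, hp0e⟩ := hsplit p0
  have hψh0 : ψ h0 ≠ 1 := fun h => hp0ne (hinner' p0 (hPr p0 hp0)
    (hp0e ▸ mul_mem (mem_sup_left hs0) (mem_sup_right ⟨hh0, MonoidHom.mem_ker.2 h⟩)))
  have hgen : ∀ h ∈ H, ∃ l : ℕ, ∃ h' ∈ H ⊓ ψ.ker, h = h0 ^ l * h' := by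
    intro h hh
    have h1 : zpowers (ψ h0) = R := eq_of_le_of_card_ge (zpowers_le.2 ⟨h0, hh0, rfl⟩) (by
      rw [Nat.card_zpowers, hR5]
      have h2 : orderOf (ψ h0) ∣ 5 := hR5 ▸ R.orderOf_dvd_natCard ⟨h0, hh0, rfl⟩
      rcases (Nat.dvd_prime Nat.prime_five).1 h2 with h3 | h3
      · exact absurd (orderOf_eq_one_iff.1 h3) hψh0
      · rw [h3])
    have h2 : ψ h ∈ zpowers (ψ h0) := h1 ▸ ⟨h, hh, rfl⟩
    obtain ⟨l, hl⟩ := mem_powers_iff_mem_zpowers.2 h2
    refine ⟨l, (h0 ^ l)⁻¹ * h, ⟨H.mul_mem (H.inv_mem (pow_mem hh0 l)) hh, MonoidHom.mem_ker.2 ?_⟩,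
      (mul_inv_cancel_left _ _).symm⟩
    have hl' : ψ h0 ^ l = ψ h := hl
    rw [map_mul, map_inv, map_pow, hl', inv_mul_cancel]
  have hmod : ∀ y : ↥N, ∃ l : ℕ, ∃ w ∈ S' ⊔ (H ⊓ ψ.ker), y = p0 ^ l * w := by
    intro y
    obtain ⟨s, hs, h, hh, rfl⟩ := hsplit y
    obtain ⟨l, h', hh', rfl⟩ := hgen h hh
    refine ⟨l, (p0 ^ l)⁻¹ * (s * (h0 ^ l * h')), ?_, (mul_inv_cancel_left _ _).symm⟩
    have h1 : (p0 ^ l)⁻¹ * (s * h0 ^ l) ∈ S' := by
      rw [← QuotientGroup.eq, QuotientGroup.mk_mul, (QuotientGroup.eq_one_iff s).2 hs, one_mul,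
        QuotientGroup.mk_pow, QuotientGroup.mk_pow, ← hp0e, QuotientGroup.mk_mul,
        (QuotientGroup.eq_one_iff s0).2 hs0, one_mul]
    rw [show (p0 ^ l)⁻¹ * (s * (h0 ^ l * h')) = (p0 ^ l)⁻¹ * (s * h0 ^ l) * h' by group]
    exact mul_mem (mem_sup_left h1) (mem_sup_right hh')
  have hcyc5 : ∀ y : ↥N, y ∈ (P : Subgroup ↥N) → ∃ l : ℕ, ψ y = ψ p0 ^ l := by
    intro y hy
    obtain ⟨l, w, hw, hyw⟩ := hmod y
    refine ⟨l, ?_⟩
    have hwP : w ∈ (P : Subgroup ↥N) := by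
      rw [show w = (p0 ^ l)⁻¹ * y by rw [hyw, inv_mul_cancel_left]]
      exact mul_mem (inv_mem (pow_mem hp0 l)) hy
    rw [hyw, map_mul, map_pow, hinner' w (hPr w hwP) hw, mul_one]
  have hp05 : ψ p0 ^ 5 = 1 := by
    rw [← map_pow]
    refine hinner' _ (hPr _ (pow_mem hp0 5)) ?_
    have h5 : h0 ^ 5 ∈ ψ.ker := by
      rw [MonoidHom.mem_ker, map_pow, ← hR5]
      exact congrArg Subtype.val (pow_card_eq_one' (x := (⟨ψ h0, h0, hh0, rfl⟩ : ↥R)))
    have h1 : (h0 ^ 5)⁻¹ * p0 ^ 5 ∈ S' := by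
      rw [← QuotientGroup.eq, QuotientGroup.mk_pow, QuotientGroup.mk_pow, ← hp0e,
        QuotientGroup.mk_mul, (QuotientGroup.eq_one_iff s0).2 hs0, one_mul]
    have h2 := mul_mem (mem_sup_right (⟨pow_mem hh0 5, h5⟩ : h0 ^ 5 ∈ H ⊓ ψ.ker) :
      h0 ^ 5 ∈ S' ⊔ (H ⊓ ψ.ker)) (mem_sup_left h1)
    rwa [mul_inv_cancel_left] at h2
  have hord5 : orderOf (ψ p0) = 5 := orderOf_eq_prime hp05 hp0ne
  set Ψ : ↥(normalizer ((S : Subgroup G) : Set G)) →* MulAut ↥(S : Subgroup G) :=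
    conjHom le_rfl with hΨ
  have hΨψ : ∀ y : ↥N, Ψ ⟨y, y.2.2⟩ = ψ y := fun y => MulEquiv.ext fun s => Subtype.ext rfl
  -- the conjugate by `x` acts in the same way
  have hxp : x * (p0 : G) * x⁻¹ ∈ P5 := (mem_normalizer_iff.1 hxP _).1 ⟨p0, hp0, rfl⟩
  obtain ⟨q, hq, hqe⟩ := hxp
  have hqψ : ψ q = ψ p0 := by
    obtain ⟨l, hl⟩ := hcyc5 q hq
    have hconj : Ψ ⟨x, hxN⟩ * ψ p0 * (Ψ ⟨x, hxN⟩)⁻¹ = ψ q := by
      rw [← hΨψ, ← hΨψ, ← map_inv, ← map_mul, ← map_mul]
      exact congrArg Ψ (Subtype.ext hqe.symm)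
    rw [← hconj]
    refine conj_eq_of_three (n := j) ?_ hord5 (hconj.trans hl)
    rw [← map_pow, show (⟨x, hxN⟩ : ↥(normalizer ((S : Subgroup G) : Set G))) ^ 3 ^ j = 1 from
      Subtype.ext hx3, map_one]
  set P50 := ((P : Subgroup ↥N) ⊓ ψ.ker).map N.subtype with hP50
  have hq50 : (p0 : G)⁻¹ * (x * p0 * x⁻¹) ∈ P50 := ⟨p0⁻¹ * q,
    ⟨(P : Subgroup ↥N).mul_mem ((P : Subgroup ↥N).inv_mem hp0) hq, MonoidHom.mem_ker.2 (by rw [map_mul, map_inv, hqψ, inv_mul_cancel])⟩,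
    by rw [map_mul, map_inv, hqe]; rfl⟩
  have hxP50 : x ∈ normalizer (P50 : Set G) := by
    refine mem_normalizer_conj_iff.2 (eq_of_le_of_card_ge ?_
      (card_map_of_injective (MulAut.conj x).injective).ge)
    rintro _ ⟨_, ⟨y, ⟨hy, hyk⟩, rfl⟩, rfl⟩
    obtain ⟨w, hw, hwe⟩ := (mem_normalizer_iff.1 hxP _).1 (mem_map_of_mem N.subtype hy)
    refine ⟨w, ⟨hw, MonoidHom.mem_ker.2 ?_⟩, hwe⟩
    rw [← hΨψ, show (⟨(w : G), w.2.2⟩ : ↥(normalizer ((S : Subgroup G) : Set G))) =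
      ⟨x, hxN⟩ * ⟨y, y.2.2⟩ * ⟨x, hxN⟩⁻¹ from Subtype.ext hwe, map_mul, map_mul, hΨψ,
      MonoidHom.mem_ker.1 hyk, mul_one, map_inv, mul_inv_cancel]
  -- fix it
  have hcop : (Nat.card ↥(zpowers x)).Coprime (Nat.card ↥P50) := by
    obtain ⟨l, hl⟩ := IsPGroup.iff_card.1 ((P.isPGroup'.to_le
      (inf_le_left : (P : Subgroup ↥N) ⊓ ψ.ker ≤ (P : Subgroup ↥N))).map N.subtype)
    rw [hP50, hl, Nat.card_zpowers]
    obtain ⟨l', -, hl'⟩ := (Nat.dvd_prime_pow Nat.prime_three).1 (orderOf_dvd_of_pow_eq_one hx3)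
    rw [hl']
    exact Nat.Coprime.pow _ _ (by decide)
  obtain ⟨d, hd, hdx⟩ := Coprime.exists_mul_fixed (zpowers_le.2 hxP50) hcop
    (Or.inl (Coprime.isSolvable_zpowers x)) (k := (p0 : G)) (by
      intro b hb
      obtain ⟨l, rfl⟩ := mem_powers_iff_mem_zpowers.2 hb
      show (p0 : G)⁻¹ * (x ^ l * p0 * (x ^ l)⁻¹) ∈ P50
      clear hb
      induction l with
      | zero => simp
      | succ l ih =>
        have h1 := (mem_normalizer_iff.1 hxP50 _).1 ih
        have h2 := mul_mem hq50 h1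
        convert h2 using 1
        rw [pow_succ']
        group)
  obtain ⟨d', ⟨hd'P, hd'k⟩, hd'e⟩ := hd
  set f' : ↥N := p0 * d' with hf'
  set f : G := (f' : G) with hf
  have hfd : f = (p0 : G) * d := by rw [hf, hf', Subgroup.coe_mul, ← hd'e]; rfl
  have hxf : x * f = f * x := by
    rw [hfd]
    exact (mem_centralizer_iff.1 hdx x (mem_zpowers x))
  have hfP : f' ∈ (P : Subgroup ↥N) := mul_mem hp0 hd'P
  have hψf : ψ f' = ψ p0 := by rw [hf', map_mul, MonoidHom.mem_ker.1 hd'k, mul_one]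
  have hf1 : f ≠ 1 := fun h => hp0ne (by
    rw [← hψf, show f' = 1 from Subtype.ext h, map_one])
  have hfN : f ∈ N := f'.2
  obtain ⟨r, L, hr, hrπ, hLK, hLr, hLne, hLn, hfree, hkey⟩ := C.exists_free
  haveI := Fact.mk hr
  refine ⟨f, K, L, r, ⟨C.min.hyp, C.sixty.card, C.sixty.card_center, C.sixty.comm,
    C.sixty.center_sq, C.sixty.sq, C.sixty.invol, ?_, C.a_mem, C.a_ord, hfN.1, hfN.2, ?_,
    hNV f hfN, ?_, hKA, hKn, fun y hy => Odd.of_dvd_nat hKcard (K.orderOf_dvd_natCard hy), ?_, ?_,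
    hr, hrπ, hLK.trans le_sup_left, hLr, hLne, hLn, hfree, ?_⟩⟩
  · intro v hv hv1
    rcases C.cases hv with h | h | h | h
    · exact absurd h hv1
    · exact ⟨1, one_mem _, by rw [h]; group⟩
    · exact ⟨g, C.g_norm, h.symm⟩
    · exact ⟨g * g, mul_mem C.g_norm C.g_norm, by rw [h, ← C.cyc.1]; group⟩
  · obtain ⟨l, hl⟩ := (IsPGroup.iff_orderOf.1 P.isPGroup') ⟨f', hfP⟩
    rw [Subgroup.orderOf_mk] at hl
    rcases Nat.eq_zero_or_pos l with h0 | h0
    · rw [h0, pow_zero, orderOf_eq_one_iff] at hl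
      exact absurd (congrArg Subtype.val hl) hf1
    · refine ⟨l - 1, ?_⟩
      rw [hf, Subgroup.orderOf_coe, hl, Nat.sub_add_cancel h0]
  · -- fixed point free
    intro s hs hfs
    by_contra hns
    obtain ⟨z, hz, hze⟩ := hfs
    refine hp0ne (hψf ▸ eq_one_of_fixed_mod (p := 5) C.sixty (by norm_num) htr (hψf ▸ hp05)
      (hψfix f') (x := ⟨s, hs⟩) (fun h => hns ⟨_, h, rfl⟩) ?_)
    have h1 : ψ f' ⟨s, hs⟩ * (⟨s, hs⟩ : ↥(S : Subgroup G))⁻¹ = z := Subtype.ext (by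
      rw [Subgroup.coe_mul, hψ, conjHom_apply]
      exact hze.symm)
    rw [h1]
    exact hz
  · -- `f ^ 5 ∈ K`
    obtain ⟨s, hs, h, hh, he⟩ := hsplit (f' ^ 5)
    have hψ5 : ψ (f' ^ 5) = 1 := by rw [map_pow, hψf, hp05]
    have hψh : ψ h = 1 := by
      refine eq_one_of_two_odd (j := k) (m := Nat.card ↥H) ?_ hHodd ?_
      · have : ψ h = (ψ s)⁻¹ := by
          rw [eq_inv_iff_mul_eq_one, mul_eq_one_comm, ← map_mul, he, hψ5]
        rw [this, inv_pow, hψinner s hs, inv_one]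
      · rw [← map_pow, show h ^ Nat.card ↥H = 1 from
          congrArg Subtype.val (pow_card_eq_one' (x := (⟨h, hh⟩ : ↥H))), map_one]
    have hψs : ψ s = 1 := by rw [← he, map_mul, hψh, mul_one] at hψ5; exact hψ5
    have hsc : (s : G) ∈ V := ⟨⟨s, hs⟩, mem_center_iff.2 fun y => Subtype.ext
      ((hψcomm s).1 hψs y y.2).symm, rfl⟩
    have hcomm : Commute s h := Subtype.ext (hNV h h.2 s hsc).symm
    obtain ⟨m, hm, hfm⟩ := hPr _ (pow_mem hfP 5)
    have hs1 : s = 1 := by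
      have h2 : h ^ Nat.card ↥H = 1 :=
        congrArg Subtype.val (pow_card_eq_one' (x := (⟨h, hh⟩ : ↥H)))
      refine eq_one_of_two_odd (j := 1) (m := m * Nat.card ↥H) ?_ (hm.mul hHodd) ?_
      · exact Subtype.ext (by
          push_cast
          rw [pow_two]
          exact sq_zS C.sixty hsc)
      · have h1 : (s * h) ^ (m * Nat.card ↥H) = 1 := by rw [pow_mul, he, hfm, one_pow]
        rw [hcomm.mul_pow, mul_comm m (Nat.card ↥H), pow_mul h, h2, one_pow, mul_one,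
          mul_comm (Nat.card ↥H) m] at h1
        exact h1
    rw [hs1, one_mul] at he
    exact mem_sup_right ⟨h, ⟨hh, MonoidHom.mem_ker.2 hψh⟩,
      (congrArg Subtype.val he).trans (by rw [hf]; exact SubgroupClass.coe_pow f' 5)⟩
  · -- cover
    intro y hy
    obtain ⟨c, hc, n', rfl⟩ := hcover y hy
    obtain ⟨l, w, hw, rfl⟩ := hmod n'
    set U := K ⊔ (S : Subgroup G) ⊔ zpowers f with hU
    have hSU : S' ⊔ (H ⊓ ψ.ker) ≤ U.subgroupOf N :=
      sup_le (fun z hz => mem_sup_left (mem_sup_right hz))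
        (fun z hz => mem_sup_left (mem_sup_left (mem_sup_right ⟨z, hz, rfl⟩)))
    have hdU : (d' : G) ∈ U := by
      obtain ⟨s, hs, h, hh, he⟩ := hsplit d'
      have h1 : ψ h = 1 := by
        refine eq_one_of_two_odd (j := k) (m := Nat.card ↥H) ?_ hHodd ?_
        · have : ψ h = (ψ s)⁻¹ := by
            rw [eq_inv_iff_mul_eq_one, mul_eq_one_comm, ← map_mul, he, MonoidHom.mem_ker.1 hd'k]
          rw [this, inv_pow, hψinner s hs, inv_one]
        · rw [← map_pow, show h ^ Nat.card ↥H = 1 from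
            congrArg Subtype.val (pow_card_eq_one' (x := (⟨h, hh⟩ : ↥H))), map_one]
      exact hSU (he ▸ mul_mem (mem_sup_left hs) (mem_sup_right ⟨hh, MonoidHom.mem_ker.2 h1⟩))
    have hp0U : (p0 : G) ∈ U := by
      have h1 : (p0 : G) = f * (d' : G)⁻¹ := by
        rw [hf, hf', Subgroup.coe_mul, mul_inv_cancel_right]
      rw [h1]
      exact mul_mem (mem_sup_right (mem_zpowers f)) (inv_mem hdU)
    rw [Subgroup.coe_mul, SubgroupClass.coe_pow]
    exact mul_mem (mem_sup_left (mem_sup_left (mem_sup_left hc)))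
      (mul_mem (pow_mem hp0U l) (hSU hw))
  · -- `f` acts fixed-point-freely on `L`
    intro y hy hfy
    by_contra hy1
    set M := centralizer ({f} : Set G) with hM
    have hMtop : M ≠ ⊤ := C.centralizer_ne_top hf1
    have hVM : V ≤ M := fun v hv => mem_centralizer_singleton_iff.2 (hNV f hfN v hv).symm
    have hVA : V ≤ A := C.zS_le.trans hSA
    set Y := L ⊓ M with hY
    have hYinv : Inv V r Y :=
      ⟨le_normalizer_inf' (hVA.trans hLn) (hVM.trans le_normalizer), hLr.to_le inf_le_left⟩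
    have hxM : x ∈ M := mem_centralizer_singleton_iff.2 hxf
    have hxV : x ∈ normalizer (V : Set G) := by
      refine mem_normalizer_iff.2 fun v => ⟨conj_mem_zS hxN, fun hv => ?_⟩
      have := conj_mem_zS (inv_mem hxN) hv
      simpa [mul_assoc] using this
    have hY'inv := C.conj_inv hYinv hxV
    have hY'M : Y.map (MulAut.conj x).toMonoidHom ≤ M := by
      refine le_trans (Subgroup.map_mono inf_le_right) ?_
      exact (mem_normalizer_conj_iff.1 (le_normalizer hxM)).le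
    obtain ⟨R1, hR1, hYR1⟩ := C.exists_invSyl_ge hrπ hMtop (hVM.trans le_normalizer) hYinv inf_le_right
    obtain ⟨R2, hR2, hYR2⟩ := C.exists_invSyl_ge hrπ hMtop (hVM.trans le_normalizer) hY'inv hY'M
    obtain ⟨c, hc, -, hcR⟩ := C.invSyl_conj hrπ hMtop (hVM.trans le_normalizer) hR1 hR2
    have hm1 : Meets R1 a := fun h => hy1 (mem_bot.1 (h.le
      ⟨hYR1 ⟨hy, mem_centralizer_singleton_iff.2 hfy.symm⟩, piCore_le A (hLK hy)⟩))
    have hm2 : Meets Y a := fun h => hy1 (mem_bot.1 (h.le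
      ⟨⟨hy, mem_centralizer_singleton_iff.2 hfy.symm⟩, piCore_le A (hLK hy)⟩))
    have hm3 := hm2.map x
    rw [hxact a C.a_mem] at hm3
    exact hkey R2 hR2.1 a C.a_mem C.a_ne_one _ C.b_mem
      (fun h => C.a_ne_one (conj_eq_one_iff.1 h)) C.g_move.symm
      (C.rel_meets ⟨c, hc, hcR⟩ C.a_mem hm1) (hm3.mono hYR2)

end Conf

end Cfsg.Agent.Lib.PiHomog3258.Local74
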