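import Cfsg.Agent.Lib.PiHomog3258.Basic

/-!
# `PSL₂(q)` with elementary Sylow 2-subgroups of order four is no exception for S3258
-/

set_option autoImplicit false
set_option linter.unusedSectionVars false
set_option linter.style.haveILetI false

namespace Cfsg.Agent.Lib.PiHomog3258.Local74

open Subgroup Matrix
open scoped MatrixGroups

universe u

variable {F : Type} [Field F]

theorem center_entries {A : SL(2, F)} (h : A ∈ center SL(2, F)) :
    (A : Matrix (Fin 2) (Fin 2) F) 0 1 = 0 ∧ (A : Matrix (Fin 2) (Fin 2) F) 1 0 = 0 ∧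
      (A : Matrix (Fin 2) (Fin 2) F) 0 0 = (A : Matrix (Fin 2) (Fin 2) F) 1 1 ∧
      (A : Matrix (Fin 2) (Fin 2) F) 0 0 ^ 2 = 1 := by
  obtain ⟨r, hr, hA⟩ := Matrix.SpecialLinearGroup.mem_center_iff.1 h
  rw [Fintype.card_fin] at hr
  rw [← hA]
  simp [hr]

theorem mem_center_of {A : SL(2, F)} {r : F} (hr : r ^ 2 = 1)
    (h00 : (A : Matrix (Fin 2) (Fin 2) F) 0 0 = r) (h01 : (A : Matrix (Fin 2) (Fin 2) F) 0 1 = 0)
    (h10 : (A : Matrix (Fin 2) (Fin 2) F) 1 0 = 0) (h11 : (A : Matrix (Fin 2) (Fin 2) F) 1 1 = r) :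
    A ∈ center SL(2, F) := by
  refine Matrix.SpecialLinearGroup.mem_center_iff.2 ⟨r, by rwa [Fintype.card_fin], ?_⟩
  ext i j
  fin_cases i <;> fin_cases j <;> simp [h00, h01, h10, h11]

/-- A matrix of determinant one by its entries. -/
def mk2 (a b c d : F) (h : a * d - b * c = 1) : SL(2, F) :=
  ⟨!![a, b; c, d], by rw [det_fin_two_of]; exact h⟩

@[simp] theorem mk2_val (a b c d : F) (h : a * d - b * c = 1) :
    (mk2 a b c d h : Matrix (Fin 2) (Fin 2) F) = !![a, b; c, d] := rfl

/-- The diagonal torus. -/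
def torus : Fˣ →* SL(2, F) where
  toFun t := mk2 (t : F) 0 0 ((t⁻¹ : Fˣ) : F) (by simp)
  map_one' := Subtype.ext (by simp [one_fin_two])
  map_mul' s t := Subtype.ext (by
    simp only [mk2_val, Matrix.SpecialLinearGroup.coe_mul]
    ext i j
    fin_cases i <;> fin_cases j <;> simp [mul_comm])

@[simp] theorem torus_val (t : Fˣ) :
    (torus t : Matrix (Fin 2) (Fin 2) F) = !![(t : F), 0; 0, ((t : F))⁻¹] := by
  simp [torus]

/-- The upper unitriangular group. -/
def unip : Multiplicative F →* SL(2, F) where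
  toFun x := mk2 1 x.toAdd 0 1 (by simp)
  map_one' := Subtype.ext (by simp [one_fin_two])
  map_mul' s t := Subtype.ext (by
    simp only [mk2_val, Matrix.SpecialLinearGroup.coe_mul]
    ext i j
    fin_cases i <;> fin_cases j <;> simp [add_comm])

@[simp] theorem unip_val (x : Multiplicative F) :
    (unip x : Matrix (Fin 2) (Fin 2) F) = !![1, x.toAdd; 0, 1] := rfl

/-- The Weyl element. -/
def weyl : SL(2, F) := mk2 0 1 (-1) 0 (by simp)

@[simp] theorem weyl_val : ((weyl : SL(2, F)) : Matrix (Fin 2) (Fin 2) F) = !![0, 1; -1, 0] := rfl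

variable [Fintype F] {G : Type u} [Group G] [Finite G] {π : Set ℕ}

theorem false_of_psl (h : Hyp π G) (h3 : 3 ∈ π) (h4 : ∀ x : G, x ^ 4 = 1 → x ^ 2 = 1)
    (hodd : Odd (Fintype.card F)) (hq : 3 < Fintype.card F) (f : SL(2, F) →* G)
    (hf : ∀ x, f x = 1 ↔ x ∈ center SL(2, F)) : False := by
  classical
  haveI : Fact (Nat.Prime 2) := ⟨Nat.prime_two⟩
  haveI : Fact (Nat.Prime 3) := ⟨Nat.prime_three⟩
  -- `x ^ 2` central and `x` not central gives an involution
  have hinvol : ∀ j : SL(2, F), j ∉ center SL(2, F) → j * j ∈ center SL(2, F) →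
      orderOf (f j) = 2 := fun j hj hjj =>
    orderOf_eq_prime (by rw [pow_two, ← map_mul]; exact (hf _).2 hjj) (fun h1 => hj ((hf j).1 h1))
  have hinv : ∀ j d : SL(2, F), j * j ∈ center SL(2, F) → j * d * (j * d) ∈ center SL(2, F) →
      f j * f d * (f j)⁻¹ = (f d)⁻¹ := by
    intro j d hjj hjd
    have e1 : f j * f j = 1 := by rw [← map_mul]; exact (hf _).2 hjj
    have e2 : f j * f d * (f j * f d) = 1 := by
      rw [← map_mul, ← map_mul]; exact (hf _).2 hjd
    rw [inv_eq_of_mul_eq_one_right e1, eq_inv_iff_mul_eq_one, mul_assoc]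
    exact e2
  by_cases hchar : (3 : F) = 0
  · -- characteristic three
    have hw : weyl * weyl ∈ center SL(2, F) := by
      refine mem_center_of (r := -1) (by ring) ?_ ?_ ?_ ?_ <;> simp [Matrix.SpecialLinearGroup.coe_mul]
    have hwd : ∀ t : Fˣ, weyl * torus t * (weyl * torus t) ∈ center SL(2, F) := fun t => by
      refine mem_center_of (r := -1) (by ring) ?_ ?_ ?_ ?_ <;> simp [Matrix.SpecialLinearGroup.coe_mul]
    have hwo : orderOf (f weyl) = 2 := hinvol _ (fun hc => by
      have := (center_entries hc).1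
      simp at this) hw
    -- an element of odd order of the torus
    obtain ⟨t, htodd, ht1⟩ : ∃ t : Fˣ, Odd (orderOf t) ∧ t ≠ 1 := by
      by_cases hp : ∃ p : ℕ, p.Prime ∧ p ≠ 2 ∧ p ∣ Nat.card Fˣ
      · obtain ⟨p, hp, hp2, hpd⟩ := hp
        haveI := Fact.mk hp
        obtain ⟨t, ht⟩ := exists_prime_orderOf_dvd_card' (G := Fˣ) p hpd
        refine ⟨t, ht ▸ hp.odd_of_ne_two hp2, fun h1 => ?_⟩
        rw [h1, orderOf_one] at ht
        exact hp.ne_one ht.symm
      · exfalso
        push Not at hp
        have hcard : Nat.card Fˣ = Fintype.card F - 1 := by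
          rw [Nat.card_eq_fintype_card, Fintype.card_units]
        obtain ⟨m, hm⟩ : ∃ m, Nat.card Fˣ = 2 ^ m :=
          ⟨_, Nat.eq_prime_pow_of_unique_prime_dvd Nat.card_pos.ne' fun {d} hd hdd => by
            by_contra hne
            exact hp d hd hne hdd⟩
        obtain ⟨c, hc⟩ : ∃ c : ℕ, Fintype.card F = 3 * c := by
          haveI : CharP F 3 := (CharP.charP_iff_prime_eq_zero Nat.prime_three).2 (by exact_mod_cast hchar)
          obtain ⟨n, -, hn⟩ := FiniteField.card F 3
          exact ⟨3 ^ ((n : ℕ) - 1), by rw [hn, ← pow_succ', Nat.sub_add_cancel n.pos]⟩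
        have h8 : 2 ^ 3 ∣ Nat.card Fˣ := by
          rw [hm]
          refine pow_dvd_pow 2 ?_
          by_contra hm3
          have : 2 ^ m ≤ 2 ^ 2 := Nat.pow_le_pow_right (by norm_num) (by omega)
          obtain ⟨e, he⟩ := hodd
          omega
        obtain ⟨g, hg⟩ := IsCyclic.exists_ofOrder_eq_natCard (α := Fˣ)
        obtain ⟨k, hk⟩ := h8
        set s := g ^ k with hs
        have hso : orderOf s = 8 := by
          have hk0 : k ≠ 0 := fun h0 => Nat.card_pos.ne' (by rw [hk, h0, mul_zero])
          rw [hs, orderOf_pow_of_dvd hk0 (by rw [hg, hk]; exact dvd_mul_left k _), hg, hk,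
            Nat.mul_div_cancel _ (Nat.pos_of_ne_zero hk0)]
          norm_num
        have hs4 : ((s : F)) ^ 4 = -1 := by
          have h8' : ((s : F) ^ 4) * ((s : F) ^ 4) = 1 := by
            rw [← pow_add, ← Units.val_pow_eq_pow_val, show 4 + 4 = orderOf s by rw [hso],
              pow_orderOf_eq_one, Units.val_one]
          refine (mul_self_eq_one_iff.1 h8').resolve_left fun h1 => ?_
          have : s ^ 4 = 1 := Units.ext (by simpa using h1)
          have := Nat.le_of_dvd (by norm_num) (orderOf_dvd_of_pow_eq_one this)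
          omega
        have e4 : f (torus s) ^ 4 = 1 := by
          rw [← map_pow f, ← map_pow (torus (F := F)), hf]
          refine mem_center_of (r := -1) (by ring) ?_ ?_ ?_ ?_ <;> rw [torus_val] <;> simp [hs4, inv_neg]
        have e2 := h4 _ e4
        rw [← map_pow f, ← map_pow (torus (F := F)), hf] at e2
        have h01 := (center_entries e2).2.2.1
        rw [torus_val] at h01
        simp at h01
        have hs0 : (s : F) ≠ 0 := s.ne_zero
        have h02 : (s : F) ^ 4 = 1 := by
          calc (s : F) ^ 4 = (s : F) ^ 2 * (s : F) ^ 2 := by ring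
            _ = 1 := by nth_rewrite 1 [h01]; exact inv_mul_cancel₀ (pow_ne_zero 2 hs0)
        rw [hs4] at h02
        exact one_ne_zero (by linear_combination hchar + h02 : (1 : F) = 0)
    set d := f (torus t) with hd
    have hdodd : Odd (orderOf d) := htodd.of_dvd_nat
      ((orderOf_map_dvd f _).trans (orderOf_map_dvd torus t))
    have hdπ : PiP π d := h.piP_of_inverted hwo hdodd (hinv _ _ hw (hwd t))
    set U : Subgroup G := (f.comp unip).range with hU
    have hUπ : PiNum π (Nat.card ↥U) := by
      haveI : CharP F 3 := (CharP.charP_iff_prime_eq_zero Nat.prime_three).2 (by exact_mod_cast hchar)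
      obtain ⟨n, -, hn⟩ := FiniteField.card F 3
      refine piNum_of_dvd (Subgroup.card_range_dvd (f.comp unip)) ?_
      rw [Nat.card_congr Multiplicative.toAdd, Nat.card_eq_fintype_card, hn]
      exact piNum_pow Nat.prime_three h3 n
    have hconj : ∀ (t : Fˣ) (x : F), torus t * unip (Multiplicative.ofAdd x) * torus t⁻¹ =
        unip (Multiplicative.ofAdd ((t : F) * t * x)) := fun t x => Subtype.ext (by
      ext i j
      fin_cases i <;> fin_cases j <;> simp [Matrix.SpecialLinearGroup.coe_mul] <;> ring)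
    have hdn : d ∈ normalizer (U : Set G) := by
      refine mem_normalizer_fintype fun y hy => ?_
      obtain ⟨x, rfl⟩ := hy
      refine ⟨Multiplicative.ofAdd ((t : F) * t * x.toAdd), ?_⟩
      rw [MonoidHom.comp_apply, MonoidHom.comp_apply, ← hconj, ofAdd_toAdd, map_mul, map_mul,
        map_inv (torus (F := F)), map_inv]
    have hcomm := h.commute hUπ hdπ hdn (y := f (unip (Multiplicative.ofAdd 1))) ⟨_, rfl⟩
    have h1 : f (unip (Multiplicative.ofAdd ((t : F) * t * 1))) =
        f (unip (Multiplicative.ofAdd 1)) := by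
      rw [← hconj, map_mul, map_mul, map_inv (torus (F := F)), map_inv, ← hd, ← hcomm, mul_inv_cancel_right]
    have h2 : unip (Multiplicative.ofAdd (-((t : F) * t * 1) + 1)) ∈ center SL(2, F) := by
      rw [← hf, ofAdd_add, map_mul, map_mul, ofAdd_neg, map_inv (unip (F := F)), map_inv, h1, inv_mul_cancel]
    have h3 : -((t : F) * t * 1) + 1 = 0 := by
      have h := (center_entries h2).1
      rwa [unip_val, toAdd_ofAdd] at h
    refine ht1 (orderOf_eq_one_iff.1 ((Nat.dvd_prime Nat.prime_two).1 (orderOf_dvd_of_pow_eq_one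
      (show t ^ 2 = 1 from Units.ext (by push_cast; linear_combination -h3))) |>.resolve_right
        fun h2' => ?_))
    rw [h2'] at htodd
    exact (Nat.not_odd_iff_even.2 even_two) htodd
  · -- other characteristics
    obtain ⟨a, b, hab⟩ := FiniteField.exists_root_sum_quadratic (R := F)
      (f := (Polynomial.X ^ 2 : Polynomial F)) (g := Polynomial.C 3 * Polynomial.X ^ 2 + Polynomial.C 1)
      (Polynomial.degree_X_pow 2)
      (by rw [Polynomial.degree_add_eq_left_of_degree_lt] <;>
        simp [Polynomial.degree_C_mul_X_pow 2 hchar])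
      (Nat.odd_iff.1 hodd)
    simp only [Polynomial.eval_pow, Polynomial.eval_X, Polynomial.eval_add, Polynomial.eval_mul,
      Polynomial.eval_C] at hab
    have hj : (a - b) ^ 2 + (a - b) * (2 * b) + (2 * b) ^ 2 = -1 := by linear_combination hab
    obtain ⟨x, y, hxy⟩ : ∃ x y : F, x ^ 2 + x * y + y ^ 2 = -1 := ⟨_, _, hj⟩
    set j : SL(2, F) := mk2 x y (x + y) (-x) (by linear_combination -hxy) with hjdef
    set c : SL(2, F) := mk2 0 (-1) 1 (-1) (by ring) with hcdef
    have hjj : j * j ∈ center SL(2, F) := by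
      refine mem_center_of (r := -1) (by ring) ?_ ?_ ?_ ?_ <;> simp [hjdef, Matrix.SpecialLinearGroup.coe_mul] <;>
        first | linear_combination hxy | linear_combination -hxy | ring
    have hjc : j * c * (j * c) ∈ center SL(2, F) := by
      refine mem_center_of (r := -1) (by ring) ?_ ?_ ?_ ?_ <;> simp [hjdef, hcdef, Matrix.SpecialLinearGroup.coe_mul] <;>
        first | linear_combination hxy | linear_combination -hxy | ring
    have hjo : orderOf (f j) = 2 := hinvol _ (fun hc => by
      obtain ⟨h1, h2, -, -⟩ := center_entries hc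
      simp [hjdef] at h1 h2
      rw [h1, add_zero] at h2
      rw [h1, h2] at hxy
      exact one_ne_zero (by linear_combination hxy : (1 : F) = 0)) hjj
    have hco : orderOf (f c) = 3 := orderOf_eq_prime (by
      rw [← map_pow, hf]
      refine mem_center_of (r := 1) (by ring) ?_ ?_ ?_ ?_ <;> simp [hcdef, pow_succ, Matrix.SpecialLinearGroup.coe_mul]) (fun h1 => by
      have := (center_entries ((hf c).1 h1)).2.1
      simp [hcdef] at this)
    exact h.piP_of_inverted hjo (by rw [hco]; decide) (hinv _ _ hjj hjc) 3 Nat.prime_three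
      (by rw [hco]) h3

end Cfsg.Agent.Lib.PiHomog3258.Local74
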