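import Cfsg.Agent.Lib.PiHomog3258.RankTwo
import Cfsg.Agent.Lib.PiHomog3258.Local74.PSL
import Cfsg.Agent.Lib.GorensteinWalter.Main

/-!
# The four-group case of S3258
-/

set_option autoImplicit false
set_option linter.unusedSectionVars false
set_option linter.style.haveILetI false

namespace Cfsg.Agent.Lib.PiHomog3258.Local74

open Subgroup

universe u

variable {G : Type u} [Group G] [Finite G] {π : Set ℕ}

/-- The Sylow 2-subgroups of a minimal counterexample do not have order four. -/
theorem false_of_four (h : Min π G) (S : Sylow 2 G) (h4 : Nat.card ↥(S : Subgroup G) = 4)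
    {z t : G} (hzS : z ∈ (S : Subgroup G)) (htS : t ∈ (S : Subgroup G)) (hzo : orderOf z = 2)
    (hto : orderOf t = 2) (hne : t ≠ z)
    (hall : ∀ w ∈ (S : Subgroup G), orderOf w = 2 → ∀ s ∈ (S : Subgroup G), s * w = w * s) :
    False := by
  classical
  haveI : Fact (Nat.Prime 2) := ⟨Nat.prime_two⟩
  haveI : Fact (Nat.Prime 3) := ⟨Nat.prime_three⟩
  haveI := h.simple
  have hzt : z * t = t * z := hall t htS hto z hzS
  have hz1 : z ≠ 1 := fun e => by rw [e, orderOf_one] at hzo; omega
  have ht1 : t ≠ 1 := fun e => by rw [e, orderOf_one] at hto; omega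
  have hzz : z * z = 1 := by rw [← pow_two, ← hzo, pow_orderOf_eq_one]
  have htt : t * t = 1 := by rw [← pow_two, ← hto, pow_orderOf_eq_one]
  letI := Fintype.ofFinite ↥(S : Subgroup G)
  have hel : ∀ w ∈ (S : Subgroup G), w = 1 ∨ w = z ∨ w = t ∨ w = z * t := by
    intro w hw
    have hu : ({1, ⟨z, hzS⟩, ⟨t, htS⟩, ⟨z * t, mul_mem hzS htS⟩} : Finset ↥(S : Subgroup G)) =
        Finset.univ := by
      refine Finset.eq_univ_of_card _ ?_
      rw [← Nat.card_eq_fintype_card, h4]
      have n1 : z * t ≠ 1 := fun e => hne ((inv_eq_of_mul_eq_one_right e).symm.trans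
        (inv_eq_of_mul_eq_one_right hzz))
      have n2 : z * t ≠ z := fun e => ht1 (mul_eq_left.1 e)
      have n3 : z * t ≠ t := fun e => hz1 (mul_eq_right.1 e)
      rw [Finset.card_insert_of_notMem, Finset.card_insert_of_notMem,
        Finset.card_insert_of_notMem, Finset.card_singleton] <;>
        simp [Subtype.ext_iff, Ne.symm hz1, Ne.symm ht1, Ne.symm hne, Ne.symm n1, Ne.symm n2,
          Ne.symm n3]
    have h1 := Finset.mem_univ (⟨w, hw⟩ : ↥(S : Subgroup G))
    rw [← hu] at h1
    simpa using h1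
  have hsq : ∀ w ∈ (S : Subgroup G), w * w = 1 := by
    intro w hw
    rcases hel w hw with rfl | rfl | rfl | rfl
    · exact one_mul 1
    · exact hzz
    · exact htt
    · rw [show z * t * (z * t) = z * (t * z) * t by group, ← hzt,
        show z * (z * t) * t = (z * z) * (t * t) by group, hzz, htt, one_mul]
  have hexp : ∀ x : G, x ^ 4 = 1 → x ^ 2 = 1 := by
    intro x hx
    have hp : IsPGroup 2 ↥(zpowers x) := by
      obtain ⟨j, -, hj⟩ := (Nat.dvd_prime_pow Nat.prime_two).1
        (orderOf_dvd_of_pow_eq_one (by simpa using hx : x ^ 2 ^ 2 = 1))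
      exact IsPGroup.of_card (n := j) (by rw [Nat.card_zpowers, hj])
    obtain ⟨P, hP⟩ := hp.exists_le_sylow
    obtain ⟨c, hc⟩ := MulAction.exists_smul_eq G P S
    have h1 : c * x * c⁻¹ ∈ (S : Subgroup G) := by
      have : c * x * c⁻¹ ∈ ((c • P : Sylow 2 G) : Subgroup G) := ⟨x, hP (mem_zpowers x), rfl⟩
      rwa [hc] at this
    have h2 := hsq _ h1
    rwa [show c * x * c⁻¹ * (c * x * c⁻¹) = c * (x * x) * c⁻¹ by group, conj_eq_one_iff,
      ← pow_two] at h2
  -- `3 ∈ π`
  have h3 : 3 ∈ π := by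
    by_contra h3
    obtain ⟨u, hu, hune⟩ : ∃ u : G, u * z * u⁻¹ ∈ (S : Subgroup G) ∧ u * z * u⁻¹ ≠ z := by
      by_contra hc
      push Not at hc
      exact h.false_of_isolated S hzo hzS hc
    have hcen : ∀ {x : G}, x ∈ (S : Subgroup G) → orderOf x = 2 →
        x ∈ centralizer ((S : Subgroup G) : Set G) := fun {x} hx hxo =>
      mem_centralizer_iff.2 fun s hs => hall x hx hxo s hs
    obtain ⟨n, hn, hne'⟩ := S.conj_eq_normalizer_conj_of_mem_centralizer z u⁻¹ (hcen hzS hzo) (by
      rw [inv_inv]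
      exact hcen hu ((Involutions.Basic.orderOf_conj_eq u z).trans hzo))
    rw [inv_inv] at hne'
    set m := n⁻¹
    have hm : m ∈ normalizer ((S : Subgroup G) : Set G) := inv_mem hn
    have hmove : m * z * m⁻¹ ≠ z := by
      rw [inv_inv, ← hne']
      exact hune
    -- `m ^ 6` centralises `z`
    have h6 : Commute (m ^ 6) z := by
      let σ : Equiv.Perm ↥(S : Subgroup G) :=
        { toFun := fun w => ⟨m * w * m⁻¹, (mem_normalizer_iff.1 hm _).1 w.2⟩
          invFun := fun w => ⟨m⁻¹ * w * m, (mem_normalizer_iff''.1 hm _).1 w.2⟩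
          left_inv := fun w => Subtype.ext (by simp [mul_assoc])
          right_inv := fun w => Subtype.ext (by simp [mul_assoc]) }
      let φ : Equiv.Perm {w : ↥(S : Subgroup G) // w ≠ 1} := σ.subtypePerm fun w => by
        constructor
        · intro h1 h2; exact h1 (by subst h2; exact Subtype.ext (by simp [σ]))
        · intro h1 h2
          exact h1 (Subtype.ext (conj_eq_one_iff.1 (congrArg Subtype.val h2)))
      have hcard : Nat.card (Equiv.Perm {w : ↥(S : Subgroup G) // w ≠ 1}) = 6 := by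
        rw [Nat.card_perm, Nat.card_eq_fintype_card, Fintype.card_subtype_compl,
          Fintype.card_subtype_eq, ← Nat.card_eq_fintype_card, h4]
        rfl
      have hiter : ∀ (k : ℕ) (w : {w : ↥(S : Subgroup G) // w ≠ 1}),
          (((φ ^ k) w).1 : G) = m ^ k * (w.1 : G) * (m ^ k)⁻¹ := by
        intro k
        induction k with
        | zero => simp
        | succ k ih =>
          intro w
          rw [pow_succ', Equiv.Perm.mul_apply]
          show m * (((φ ^ k) w).1 : G) * m⁻¹ = _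
          rw [ih, pow_succ']
          group
      have h1 := hiter 6 ⟨⟨z, hzS⟩, fun e => hz1 (congrArg Subtype.val e)⟩
      rw [← hcard, pow_card_eq_one'] at h1
      rw [hcard] at h1
      exact mul_inv_eq_iff_eq_mul.1 h1.symm
    -- split off the 3-part
    obtain ⟨j, c, hc, hjc⟩ := Nat.exists_eq_pow_mul_and_not_dvd (orderOf_pos m).ne' 2 (by norm_num)
    obtain ⟨i, e, he, hie⟩ := Nat.exists_eq_pow_mul_and_not_dvd
      (n := c) (fun h0 => hc (h0 ▸ dvd_zero 2)) 3 (by norm_num)
    have hS2 : IsPGroup 2 ↥(zpowers (m ^ c)) := by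
      have : (m ^ c) ^ 2 ^ j = 1 := by rw [← pow_mul, mul_comm, ← hjc, pow_orderOf_eq_one]
      obtain ⟨j', -, hj'⟩ := (Nat.dvd_prime_pow Nat.prime_two).1 (orderOf_dvd_of_pow_eq_one this)
      exact IsPGroup.of_card (n := j') (by rw [Nat.card_zpowers, hj'])
    have hcS : m ^ c ∈ (S : Subgroup G) :=
      ((hS2.inf_normalizer_sylow S).le ⟨mem_zpowers _, pow_mem hm c⟩).2
    have hcz : Commute (m ^ c) z := hall z hzS hzo _ hcS
    have h3c : Commute (m ^ (2 ^ j * e)) z := by
      have hp : PiP π (m ^ (2 ^ j * e)) := fun p hp hd => by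
        have h1 : (m ^ (2 ^ j * e)) ^ 3 ^ i = 1 := by
          rw [← pow_mul, show 2 ^ j * e * 3 ^ i = orderOf m by rw [hjc, hie]; ring,
            pow_orderOf_eq_one]
        rw [(Nat.prime_dvd_prime_iff_eq hp Nat.prime_three).1
          (hp.dvd_of_dvd_pow (hd.trans (orderOf_dvd_of_pow_eq_one h1)))]
        exact h3
      exact (h.hyp.commute (by rw [h4]; exact piNum_pow Nat.prime_two h.hyp.two 2) hp
        (pow_mem hm _) hzS).symm
    have key : ∀ {a b : ℕ}, Commute (m ^ a) z → Commute (m ^ b) z →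
        Commute (m ^ Nat.gcd a b) z := by
      intro a b ha hb
      have h1 : Commute (m ^ ((Nat.gcd a b : ℕ) : ℤ)) z := by
        rw [Nat.gcd_eq_gcd_ab, zpow_add, zpow_mul, zpow_mul, zpow_natCast, zpow_natCast]
        exact (ha.zpow_left _).mul_left (hb.zpow_left _)
      rwa [zpow_natCast] at h1
    have hg : Nat.gcd (Nat.gcd 6 c) (2 ^ j * e) = 1 := by
      refine Nat.eq_one_iff_not_exists_prime_dvd.2 fun p hp hd => ?_
      obtain ⟨hd1, hd2⟩ := Nat.dvd_gcd_iff.1 hd
      obtain ⟨hd6, hdc⟩ := Nat.dvd_gcd_iff.1 hd1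
      rcases (Nat.Prime.dvd_mul hp).1 (show p ∣ 2 * 3 from hd6) with h2 | h2
      · exact hc (((Nat.prime_dvd_prime_iff_eq hp Nat.prime_two).1 h2) ▸ hdc)
      · obtain rfl := (Nat.prime_dvd_prime_iff_eq hp Nat.prime_three).1 h2
        rcases (Nat.Prime.dvd_mul hp).1 hd2 with h5 | h5
        · exact absurd (hp.dvd_of_dvd_pow h5) (by decide)
        · exact he h5
    have := key (key h6 hcz) h3c
    rw [hg, pow_one] at this
    exact hmove (by rw [this.eq, mul_inv_cancel_right])
  -- the classification of groups with dihedral Sylow subgroups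
  have hna : ¬ IsMulCommutative G := fun hc => h.nonab fun a b => hc.is_comm.comm a b
  have hd : GorensteinWalter.HasDihedralSylow G := fun T => by
    refine ⟨2, le_rfl, ?_⟩
    haveI : IsKleinFour ↥(S : Subgroup G) := by
      haveI : Nontrivial ↥(S : Subgroup G) := ⟨⟨z, hzS⟩, 1, fun e => hz1 (congrArg Subtype.val e)⟩
      exact ⟨h4, (Monoid.exponent_eq_prime_iff Nat.prime_two).2 fun w hw =>
        orderOf_eq_prime (by rw [pow_two]; exact Subtype.ext (hsq w w.2)) hw⟩
    obtain ⟨e⟩ := IsKleinFour.nonempty_mulEquiv (G₁ := ↥(S : Subgroup G)) (G₂ := DihedralGroup 2)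
    exact ⟨(Sylow.equiv T S).trans e⟩
  rcases GorensteinWalter.known_of_propMain GorensteinWalter.propMainFinal G h.simple hna hd with
    ⟨F, iF, iT, hodd, hq, ⟨e⟩⟩ | ⟨⟨e⟩⟩
  · refine false_of_psl (F := F) h.hyp h3 hexp hodd hq
      (e.symm.toMonoidHom.comp (QuotientGroup.mk' _)) fun x => ?_
    rw [MonoidHom.comp_apply, MulEquiv.coe_toMonoidHom, MulEquiv.map_eq_one_iff,
      QuotientGroup.mk'_apply, QuotientGroup.eq_one_iff]
  · let p : Equiv.Perm (Fin 7) :=
      Equiv.swap 0 1 * Equiv.swap 1 2 * Equiv.swap 2 3 * Equiv.swap 4 5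
    have hp : p ∈ alternatingGroup (Fin 7) := by
      rw [Equiv.Perm.mem_alternatingGroup]
      simp [p]
    have hx := hexp (e.symm ⟨p, hp⟩) (by
      rw [← map_pow, MulEquiv.map_eq_one_iff]
      exact Subtype.ext (by decide : p ^ 4 = 1))
    rw [← map_pow, MulEquiv.map_eq_one_iff] at hx
    have h5 : p ^ 2 = 1 := congrArg Subtype.val hx
    exact absurd h5 (by decide)

end Cfsg.Agent.Lib.PiHomog3258.Local74
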