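import Cfsg.Agent.Lib.PiHomog3258.Main
import Cfsg.Agent.Lib.PiHomog3258.Five.Main
import Cfsg.Agent.Lib.PiHomog3258.Local74.FourGroup
import Cfsg.Agent.Lib.PiHomog3258.Local74.Final

/-!
# The last configuration of S3258 is impossible
-/

set_option autoImplicit false
set_option linter.unusedSectionVars false
set_option linter.style.haveILetI false

namespace Cfsg.Agent.Lib.PiHomog3258.Local74

universe u

/-- 2-rank two and all involutions central in a Sylow 2-subgroup is impossible. -/
theorem noCentralFour (π : Set ℕ) : NoCentralFour.{u} π := by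
  intro X _ _ h h2 hall
  haveI := h.simple
  have hna : ¬ IsMulCommutative X := fun hc => h.nonab fun a b => hc.is_comm.comm a b
  haveI : Fact (Nat.Prime 2) := ⟨Nat.prime_two⟩
  obtain ⟨S⟩ : Nonempty (Sylow 2 X) := inferInstance
  obtain ⟨z, t, hzS, htS, hzo, hto, hne, -⟩ := h.exists_central_four S
  rcases four_or_sixty4 hna h2 S hzS htS hzo hto hne (hall S) with h4 | D
  · exact false_of_four h S h4 hzS htS hzo hto hne (hall S)
  · obtain ⟨a, g, C⟩ := exists_conf h D
    rcases C.nilp_or_data with hn | ⟨f, K, L, r, hd⟩
    · exact U34Type98.Main.not_simple hna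
        (⟨hn, D.card, D.card_center, D.comm, D.center_sq, D.sq, D.invol⟩ : U34Type98.Data S)
    · exact Five.Main.not_data hd

end Cfsg.Agent.Lib.PiHomog3258.Local74
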