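import Cfsg.Agent.Lib.PiHomog3258.Local74.Classes
import Cfsg.Agent.Lib.TwoLengthExp.Main
import Cfsg.Agent.Lib.Balance.Connected
import Cfsg.Agent.Lib.BenderOne.LocalTools
import Cfsg.Agent.Lib.PGroups.UniqueInvolution
import Cfsg.Agent.Lib.PGroups.Omega
import Cfsg.Agent.S0217

/-!
# The main lemma: no invariant `r`-subgroup meets two centralisers
-/

set_option autoImplicit false
set_option linter.unusedSectionVars false
set_option linter.style.haveILetI false

namespace Cfsg.Agent.Lib.PiHomog3258.Local74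

open Subgroup
open scoped Pointwise

universe u

variable {G : Type u} [Group G] [Finite G] {π : Set ℕ}

theorem map_inf_centralizer_conj (O : Subgroup G) (m : G) :
    (O ⊓ centralizer (O : Set G)).map (MulAut.conj m).toMonoidHom =
      O.map (MulAut.conj m).toMonoidHom ⊓
        centralizer ((O.map (MulAut.conj m).toMonoidHom : Subgroup G) : Set G) := by
  ext x
  simp only [mem_map_equiv, mem_inf, mem_centralizer_iff, MulAut.conj_symm_apply, SetLike.mem_coe]
  constructor
  · rintro ⟨hx, hc⟩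
    refine ⟨hx, fun y hy => ?_⟩
    calc y * x = m * ((m⁻¹ * y * m) * (m⁻¹ * x * m)) * m⁻¹ := by group
      _ = m * ((m⁻¹ * x * m) * (m⁻¹ * y * m)) * m⁻¹ := by rw [hc _ hy]
      _ = x * y := by group
  · rintro ⟨hx, hc⟩
    refine ⟨hx, fun y hy => ?_⟩
    have h1 := hc (m * y * m⁻¹) (by simpa [mul_assoc] using hy)
    calc y * (m⁻¹ * x * m) = m⁻¹ * ((m * y * m⁻¹) * x) * m := by group
      _ = m⁻¹ * (x * (m * y * m⁻¹)) * m := by rw [h1]
      _ = m⁻¹ * x * m * y := by group

theorem map_valueSup {r : ℕ} (T : Subgroup G) (n : G) :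
    (Balance.valueSup (fun e => Cfsg.centralizerPPrimeCore r e) T).map
        (MulAut.conj n).toMonoidHom =
      Balance.valueSup (fun e => Cfsg.centralizerPPrimeCore r e)
        (T.map (MulAut.conj n).toMonoidHom) := by
  rw [Balance.valueSup, Balance.valueSup, Subgroup.map_iSup]
  refine le_antisymm (iSup_le fun e => ?_) (iSup_le fun e => ?_)
  · refine le_trans (Balance.centralizerPPrimeCore_conj n (e : G)).ge ?_
    exact le_iSup (fun a : {a : G // a ∈ T.map (MulAut.conj n).toMonoidHom ∧ a ≠ 1} =>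
      Cfsg.centralizerPPrimeCore r (a : G))
      ⟨n * e * n⁻¹, ⟨e, e.2.1, rfl⟩, fun h => e.2.2 (conj_eq_one_iff.1 h)⟩
  · obtain ⟨⟨_, ⟨d, hd, rfl⟩, he1⟩, rfl⟩ : ∃ x, x = e := ⟨_, rfl⟩
    refine le_trans (Balance.centralizerPPrimeCore_conj n d).le ?_
    exact le_iSup (fun a : {a : G // a ∈ T ∧ a ≠ 1} =>
      (Cfsg.centralizerPPrimeCore r (a : G)).map (MulAut.conj n).toMonoidHom)
      ⟨d, hd, fun h => he1 (by simp [h])⟩

/-- A normal subgroup of order `p²` is centralised by a subgroup of index at most `p`. -/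
theorem card_le_inf_centralizer {p : ℕ} [hp : Fact p.Prime] {Q T B : Subgroup G}
    (hQ : IsPGroup p ↥Q) (hTQ : T ≤ Q) (hTn : Q ≤ normalizer (T : Set G)) (hBQ : B ≤ Q)
    (hT : Cfsg.IsElementaryAbelian p T) (hTc : Nat.card ↥T = p ^ 2) :
    Nat.card ↥B ≤ p * Nat.card ↥(B ⊓ centralizer (T : Set G) : Subgroup G) := by
  haveI : (T.subgroupOf Q).Normal := normal_subgroupOf_of_le_normalizer hTn
  have hTne : T.subgroupOf Q ≠ ⊥ := fun h => by
    have h1 := Nat.card_congr (subgroupOfEquivOfLe hTQ).toEquiv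
    rw [h, card_bot, hTc] at h1
    exact absurd h1 (by have := Nat.one_lt_pow (show 2 ≠ 0 by norm_num) hp.out.one_lt; omega)
  obtain ⟨z, hz, hz1⟩ := (Subgroup.bot_or_exists_ne_one _).resolve_left
    (PGroups.normal_inf_center_ne_bot hQ (T.subgroupOf Q) hTne)
  have hzT : (z : G) ∈ T := hz.1
  have hzc : ∀ y ∈ Q, y * (z : G) = (z : G) * y := fun y hy =>
    congrArg Subtype.val (mem_center_iff.1 hz.2 ⟨y, hy⟩)
  have hzo : Nat.card ↥(zpowers (z : G)) = p := by
    rw [Nat.card_zpowers, PGroups.elemAb_orderOf hT hzT fun h => hz1 (Subtype.ext h)]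
  obtain ⟨t, htT, ht⟩ : ∃ t ∈ T, t ∉ zpowers (z : G) := by
    by_contra hc
    push Not at hc
    have h1 := card_le_of_le (H := T) (K := zpowers (z : G)) hc
    rw [hzo, hTc, pow_two] at h1
    exact absurd h1 (not_le.2 (lt_mul_of_one_lt_right hp.out.pos hp.out.one_lt))
  have hgen : zpowers t ⊔ zpowers (z : G) = T := by
    refine eq_of_le_of_card_ge (sup_le (zpowers_le.2 htT) (zpowers_le.2 hzT)) ?_
    rw [hTc]
    have ht1 : t ≠ 1 := fun h => ht (h ▸ one_mem _)
    have hd : zpowers t ⊓ zpowers (z : G) = ⊥ := by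
      by_contra h
      obtain ⟨c, hc, hc1⟩ := (Subgroup.bot_or_exists_ne_one _).resolve_left h
      have hco : orderOf c = p :=
        PGroups.elemAb_orderOf hT ((zpowers_le.2 hzT) hc.2) hc1
      have h1 : zpowers c = zpowers t := eq_of_le_of_card_ge (zpowers_le.2 hc.1) (by
        rw [Nat.card_zpowers, Nat.card_zpowers, hco, PGroups.elemAb_orderOf hT htT ht1])
      exact ht (zpowers_le.2 hc.2 (h1 ▸ mem_zpowers t))
    rw [Coprime.card_sup_of_disjoint (fun x hx => by
        obtain ⟨i, rfl⟩ := hx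
        refine centralizer_le_normalizer _ (mem_centralizer_iff.2 fun y hy => ?_)
        exact PGroups.elemAb_comm hT ((zpowers_le.2 hzT) hy) (zpow_mem htT i))
      (disjoint_iff.2 hd), hzo, Nat.card_zpowers, PGroups.elemAb_orderOf hT htT ht1, pow_two]
  set K := (centralizer ({t} : Set G)).subgroupOf B with hK
  have hker : K.map B.subtype ≤ B ⊓ centralizer (T : Set G) := by
    rintro _ ⟨b, hb, rfl⟩
    refine ⟨b.2, ?_⟩
    have h1 : T ≤ centralizer ({(b : G)} : Set G) := by
      rw [← hgen]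
      refine sup_le (zpowers_le.2 (mem_centralizer_singleton_iff.2
        (mem_centralizer_singleton_iff.1 hb).symm)) (zpowers_le.2 ?_)
      exact mem_centralizer_singleton_iff.2 (hzc b (hBQ b.2)).symm
    exact mem_centralizer_iff.2 fun y hy => mem_centralizer_singleton_iff.1 (h1 hy)
  have hle : Nat.card ↥K ≤ Nat.card ↥(B ⊓ centralizer (T : Set G) : Subgroup G) := by
    rw [← card_map_of_injective (f := B.subtype) B.subtype_injective]
    exact card_le_of_le hker
  have hinj : K.index ≤ Nat.card {x : G // x ∈ T ∧ x ≠ 1} := by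
    rw [index_eq_card]
    refine Nat.card_le_card_of_injective (Quotient.lift
      (fun b : ↥B => (⟨(b : G) * t * (b : G)⁻¹,
        (mem_normalizer_iff.1 (hTn (hBQ b.2)) t).1 htT,
        fun h => ht (conj_eq_one_iff.1 h ▸ one_mem _)⟩ : {x : G // x ∈ T ∧ x ≠ 1})) ?_) ?_
    · intro b c hbc
      have h1 := QuotientGroup.leftRel_apply.1 hbc
      refine Subtype.ext ?_
      have h2 := mem_centralizer_singleton_iff.1 (mem_subgroupOf.1 h1)
      push_cast at h2
      calc (b : G) * t * (b : G)⁻¹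
          = (b : G) * (t * ((b : G)⁻¹ * c)) * (c : G)⁻¹ := by group
        _ = (b : G) * ((b : G)⁻¹ * c * t) * (c : G)⁻¹ := by rw [h2]
        _ = (c : G) * t * (c : G)⁻¹ := by group
    · intro x y
      induction x using Quotient.inductionOn with
      | h b =>
      induction y using Quotient.inductionOn with
      | h c =>
      intro h
      have h1 := congrArg Subtype.val h
      simp only [Quotient.lift_mk] at h1
      refine Quotient.sound (QuotientGroup.leftRel_apply.2 (mem_subgroupOf.2 ?_))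
      rw [mem_centralizer_singleton_iff]
      push_cast
      calc (b : G)⁻¹ * c * t = (b : G)⁻¹ * ((c : G) * t * (c : G)⁻¹) * c := by group
        _ = (b : G)⁻¹ * ((b : G) * t * (b : G)⁻¹) * c := by rw [h1]
        _ = t * ((b : G)⁻¹ * c) := by group
  have hlt : Nat.card {x : G // x ∈ T ∧ x ≠ 1} < p ^ 2 := by
    rw [← hTc]
    refine Set.ncard_lt_ncard ?_ (Set.toFinite (T : Set G))
    exact ⟨fun x hx => hx.1, fun h => (h (one_mem T)).2 rfl⟩
  have hidx : K.index ≤ p := by
    obtain ⟨n, hn⟩ := IsPGroup.iff_card.1 (hQ.to_le hBQ)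
    obtain ⟨k, -, hk⟩ := (Nat.dvd_prime_pow hp.out).1 (hn ▸ index_dvd_card K)
    have h1 := lt_of_le_of_lt hinj hlt
    rw [hk] at h1 ⊢
    exact (Nat.pow_le_pow_right hp.out.pos
      (Nat.le_of_lt_succ ((Nat.pow_lt_pow_iff_right hp.out.one_lt).1 h1))).trans (pow_one p).le
  calc Nat.card ↥B = K.index * Nat.card ↥K := (index_mul_card K).symm
    _ ≤ _ := Nat.mul_le_mul hidx hle

namespace Conf

variable {S : Sylow 2 G} {a g : G} (C : Conf π S a g)
include C

local notation "V" => Five.zS S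

theorem isSolvable {H : Subgroup G} (hH : H ≠ ⊤) : Group.IsSolvable ↥H :=
  TwoLengthExp.isSolvable_of_isPSolvable_two (C.min.isPSolvable hH)

variable {r : ℕ} [hr : Fact r.Prime] (hrπ : r ∉ π)
include hrπ

omit hrπ in
theorem isFunctor {B : Subgroup G} (hB : Cfsg.IsElementaryAbelian r B) :
    Cfsg.IsSolvableSignalizerFunctor r B (fun e => Cfsg.centralizerPPrimeCore r e) := by
  refine ⟨⟨fun e _ _ => Balance.centralizerPPrimeCore_le e,
    fun e _ _ => Balance.not_dvd_card_centralizerPPrimeCore e, fun e he he1 b hb x hx => ?_,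
    fun e he he1 d hd hd1 => ?_⟩, fun e he he1 => ?_⟩
  · exact (mem_normalizer_iff.1 (Balance.centralizer_le_normalizer_centralizerPPrimeCore e
      (mem_centralizer_singleton_iff.2 (PGroups.elemAb_comm hB hb he))) x).1 hx
  · haveI := C.isSolvable (C.centralizer_ne_top hd1)
    exact Balance.balance_of_pLayer_eq_bot (PGroups.elemAb_orderOf hB he he1)
      (PGroups.elemAb_comm hB he hd) Balance.pLayer_eq_bot_of_isSolvable
  · haveI := C.isSolvable (C.centralizer_ne_top he1)
    exact Group.isSolvable_of_isSolvable_injective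
      (Subgroup.inclusion_injective (Balance.centralizerPPrimeCore_le e))

omit hrπ in
theorem valueSup_eq {B T : Subgroup G} (hB : Cfsg.IsElementaryAbelian r B)
    (h3 : r ^ 3 ≤ Nat.card ↥B) (hTB : T ≤ B) (h2 : r ^ 2 ≤ Nat.card ↥T) :
    Balance.valueSup (fun e => Cfsg.centralizerPPrimeCore r e) T =
        Balance.valueSup (fun e => Cfsg.centralizerPPrimeCore r e) B ∧
      ¬ r ∣ Nat.card ↥(Balance.valueSup (fun e => Cfsg.centralizerPPrimeCore r e) B) := by
  have hf := C.isFunctor hB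
  obtain ⟨hW, hWC⟩ := S0217.result B (fun x hx y hy => PGroups.elemAb_comm hB hx hy)
    (fun x hx => PGroups.elemAb_pow hB hx) h3 _ hf.1.1 hf.1.2.1 hf.1.2.2.1 hf.2 hf.1.2.2.2
  refine ⟨le_antisymm (iSup_le fun e => le_iSup (fun a : {a : G // a ∈ B ∧ a ≠ 1} =>
    Cfsg.centralizerPPrimeCore r (a : G)) ⟨e, hTB e.2.1, e.2.2⟩) ?_, hW⟩
  have hT := PGroups.elemAb_mono hB hTB
  haveI := hT.1
  have hncyc : ¬ IsCyclic ↥T := by
    intro hcyc
    have := Nat.le_of_dvd hr.out.pos (PGroups.elemAb_card_dvd_of_isCyclic hT)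
    have h4 : r < r ^ 2 := by rw [pow_two]; exact lt_mul_of_one_lt_right hr.out.pos hr.out.one_lt
    omega
  have hTW : T ≤ normalizer
      ((Balance.valueSup (fun e => Cfsg.centralizerPPrimeCore r e) B : Subgroup G) : Set G) := by
    intro x hx
    refine mem_normalizer_conj_iff.2 ?_
    rw [map_valueSup, mem_normalizer_conj_iff.1 (le_normalizer (hTB hx))]
  obtain ⟨m, hm⟩ := IsPGroup.iff_card.1 (PGroups.elemAb_isPGroup hT)
  have hcop : (Nat.card ↥T).Coprime
      (Nat.card ↥(Balance.valueSup (fun e => Cfsg.centralizerPPrimeCore r e) B)) := by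
    rw [hm]; exact (hr.out.coprime_iff_not_dvd.2 hW).pow_left m
  rw [← Coprime.iSup_centralizer_eq hncyc hTW hcop]
  refine iSup₂_le fun e he => ?_
  rw [Balance.valueSup, hWC e (hTB he.1) he.2]
  exact le_iSup (fun a : {a : G // a ∈ T ∧ a ≠ 1} => Cfsg.centralizerPPrimeCore r (a : G))
    ⟨e, he.1, he.2⟩

omit hrπ in
/-- Every subgroup of rank three of `Q` gives the same closure as a normal one of rank two. -/
theorem valueSup_connected {Q T B : Subgroup G} (hQ : IsPGroup r ↥Q) (hTQ : T ≤ Q)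
    (hTn : Q ≤ normalizer (T : Set G)) (hT : Cfsg.IsElementaryAbelian r T)
    (hTc : Nat.card ↥T = r ^ 2) (hBQ : B ≤ Q) (hB : Cfsg.IsElementaryAbelian r B)
    (h3 : r ^ 3 ≤ Nat.card ↥B) :
    Balance.valueSup (fun e => Cfsg.centralizerPPrimeCore r e) B =
      Balance.valueSup (fun e => Cfsg.centralizerPPrimeCore r e) T := by
  set B1 := B ⊓ centralizer (T : Set G) with hB1
  have h1 : r ^ 2 ≤ Nat.card ↥B1 := by
    have h := h3.trans (card_le_inf_centralizer hQ hTQ hTn hBQ hT hTc)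
    rw [pow_succ'] at h
    exact Nat.le_of_mul_le_mul_left h hr.out.pos
  have hs : Cfsg.IsElementaryAbelian r (B1 ⊔ T) :=
    PGroups.elemAb_sup (PGroups.elemAb_mono hB inf_le_left) hT fun x hx y hy =>
      (mem_centralizer_iff.1 hx.2 y hy).symm
  have hs3 : r ^ 3 ≤ Nat.card ↥(B1 ⊔ T : Subgroup G) := by
    by_contra hc
    obtain ⟨m, hm⟩ := IsPGroup.iff_card.1 (PGroups.elemAb_isPGroup hs)
    have hle : Nat.card ↥(B1 ⊔ T : Subgroup G) ≤ r ^ 2 := by
      rw [hm] at hc ⊢
      refine Nat.pow_le_pow_right hr.out.pos ?_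
      by_contra hm2
      exact hc (Nat.pow_le_pow_right hr.out.pos (by omega))
    have e1 : B1 = B1 ⊔ T := eq_of_le_of_card_ge le_sup_left (hle.trans h1)
    have hTB : T ≤ B := (le_sup_right.trans e1.ge).trans inf_le_left
    have e2 : B1 = B := inf_eq_left.2 fun x hx => mem_centralizer_iff.2 fun y hy =>
      PGroups.elemAb_comm hB (hTB hy) hx
    rw [← e1, e2] at hle
    exact absurd (h3.trans hle) (not_le.2 (Nat.pow_lt_pow_right hr.out.one_lt (by norm_num)))
  rw [← (C.valueSup_eq hB h3 inf_le_left h1).1, (C.valueSup_eq hs hs3 le_sup_left h1).1,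
    (C.valueSup_eq hs hs3 le_sup_right hTc.ge).1]

/-- The main lemma. -/
theorem false_of_two_meets {M : Subgroup G} (hM : M ≠ ⊤)
    (hmax : ∀ K : Subgroup G, M ≤ K → K ≠ ⊤ → K = M) (haM : centralizer ({a} : Set G) ≤ M)
    {O : Subgroup G} (hOM : O ≤ M) (hOr : IsPGroup r ↥O) (hOn : M ≤ normalizer (O : Set G))
    {E : Subgroup G} (hEO : E ≤ O) (hE : Cfsg.IsElementaryAbelian r E)
    (hE3 : r ^ 3 ≤ Nat.card ↥E)
    {U : Subgroup G} (hU : Inv V r U) {v w : G} (hv : v ∈ V) (hv1 : v ≠ 1)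
    (hw : w ∈ V) (hw1 : w ≠ 1) (hvw : v ≠ w) (hmv : Meets U v) (hmw : Meets U w) : False := by
  have hr2 := C.ne_two hrπ
  have hVM : V ≤ M := (C.zS_le_centralizer C.a_mem).trans haM
  have hOinv : Inv V r O := ⟨hVM.trans hOn, hOr⟩
  have hEne : E ≠ ⊥ := fun h => by
    rw [h, card_bot] at hE3
    have := Nat.one_lt_pow (show 3 ≠ 0 by norm_num) hr.out.one_lt
    omega
  have hOne : O ≠ ⊥ := fun h => hEne (le_bot_iff.1 (h ▸ hEO))
  obtain ⟨P, hP, hOP⟩ := C.exists_invSyl_ge hrπ hM (hVM.trans le_normalizer) hOinv hOM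
  obtain ⟨Q, hQ, hPQ⟩ := exists_isMax hP.1
  have hQne : Q ≠ ⊥ := fun h => hOne (le_bot_iff.1 (h ▸ hOP.trans hPQ))
  obtain ⟨σ, hσQ, hσ⟩ := C.exists_normalizing hrπ hU hv hv1 hw hw1 hvw hmv hmw hQ hQne
  have hEQ : E ≤ Q := hEO.trans (hOP.trans hPQ)
  -- a normal subgroup of rank two of `Q`
  obtain ⟨T, hTQ, hTn, hT, hTc⟩ : ∃ T : Subgroup G, T ≤ Q ∧ Q ≤ normalizer (T : Set G) ∧
      Cfsg.IsElementaryAbelian r T ∧ Nat.card ↥T = r ^ 2 := by
    have hnc : ¬ IsCyclic ↥Q := by
      intro hcyc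
      haveI : IsCyclic ↥E := isCyclic_of_injective (Subgroup.inclusion hEQ) (inclusion_injective hEQ)
      have := Nat.le_of_dvd hr.out.pos (PGroups.elemAb_card_dvd_of_isCyclic hE)
      have h4 : r < r ^ 3 := lt_of_eq_of_lt (pow_one r).symm
        (Nat.pow_lt_pow_right hr.out.one_lt (by norm_num))
      omega
    obtain ⟨T, hTn, hT, hTc⟩ := PGroups.exists_normal_elemAb_sq hr2 hQ.1.2 hnc
    haveI := hTn
    refine ⟨T.map Q.subtype, map_subtype_le _, ?_, PGroups.elemAb_map _ hT,
      by rw [card_map_of_injective Q.subtype_injective, hTc]⟩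
    have h1 := le_normalizer_map (Q.subtype) (H := T)
    rw [normalizer_eq_top_iff.2 hTn, ← MonoidHom.range_eq_map, range_subtype] at h1
    exact h1
  set W := Balance.valueSup (fun e => Cfsg.centralizerPPrimeCore r e) T with hW
  have hWB : ∀ B : Subgroup G, B ≤ Q → Cfsg.IsElementaryAbelian r B → r ^ 3 ≤ Nat.card ↥B →
      Balance.valueSup (fun e => Cfsg.centralizerPPrimeCore r e) B = W :=
    fun B hBQ hB h3 => C.valueSup_connected hQ.1.2 hTQ hTn hT hTc hBQ hB h3
  by_cases hWne : W = ⊥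
  swap
  · have hnd : ¬ r ∣ Nat.card ↥W := hWB E hEQ hE hE3 ▸ (C.valueSup_eq hE hE3 le_rfl
      (le_trans (Nat.pow_le_pow_right hr.out.pos (by norm_num)) hE3)).2
    have hWtop : W ≠ ⊤ := fun h => hnd (by
      rw [h, card_top]
      obtain ⟨x, hx, hxo⟩ := PGroups.exists_orderOf_eq_prime_of_ne_bot hOr hOne
      exact hxo ▸ orderOf_dvd_natCard x)
    have hMW : M ≤ normalizer (W : Set G) := fun m hm => by
      refine mem_normalizer_conj_iff.2 ?_
      have h1 : E.map (MulAut.conj m).toMonoidHom ≤ Q :=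
        ((Subgroup.map_mono hEO).trans (mem_normalizer_conj_iff.1 (hOn hm)).le).trans
          (hOP.trans hPQ)
      conv_lhs => rw [← hWB E hEQ hE hE3]
      rw [map_valueSup, hWB _ h1 (PGroups.elemAb_conj m hE)
        (by rw [card_map_of_injective (MulAut.conj m).injective]; exact hE3)]
    have hσW : σ ∈ normalizer (W : Set G) := by
      refine mem_normalizer_conj_iff.2 ?_
      rw [hW, map_valueSup]
      have hQσ := mem_normalizer_conj_iff.1 hσQ
      have hTσ : T.map (MulAut.conj σ).toMonoidHom ≤ Q :=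
        (Subgroup.map_mono hTQ).trans hQσ.le
      have hTσn : Q ≤ normalizer ((T.map (MulAut.conj σ).toMonoidHom : Subgroup G) : Set G) := by
        refine le_trans ?_ (le_normalizer_map _)
        conv_lhs => rw [← hQσ]
        exact Subgroup.map_mono hTn
      rw [← C.valueSup_connected hQ.1.2 hTσ hTσn (PGroups.elemAb_conj σ hT)
        (by rw [card_map_of_injective (MulAut.conj σ).injective]; exact hTc) hEQ hE hE3,
        hWB E hEQ hE hE3]
    have heq := hmax _ hMW (C.normalizer_ne_top hWne hWtop)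
    exact C.false_of_moving hM haM (heq ▸ hσW) hσ
  -- now all values vanish
  have hvan : ∀ B : Subgroup G, B ≤ Q → Cfsg.IsElementaryAbelian r B → r ^ 3 ≤ Nat.card ↥B →
      ∀ e ∈ B, e ≠ 1 → Cfsg.centralizerPPrimeCore r e = ⊥ := fun B hBQ hB h3 e he he1 => by
    have h := hWB B hBQ hB h3
    rw [hWne] at h
    exact le_bot_iff.1 (h ▸ le_iSup (fun a : {a : G // a ∈ B ∧ a ≠ 1} =>
      Cfsg.centralizerPPrimeCore r (a : G)) ⟨e, he, he1⟩)
  set A := Cfsg.omegaOne r (O ⊓ centralizer (O : Set G)) with hA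
  have hcomm : IsMulCommutative ↥(O ⊓ centralizer (O : Set G) : Subgroup G) :=
    ⟨⟨fun x y => Subtype.ext (mem_centralizer_iff.1 y.2.2 x x.2.1)⟩⟩
  have hAO : A ≤ O := (PGroups.omegaOne_le r _).trans inf_le_left
  have hAea : Cfsg.IsElementaryAbelian r A := PGroups.elemAb_omegaOne hcomm
  have hAne : A ≠ ⊥ := by
    refine PGroups.omegaOne_ne_bot (hOr.to_le inf_le_left) fun h => ?_
    haveI := (nontrivial_iff_ne_bot O).2 hOne
    haveI := hOr.center_nontrivial
    obtain ⟨z, hz1⟩ := exists_ne (1 : Subgroup.center ↥O)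
    refine hz1 (Subtype.ext (Subtype.ext ?_))
    have h1 : ((z : ↥O) : G) ∈ O ⊓ centralizer (O : Set G) := ⟨(z : ↥O).2,
      mem_centralizer_iff.2 fun y hy => congrArg Subtype.val (mem_center_iff.1 z.2 ⟨y, hy⟩)⟩
    rw [h, mem_bot] at h1
    exact h1
  have hMA : M ≤ normalizer (A : Set G) := fun m hm => by
    refine mem_normalizer_conj_iff.2 ?_
    have h1 := mem_normalizer_conj_iff.1 (hOn hm)
    rw [hA, PGroups.map_omegaOne_of_injective _ (MulAut.conj m).injective,
      map_inf_centralizer_conj, h1]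
  have hAM : A ≤ M := hAO.trans hOM
  have hAr : IsPGroup r ↥A := PGroups.elemAb_isPGroup hAea
  have hNA := hmax _ hMA (C.normalizer_ne_top hAne fun h => hM (eq_top_iff.2 (h ▸ hAM)))
  -- `O_{r'}` of the core of `M` is trivial
  set K := piCore π M with hK
  set D := Balance.coreIn r K with hD
  have hMD : M ≤ normalizer (D : Set G) :=
    (le_normalizer_piCore M).trans (Balance.normalizer_le_normalizer_coreIn K)
  have hDM : D ≤ M := (Balance.coreIn_le K).trans (piCore_le M)
  have hcopD : (Nat.card ↥D).Coprime r := Balance.coreIn_coprime K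
  have hinf : ∀ {R : Subgroup G}, IsPGroup r ↥R → D ⊓ R = ⊥ := fun {R} hR => by
    obtain ⟨n, hn⟩ := IsPGroup.iff_card.1 hR
    exact Coprime.inf_eq_bot_of_coprime (hn ▸ hcopD.pow_right n)
  have hDO : ∀ d ∈ D, ∀ o ∈ O, d * o = o * d := fun d hd o ho => by
    have h1 : d * o * d⁻¹ * o⁻¹ ∈ D ⊓ O := by
      refine ⟨?_, O.mul_mem ((mem_normalizer_iff.1 (hOn (hDM hd)) o).1 ho) (O.inv_mem ho)⟩
      rw [mul_assoc d, mul_assoc d]
      exact D.mul_mem hd ((mem_normalizer_iff.1 (hMD (hOM ho)) _).1 (D.inv_mem hd))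
    rw [hinf hOr, mem_bot, mul_inv_eq_one, mul_inv_eq_iff_eq_mul] at h1
    exact h1
  have hDbot : D = ⊥ := by
    obtain ⟨e, he, he1⟩ := (Subgroup.bot_or_exists_ne_one _).resolve_left hAne
    have hθ : Cfsg.centralizerPPrimeCore r e = ⊥ := by
      have hEe : Cfsg.IsElementaryAbelian r (E ⊔ zpowers e) :=
        PGroups.elemAb_sup hE (PGroups.elemAb_zpowers (PGroups.elemAb_pow hAea he)) fun x hx y hy => by
          have hce : e ∈ O ⊓ centralizer (O : Set G) := PGroups.omegaOne_le r _ he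
          obtain ⟨i, rfl⟩ := hy
          exact ((show Commute x e from mem_centralizer_iff.1 hce.2 x (hEO hx)).zpow_right i).eq
      refine hvan (E ⊔ zpowers e) (sup_le hEQ (zpowers_le.2 (hPQ (hOP (hAO he))))) hEe
        (hE3.trans (card_le_of_le le_sup_left)) e (mem_sup_right (mem_zpowers e)) he1
    set L := centralizer ({e} : Set G) with hL
    haveI := C.isSolvable (C.centralizer_ne_top he1)
    have hcore : Cfsg.pPrimeCore r ↥L = ⊥ := by
      rw [Balance.centralizerPPrimeCore_eq] at hθ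
      exact (Subgroup.map_eq_bot_iff_of_injective _ L.subtype_injective).1 hθ
    have hcf := PSolvable.centralizer_pCore_le
      (PSolvable.isPSolvable_of_isSolvable (p := r) (G := ↥L)) hcore
    set R := (Cfsg.pCore r ↥L).map L.subtype with hR
    have hRr : IsPGroup r ↥R := (Cores.pCore_isPGroup r).map _
    have hLR : L ≤ normalizer (R : Set G) := Balance.le_normalizer_map_pCore L
    have hAL : A ≤ L := fun x hx => mem_centralizer_singleton_iff.2 (PGroups.elemAb_comm hAea hx he)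
    refine eq_bot_iff.2 fun d hd => mem_bot.2 ?_
    have hdL : d ∈ L := mem_centralizer_singleton_iff.2 (hDO d hd e (hAO he))
    have hdcop : (orderOf d).Coprime r := hcopD.coprime_dvd_left (orderOf_dvd_natCard D hd)
    have h1 := CharP.commute_of_axb (p := r) hAr (x := d) hdcop
      (fun b hb => hDO d hd b (hAO hb)) hRr (hAL.trans hLR) (hLR hdL) fun u hu hub => by
        have huM : u ∈ M := hNA ▸ centralizer_le_normalizer _
          (mem_centralizer_iff.2 fun y hy => (hub y hy).symm.eq)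
        have h2 : d * u * d⁻¹ * u⁻¹ ∈ D ⊓ R := by
          refine ⟨?_, R.mul_mem ((mem_normalizer_iff.1 (hLR hdL) u).1 hu) (R.inv_mem hu)⟩
          rw [mul_assoc d, mul_assoc d]
          exact D.mul_mem hd ((mem_normalizer_iff.1 (hMD huM) _).1 (D.inv_mem hd))
        rw [hinf hRr, mem_bot, mul_inv_eq_one, mul_inv_eq_iff_eq_mul] at h2
        exact h2
    have h2 : (⟨d, hdL⟩ : ↥L) ∈ Cfsg.pCore r ↥L := hcf (mem_centralizer_iff.2 fun y hy =>
      Subtype.ext (h1 (y : G) ⟨y, hy, rfl⟩).eq.symm)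
    have h3 : d ∈ D ⊓ R := ⟨hd, ⟨_, h2, rfl⟩⟩
    rw [hinf hRr, mem_bot] at h3
    exact h3
  -- `Z(J(P))`
  have hPodd : Odd (Nat.card ↥P) := C.odd_inv hrπ hP.1
  set Z := Cfsg.centerThompsonAOf P with hZ
  have hPne : P ≠ ⊥ := fun h => hOne (le_bot_iff.1 (h ▸ hOP))
  have hZne : Z ≠ ⊥ := BenderOne.LocalTools.zj_ne_bot (p := r) hP.1.2 hPne
  have hKZ : K ≤ normalizer (Z : Set G) :=
    BenderOne.LocalTools.le_normalizer_zj (C.odd_piCore hM) hr2 hP.2 hDbot
  have hMZ : M ≤ normalizer (Z : Set G) := by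
    intro m hm
    obtain ⟨P₁, hP₁⟩ := Coprime.exists_sylow_of_card hP.2.1 hP.2.2
    have hKm : K.map (MulAut.conj m).toMonoidHom = K :=
      mem_normalizer_conj_iff.1 (le_normalizer_piCore M hm)
    obtain ⟨P₂, hP₂⟩ := Coprime.exists_sylow_of_card
      (K := K) (H := P.map (MulAut.conj m).toMonoidHom) ((Subgroup.map_mono hP.2.1).trans hKm.le)
      (by rw [card_map_of_injective (MulAut.conj m).injective, hP.2.2])
    obtain ⟨k, hk, hkP⟩ := Coprime.exists_conj_sylow_map P₁ P₂
    rw [hP₁, hP₂, Coprime.conj_smul_eq_map] at hkP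
    have h1 : k⁻¹ * m ∈ normalizer (P : Set G) := by
      refine mem_normalizer_conj_iff.2 ?_
      rw [← map_conj_trans, ← hkP]
      exact (map_conj_trans P k k⁻¹).trans (by rw [inv_mul_cancel, map_conj_id])
    have h2 := mul_mem (hKZ hk) (ZJ.normalizer_le_normalizer_centerThompsonA P h1)
    rwa [mul_inv_cancel_left] at h2
  have hNZ := hmax _ hMZ (C.normalizer_ne_top hZne fun h => C.inv_ne_top hrπ hP.1
    (eq_top_iff.2 (h ▸ ZJ.centerThompsonAOf_le P)))
  have hQP : P = Q := by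
    by_contra hne
    refine Balance.lt_normalizer_inf hQ.1.2 hPQ hne ?_
    set N := normalizer (P : Set G) ⊓ Q
    have hNM : N ≤ M := fun x hx => hNZ ▸ ZJ.normalizer_le_normalizer_centerThompsonA P hx.1
    have hNK : N ≤ K := C.le_piCore hr.out hrπ (hQ.1.2.to_le inf_le_right) hNM
    have hPN : P ≤ N := le_inf le_normalizer hPQ
    refine (eq_of_le_of_card_ge hPN ?_).ge
    rw [hP.2.2]
    obtain ⟨n, hn⟩ := IsPGroup.iff_card.1 (hQ.1.2.to_le (inf_le_right : N ≤ Q))
    rw [hn]
    refine Nat.le_of_dvd (pow_pos hr.out.pos _) ?_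
    have h1 : r ^ n ∣ Nat.card ↥K := hn ▸ card_dvd_of_le hNK
    exact pow_dvd_pow r ((Nat.Prime.pow_dvd_iff_le_factorization hr.out Nat.card_pos.ne').1 h1)
  exact C.false_of_moving hM haM
    (hNZ ▸ ZJ.normalizer_le_normalizer_centerThompsonA P (hQP.symm ▸ hσQ)) hσ

end Conf

end Cfsg.Agent.Lib.PiHomog3258.Local74
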